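import Groth.Agent.Mag88.Sep

/-! Actions of monoid schemes over a field with a dense unit group. -/

universe u

set_option backward.isDefEq.respectTransparency false
set_option backward.isDefEq.respectTransparency.types false

open CategoryTheory CategoryTheory.Limits MonoidalCategory CartesianMonoidalCategory MonObj AlgebraicGeometry
open Opposite Magnet Magnet.MonAct

namespace Groth.Agent.Mag88

variable {k : Type u} [Field k]

local notation "S₀" => Spec (CommRingCat.of k)

theorem flat_over_field (T : Over S₀) : Flat T.hom := by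
  haveI : Subsingleton S₀ := inferInstanceAs (Subsingleton (PrimeSpectrum k))
  infer_instance

theorem isPullback_fst {S : Scheme.{u}} {A B : Over S} (i : A ⟶ B) (T : Over S) :
    IsPullback (fst A T) (i ▷ T) i (fst B T) := by
  refine ⟨⟨(whiskerRight_fst _ _).symm⟩, ⟨PullbackCone.IsLimit.mk _
    (fun s => lift s.fst (s.snd ≫ snd _ _)) (fun s => ?_) (fun s => ?_) (fun s m h₁ h₂ => ?_)⟩⟩
  · exact lift_fst _ _
  · apply CartesianMonoidalCategory.hom_ext
    · simp [s.condition]
    · simp
  · apply CartesianMonoidalCategory.hom_ext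
    · simp [← h₁]
    · simp [← h₂]

theorem isSTD_whiskerRight {G M : Over S₀} (i : G ⟶ M) [QuasiCompact i.left] [IsSchemeTheoreticallyDominant i.left]
    (T : Over S₀) : IsSchemeTheoreticallyDominant (i ▷ T).left := by
  haveI : Flat (fst M T).left := by
    rw [Over.fst_left]
    exact MorphismProperty.pullback_fst (P := @Flat.{u}) _ _ (flat_over_field T)
  exact IsSchemeTheoreticallyDominant.of_isPullback (f := i.left) (g := (fst M T).left)
    ((isPullback_fst i T).map (Over.forget S₀))

theorem quasiCompact_whiskerRight {G M : Over S₀} (i : G ⟶ M) [QuasiCompact i.left] (T : Over S₀) :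
    QuasiCompact (i ▷ T).left :=
  MorphismProperty.of_isPullback (P := @QuasiCompact.{u}) ((isPullback_fst i T).map (Over.forget S₀)) ‹_›

theorem exists_monAct_of_closedImm {M G X Z : Over S₀} [MonObj M] [GrpObj G] (i : G ⟶ M) [IsMonHom i]
    [QuasiCompact i.left] [IsSchemeTheoreticallyDominant i.left]
    (a : MonAct M X) (b : AlgGrp.Action G Z) (j : Z ⟶ X) [IsClosedImmersion j.left]
    (hj : IsEquivariant (MonAct.ofAction b) (a.restrict i) j) :
    ∃ c : MonAct M Z, IsEquivariant c a j ∧ c.restrict i = MonAct.ofAction b := by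
  haveI := mono_of_closedImm j
  haveI := isSTD_whiskerRight i Z
  obtain ⟨ψ, hψ⟩ := exists_lift_of_isSTD (i ▷ Z) j ((M ◁ j) ≫ a.act) b.act (by
    rw [show b.act ≫ j = (MonAct.ofAction b).act ≫ j from rfl, hj, restrict_act, whisker_exchange_assoc])
  refine ⟨⟨ψ, ?_, ?_⟩, hψ, ?_⟩
  · rw [← cancel_mono j, Category.assoc, hψ, ← whisker_exchange_assoc, a.one_act]
    simp
  · rw [← cancel_mono j, Category.assoc, Category.assoc, Category.assoc, hψ, ← whisker_exchange_assoc, a.mul_act,
      ← MonoidalCategory.whiskerLeft_comp_assoc, hψ]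
    simp
  · apply MonAct.ext'
    rw [restrict_act, ← cancel_mono j, Category.assoc, hψ, hj, restrict_act]
    exact (whisker_exchange_assoc _ _ _).symm

end Groth.Agent.Mag88
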