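import Mathlib

/-! Representability in schemes over a base is Zariski local. -/

set_option autoImplicit false
universe u

set_option backward.isDefEq.respectTransparency false
set_option backward.isDefEq.respectTransparency.types false
set_option linter.style.haveILetI false

open CategoryTheory CategoryTheory.Limits AlgebraicGeometry Opposite

namespace Groth.Agent.Mag88.OverRep

variable {S : Scheme.{u}} (F : (Over S)ᵒᵖ ⥤ Type u)

theorem el_ext {T : Scheme.{u}} {s s' : T ⟶ S} (h : s = s') {x : F.obj (op (Over.mk s))} {x' : F.obj (op (Over.mk s'))}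
    (hx : x = F.map (Over.homMk (𝟙 T) (by simp [h]) : Over.mk s ⟶ Over.mk s').op x') :
    (⟨s, x⟩ : Σ s : T ⟶ S, F.obj (op (Over.mk s))) = ⟨s', x'⟩ := by
  subst h
  rw [hx, show (Over.homMk (𝟙 T) (by simp) : Over.mk s ⟶ Over.mk s) = 𝟙 _ from Over.OverMorphism.ext rfl,
    op_id, F.map_id]
  rfl

theorem map_map {A B C : Over S} (f : A ⟶ B) (g : B ⟶ C) (h : A ⟶ C) (e : f.left ≫ g.left = h.left) (x : F.obj (op C)) :
    F.map f.op (F.map g.op x) = F.map h.op x := by
  rw [← Functor.map_comp_apply, ← op_comp, show f ≫ g = h from Over.OverMorphism.ext e]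

theorem map_id' {A : Over S} (f : A ⟶ A) (e : f.left = 𝟙 _) (x : F.obj (op A)) : F.map f.op x = x := by
  rw [show f = 𝟙 A from Over.OverMorphism.ext e, op_id, F.map_id]
  rfl

theorem map_congr {A B : Over S} (f g : A ⟶ B) (e : f.left = g.left) (x : F.obj (op B)) :
    F.map f.op x = F.map g.op x := by
  rw [show f = g from Over.OverMorphism.ext e]

/-- A functor on schemes over `S` as a functor on schemes. -/
def bar : Scheme.{u}ᵒᵖ ⥤ Type u where
  obj T := Σ s : unop T ⟶ S, F.obj (op (Over.mk s))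
  map t := TypeCat.ofHom fun p => ⟨t.unop ≫ p.1, F.map (Over.homMk t.unop rfl : Over.mk (t.unop ≫ p.1) ⟶ Over.mk p.1).op p.2⟩
  map_id T := ConcreteCategory.hom_ext _ _ fun p => el_ext F (Category.id_comp _) (map_congr F _ _ rfl _)
  map_comp t t' := ConcreteCategory.hom_ext _ _ fun p =>
    el_ext F (Category.assoc _ _ _) (by
      change _ = F.map _ (F.map _ (F.map _ p.2))
      rw [← Functor.map_comp_apply, ← Functor.map_comp_apply, ← op_comp, ← op_comp]
      exact map_congr F _ _ (by simp) _)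

theorem isSheaf_bar (hF : Presheaf.IsSheaf (Scheme.zariskiTopology.over S) F) :
    Presheaf.IsSheaf Scheme.zariskiTopology.{u} (bar F) := by
  rw [isSheaf_iff_isSheaf_of_type] at hF ⊢
  intro U R hR x hx
  have hy : Presieve.IsSheafFor (yoneda.obj S) R.arrows :=
    (GrothendieckTopology.Subcanonical.isSheaf_of_isRepresentable (J := Scheme.zariskiTopology.{u}) (yoneda.obj S)) R hR
  have hxc : ∀ {V : Scheme.{u}} (f : V ⟶ U) (hf : R f) {W : Scheme.{u}} (t : W ⟶ V),
      x (t ≫ f) (R.downward_closed hf t) = (bar F).map t.op (x f hf) := fun f hf W t => by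
    have := hx t (𝟙 _) hf (R.downward_closed hf t) (by simp)
    rw [this, op_id, (bar F).map_id]
    rfl
  obtain ⟨s, hs, hsu⟩ := hy (fun V f hf => (x f hf).1) (by
    intro V₁ V₂ W g₁ g₂ f₁ f₂ h₁ h₂ e
    exact congrArg Sigma.fst (hx g₁ g₂ h₁ h₂ e))
  have hs' : ∀ {V : Scheme.{u}} (f : V ⟶ U) (hf : R f), f ≫ s = (x f hf).1 := fun f hf => hs f hf
  let R' : Sieve (Over.mk s) := (Sieve.overEquiv (Over.mk s)).symm R
  have hR' : R' ∈ (Scheme.zariskiTopology.over S) (Over.mk s) :=
    GrothendieckTopology.overEquiv_symm_mem_over _ _ _ hR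
  let y : Presieve.FamilyOfElements F R'.arrows := fun V g hg =>
    F.map (Over.homMk (𝟙 V.left) (by
      have h1 := hs' g.left hg
      have h2 := Over.w g
      simp only [Over.mk_hom] at h2
      simp [← h1, h2]) : V ⟶ Over.mk (x g.left hg).1).op (x g.left hg).2
  have hyc : y.Compatible := by
    rw [Presieve.compatible_iff_sieveCompatible]
    intro V W g t hg
    have hSig : ∀ {p q : Σ s : W.left ⟶ S, F.obj (op (Over.mk s))} (_ : p = q) (e₁ : W.hom = p.1) (e₂ : W.hom = q.1),
        F.map (Over.homMk (𝟙 W.left) (by simp [e₁]) : W ⟶ Over.mk p.1).op p.2 =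
          F.map (Over.homMk (𝟙 W.left) (by simp [e₂]) : W ⟶ Over.mk q.1).op q.2 := by
      rintro p _ rfl e₁ e₂; rfl
    have e₁ : W.hom = (x (t ≫ g).left (R'.downward_closed hg t)).1 := by
      rw [← hs' (t ≫ g).left (R'.downward_closed hg t)]; exact (Over.w (t ≫ g)).symm
    have e₂ : W.hom = t.left ≫ (x g.left hg).1 := by
      rw [← hs' g.left hg, ← Category.assoc]; exact (Over.w (t ≫ g)).symm
    refine (hSig (p := x (t ≫ g).left (R'.downward_closed hg t)) (q := (bar F).map t.left.op (x g.left hg))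
      (hxc g.left hg t.left) e₁ e₂).trans ?_
    change F.map _ (F.map _ (x g.left hg).2) = F.map t.op (F.map _ (x g.left hg).2)
    rw [← Functor.map_comp_apply, ← Functor.map_comp_apply, ← op_comp, ← op_comp]
    exact map_congr F _ _ (by simp) _
  obtain ⟨a, ha, hau⟩ := hF R' hR' y hyc
  refine ⟨⟨s, a⟩, fun V f hf => ?_, fun p hp => ?_⟩
  · have := ha (Over.homMk f rfl : Over.mk (f ≫ s) ⟶ Over.mk s) hf
    exact el_ext F (hs' f hf) this
  · obtain ⟨s', a'⟩ := p
    obtain rfl : s' = s := hsu s' fun V f hf => congrArg Sigma.fst (hp f hf)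
    refine congrArg (Sigma.mk s') (hau a' fun V g hg => ?_)
    have hSig : ∀ {p q : Σ s : V.left ⟶ S, F.obj (op (Over.mk s))} (_ : p = q) (e₁ : V.hom = p.1) (e₂ : V.hom = q.1),
        F.map (Over.homMk (𝟙 V.left) (by simp [e₁]) : V ⟶ Over.mk p.1).op p.2 =
          F.map (Over.homMk (𝟙 V.left) (by simp [e₂]) : V ⟶ Over.mk q.1).op q.2 := by
      rintro p _ rfl e₁ e₂; rfl
    have e₁ : V.hom = g.left ≫ s' := (Over.w g).symm
    refine Eq.trans ?_ (hSig (p := (bar F).map g.left.op ⟨s', a'⟩) (q := x g.left hg) (hp g.left hg) e₁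
      (e₁.trans (congrArg Sigma.fst (hp g.left hg))))
    change _ = F.map _ (F.map _ a')
    rw [← Functor.map_comp_apply, ← op_comp]
    exact map_congr F _ _ (by simp) _

theorem el_comp {W : Over S} (u : yoneda.obj W ⟶ F) {T T' U : Scheme.{u}} (s : T ⟶ S) (x : F.obj (op (Over.mk s)))
    (i : U ⟶ T) (w : Over.mk (i ≫ s) ⟶ W) (hw : u.app _ w = F.map (Over.homMk i rfl : Over.mk (i ≫ s) ⟶ Over.mk s).op x)
    (t : T' ⟶ U) :
    (⟨(t ≫ w.left) ≫ W.hom, u.app _ (Over.homMk (t ≫ w.left) rfl : Over.mk ((t ≫ w.left) ≫ W.hom) ⟶ W)⟩ :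
      Σ s : T' ⟶ S, F.obj (op (Over.mk s))) = (bar F).map (t ≫ i).op ⟨s, x⟩ := by
  have hc : (t ≫ w.left) ≫ W.hom = (t ≫ i) ≫ s := by
    rw [Category.assoc, Over.w w]; exact (Category.assoc _ _ _).symm
  refine el_ext F hc ?_
  change _ = F.map _ (F.map _ x)
  rw [← Functor.map_comp_apply, ← op_comp,
    ← map_map F (Over.homMk t (by rw [hc, Category.assoc]; rfl) : Over.mk ((t ≫ w.left) ≫ W.hom) ⟶ Over.mk (i ≫ s))
      (Over.homMk i rfl : Over.mk (i ≫ s) ⟶ Over.mk s) _ (by simp) x,
    ← hw]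
  let t' : Over.mk ((t ≫ w.left) ≫ W.hom) ⟶ Over.mk (i ≫ s) := Over.homMk t (by rw [hc, Category.assoc]; rfl)
  refine Eq.trans ?_ (NatTrans.naturality_apply u t'.op w)
  exact congrArg _ (Over.OverMorphism.ext rfl)

/-- A functor on schemes over `S` which is a Zariski sheaf and is covered by representable open subfunctors is
representable. -/
theorem exists_representableBy (hF : Presheaf.IsSheaf (Scheme.zariskiTopology.over S) F) {J : Type u} (W : J → Over S)
    (u : ∀ j, yoneda.obj (W j) ⟶ F)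
    (hinj : ∀ j (T : Over S), Function.Injective ((u j).app (op T)))
    (V : ∀ (T : Over S), F.obj (op T) → J → T.left.Opens)
    (hV : ∀ (T T' : Over S) (x : F.obj (op T)) (t : T' ⟶ T) (j : J),
      F.map t.op x ∈ Set.range ((u j).app (op T')) ↔ Set.range t.left ⊆ (V T x j : Set T.left))
    (hcov : ∀ (T : Over S) (x : F.obj (op T)) (p : T.left), ∃ j, p ∈ V T x j) :
    ∃ Z : Over S, Nonempty (F.RepresentableBy Z) := by
  let G : Sheaf Scheme.zariskiTopology.{u} (Type u) := ⟨bar F, isSheaf_bar F hF⟩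
  let f : ∀ j, yoneda.obj (W j).left ⟶ G.1 := fun j =>
    { app := fun T => TypeCat.ofHom fun w => ⟨w ≫ (W j).hom, (u j).app _ (Over.homMk w rfl : Over.mk (w ≫ (W j).hom) ⟶ W j)⟩
      naturality := fun T T' t => ConcreteCategory.hom_ext _ _ fun w => by
        refine el_ext F (Category.assoc t.unop w (W j).hom) ?_
        change _ = F.map _ (F.map _ ((u j).app _ _))
        rw [← NatTrans.naturality_apply (u j), ← NatTrans.naturality_apply (u j)]
        refine congrArg _ (Over.OverMorphism.ext ?_)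
        change t.unop ≫ w = 𝟙 _ ≫ t.unop ≫ w
        rw [Category.id_comp] }
  have hf : ∀ j, IsOpenImmersion.presheaf (f j) := fun j => by
    refine MorphismProperty.relative.of_exists fun T g => ?_
    let p : Σ s : T ⟶ S, F.obj (op (Over.mk s)) := yonedaEquiv g
    let U : T.Opens := V (Over.mk p.1) p.2 j
    let jU : Over.mk (U.ι ≫ p.1) ⟶ Over.mk p.1 := Over.homMk U.ι rfl
    obtain ⟨w, hw⟩ := (hV _ _ p.2 jU j).2 (Scheme.Opens.range_ι U).le
    have gapp : ∀ {T' : Scheme.{u}} (t : T' ⟶ T), g.app (op T') t = (bar F).map t.op p := fun t => by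
      have := yonedaEquiv_naturality g t
      rw [show p = yonedaEquiv g from rfl]
      exact (by rw [this]; simp [yonedaEquiv] : g.app _ t = (bar F).map t.op (yonedaEquiv g))
    refine ⟨U, yoneda.map w.left, U.ι, ?_, inferInstanceAs (IsOpenImmersion U.ι)⟩
    refine IsPullback.of_forall_isPullback_app fun T' => ?_
    rw [Types.isPullback_iff]
    refine ⟨?_, fun t t' h => (cancel_mono U.ι).1 h.2, fun (v : unop T' ⟶ (W j).left) (t : unop T' ⟶ T) h => ?_⟩
    · refine ConcreteCategory.hom_ext _ _ fun t => ?_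
      exact (el_comp F (u j) p.1 p.2 U.ι w hw t).trans (gapp (t ≫ U.ι)).symm
    · have h' : (⟨v ≫ (W j).hom, _⟩ : Σ s : unop T' ⟶ S, F.obj (op (Over.mk s))) = (bar F).map t.op p := h.trans (gapp t)
      have hs : v ≫ (W j).hom = t ≫ p.1 := congrArg Sigma.fst h'
      let v' : Over.mk (t ≫ p.1) ⟶ W j := Over.homMk v hs
      let t' : Over.mk (t ≫ p.1) ⟶ Over.mk p.1 := Over.homMk t rfl
      have hv : (u j).app _ v' = F.map t'.op p.2 := by
        have key : ∀ (s : unop T' ⟶ S) (e : v ≫ (W j).hom = s) (y : F.obj (op (Over.mk s))),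
            (⟨v ≫ (W j).hom, (u j).app _ (Over.homMk v rfl : Over.mk (v ≫ (W j).hom) ⟶ W j)⟩ :
              Σ s : unop T' ⟶ S, F.obj (op (Over.mk s))) = ⟨s, y⟩ → (u j).app _ (Over.homMk v e : Over.mk s ⟶ W j) = y := by
          intro s e y hy
          subst e
          exact eq_of_heq (Sigma.mk.inj_iff.1 hy).2
        exact key _ hs _ h'
      have hr : Set.range t ⊆ Set.range U.ι := by
        rw [Scheme.Opens.range_ι]
        exact (hV _ _ p.2 t' j).1 ⟨v', hv⟩
      let z : unop T' ⟶ U := IsOpenImmersion.lift U.ι t hr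
      have hz : z ≫ U.ι = t := IsOpenImmersion.lift_fac _ _ hr
      refine ⟨z, ?_, hz⟩
      let z' : Over.mk (t ≫ p.1) ⟶ Over.mk (U.ι ≫ p.1) := Over.homMk z (by simp [← hz])
      have : z' ≫ w = v' := hinj j _ (by
        rw [hv]
        change (u j).app _ ((yoneda.obj (W j)).map z'.op w) = _
        rw [NatTrans.naturality_apply, hw]
        exact map_map F z' jU t' hz p.2)
      exact congrArg Over.Hom.left this
  haveI : Presheaf.IsLocallySurjective Scheme.zariskiTopology.{u} (Sigma.desc f) := by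
    constructor
    intro T p
    obtain ⟨s, x⟩ := p
    choose idx hidx using hcov (Over.mk s) x
    let 𝒰 : T.OpenCover := Scheme.Cover.mkOfCovers (P := @IsOpenImmersion) T
      (fun q => (V (Over.mk s) x (idx q) : Scheme.{u})) (fun q => (V (Over.mk s) x (idx q)).ι)
      (fun q => ⟨q, ⟨q, hidx q⟩, rfl⟩) (fun q => inferInstance)
    refine GrothendieckTopology.superset_covering _ ?_ 𝒰.mem_grothendieckTopology
    rintro T' t ⟨T'', l, _, ⟨q⟩, rfl⟩
    let U := V (Over.mk s) x (idx q)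
    let jU : Over.mk (U.ι ≫ s) ⟶ Over.mk s := Over.homMk U.ι rfl
    obtain ⟨w, hw⟩ := (hV _ _ x jU (idx q)).2 (Scheme.Opens.range_ι U).le
    refine ⟨(Sigma.ι (fun j => yoneda.obj (W j).left) (idx q)).app _ (l ≫ w.left), ?_⟩
    rw [← NatTrans.comp_app_apply, Sigma.ι_desc]
    exact el_comp F (u (idx q)) s x U.ι w hw l
  let r := Scheme.LocalRepresentability.representableBy hf
  let Z₀ := (Scheme.LocalRepresentability.glueData hf).glued
  let p₀ : Σ s : Z₀ ⟶ S, F.obj (op (Over.mk s)) := r.homEquiv (𝟙 _)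
  have hr : ∀ {T : Scheme.{u}} (z : T ⟶ Z₀), r.homEquiv z = (bar F).map z.op p₀ := fun z => r.homEquiv_eq z
  have hb : ∀ T : Over S, Function.Bijective fun z : T ⟶ Over.mk p₀.1 => F.map z.op p₀.2 := fun T => by
    refine ⟨fun z z' h => Over.OverMorphism.ext (r.homEquiv.injective ?_), fun y => ?_⟩
    · change F.map z.op p₀.2 = F.map z'.op p₀.2 at h
      rw [hr, hr]
      have e : ∀ z : T ⟶ Over.mk p₀.1, (bar F).map z.left.op p₀ = ⟨T.hom, F.map z.op p₀.2⟩ := fun z =>
        el_ext F (Over.w z) (map_map F _ z _ (by simp) p₀.2).symm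
      exact (e z).trans ((congrArg (fun y => (⟨T.hom, y⟩ : Σ s : T.left ⟶ S, F.obj (op (Over.mk s)))) h).trans (e z').symm)
    · let z := r.homEquiv.symm (⟨T.hom, y⟩ : Σ s : T.left ⟶ S, F.obj (op (Over.mk s)))
      have hz : (bar F).map z.op p₀ = ⟨T.hom, y⟩ := (hr z).symm.trans (r.homEquiv.apply_symm_apply _)
      have hw : z ≫ p₀.1 = T.hom := congrArg Sigma.fst hz
      refine ⟨Over.homMk z hw, ?_⟩
      have key : ∀ (s : T.left ⟶ S) (e : z ≫ p₀.1 = s) (y : F.obj (op (Over.mk s))),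
          (bar F).map z.op p₀ = ⟨s, y⟩ → F.map (Over.homMk z e : Over.mk s ⟶ Over.mk p₀.1).op p₀.2 = y := by
        intro s e y hy
        subst e
        exact eq_of_heq (Sigma.mk.inj_iff.1 hy).2
      exact key _ hw y hz
  exact ⟨Over.mk p₀.1, ⟨{ homEquiv := fun {T} => Equiv.ofBijective _ (hb T)
                          homEquiv_comp := fun g h => congr($(F.map_comp h.op g.op) p₀.2) }⟩⟩

end Groth.Agent.Mag88.OverRep
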