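import Groth.Agent.Mag88.Dom
import Groth.Prelude.Def_Magnet3

/-! Consequences of scheme-theoretic density for attractors. -/

universe u

set_option backward.isDefEq.respectTransparency false
set_option backward.isDefEq.respectTransparency.types false

open CategoryTheory CategoryTheory.Limits MonoidalCategory CartesianMonoidalCategory MonObj AlgebraicGeometry
open Opposite Magnet Magnet.MonAct

namespace Groth.Agent.Mag88

variable {S : Scheme.{u}}

theorem exists_lift_of_isSTD {W W' X Z : Over S} (π : W' ⟶ W) [IsSchemeTheoreticallyDominant π.left]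
    (j : Z ⟶ X) [IsClosedImmersion j.left] (φ : W ⟶ X) (z : W' ⟶ Z) (h : z ≫ j = π ≫ φ) :
    ∃ ψ : W ⟶ Z, ψ ≫ j = φ := by
  let c := pullback.fst φ.left j.left
  have hle : c.ker ≤ π.left.ker := by
    rw [← pullback.lift_fst π.left z.left (by rw [← Over.comp_left, ← Over.comp_left, h]) (f := φ.left) (g := j.left)]
    exact Scheme.Hom.le_ker_comp _ _
  rw [π.left.ker_eq_bot, le_bot_iff] at hle
  haveI : IsIso c := IsClosedImmersion.isIso_iff_ker_eq_bot.2 hle
  have e : (inv c ≫ pullback.snd φ.left j.left) ≫ j.left = φ.left := by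
    rw [Category.assoc, ← pullback.condition, IsIso.inv_hom_id_assoc]
  refine ⟨Over.homMk (inv c ≫ pullback.snd φ.left j.left) ?_, Over.OverMorphism.ext e⟩
  rw [← Over.w j, ← Category.assoc, e, Over.w φ]

theorem mono_of_closedImm {X Z : Over S} (j : Z ⟶ X) [IsClosedImmersion j.left] : Mono j := by
  haveI : Mono ((Over.forget S).map j) := inferInstanceAs (Mono j.left)
  exact (Over.forget S).mono_of_mono_map this

section General

variable {A B X Z : Over S} [MonObj A] [MonObj B] (i : A ⟶ B) [IsMonHom i]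

/-- An equivariant family restricted to the monoid is the orbit map of its value at the unit. -/
theorem whiskerRight_comp_eqvHom (a : MonAct A X) {T : Over S}
    (φ : (eqvHom ((regular B).restrict i) a).obj (op T)) :
    (i ▷ T) ≫ φ.1 = (A ◁ (lift (toUnit T ≫ η[B]) (𝟙 T) ≫ φ.1)) ≫ a.act := by
  apply hom_ext_lift₂
  intro T' g t
  rw [lift_whiskerRight_assoc, lift_whiskerLeft_assoc, ← Category.assoc t, comp_lift, ← Category.assoc t,
    comp_toUnit, Category.comp_id, ← Hom.one_def]
  erw [← (mem_eqvHom_iff φ.1).1 φ.2 T' g 1 t]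
  rw [lift_restrict_act, lift_regular_act, _root_.mul_one]

/-- Evaluation at the unit is injective when the orbit is dense. -/
theorem evalAt_injective [IsSeparated X.hom] (a : MonAct A X) (T : Over S)
    [IsSchemeTheoreticallyDominant (i ▷ T).left] :
    Function.Injective (fun φ => (eqvHom.evalAt ((regular B).restrict i) a η[B]).app (op T) φ) := by
  intro φ φ' h
  apply Subtype.ext
  refine eq_of_isSTD (i ▷ T) _ _ ?_
  rw [whiskerRight_comp_eqvHom, whiskerRight_comp_eqvHom]
  exact congrArg (fun z => (A ◁ z) ≫ a.act) h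

/-- Closed stable subobjects: equivariant families whose value at the unit lies in `Z` lie in `Z`. -/
theorem isPullback_evalAt [∀ T : Over S, IsSchemeTheoreticallyDominant (i ▷ T).left]
    {aZ : MonAct A Z} {aX : MonAct A X} (j : Z ⟶ X) [IsClosedImmersion j.left] (hj : IsEquivariant aZ aX j) :
    IsPullback (eqvHom.postcomp ((regular B).restrict i) j hj) (eqvHom.evalAt ((regular B).restrict i) aZ η[B])
      (eqvHom.evalAt ((regular B).restrict i) aX η[B]) (yoneda.map j) := by
  haveI := mono_of_closedImm j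
  refine IsPullback.of_forall_isPullback_app fun T => ?_
  rw [Types.isPullback_iff]
  refine ⟨?_, fun φ φ' h => ?_, fun φ z h => ?_⟩
  · ext φ
    exact (Category.assoc _ _ _).symm
  · exact Subtype.ext ((cancel_mono j).1 (congrArg Subtype.val h.1))
  · have hz : ((A ◁ z) ≫ aZ.act) ≫ j = (i ▷ unop T) ≫ φ.1 := by
      rw [whiskerRight_comp_eqvHom, Category.assoc, hj]
      rw [← MonoidalCategory.whiskerLeft_comp_assoc]
      exact congrArg (fun z => (A ◁ z) ≫ aX.act) h.symm
    obtain ⟨ψ, hψ⟩ := exists_lift_of_isSTD (i ▷ unop T) j φ.1 _ hz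
    refine ⟨⟨ψ, (mem_eqvHom_iff ψ).2 fun T' g b t => ?_⟩, Subtype.ext hψ, ?_⟩
    · rw [← cancel_mono j, Category.assoc, Category.assoc, hψ, hj, lift_whiskerLeft_assoc, Category.assoc, hψ]
      exact (mem_eqvHom_iff φ.1).1 φ.2 T' g b t
    · refine (cancel_mono j).1 ?_
      exact ((Category.assoc _ _ _).trans (congrArg (_ ≫ ·) hψ)).trans h

end General

variable {M Z : Type} [AddCommMonoid M] [AddCommMonoid Z]

theorem isSTD_subtype (N : AddSubmonoid M) (T : Over S) :
    IsSchemeTheoreticallyDominant (AMonS.map S N.subtype ▷ T).left :=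
  isSTD_map N.subtype Subtype.val_injective T

theorem attrMap_injective (X : Over S) [IsSeparated X.hom] (a : MonAct (AMonS S M) X) {N N' : AddSubmonoid M}
    (h : N ≤ N') (T : Over S) :
    Function.Injective (fun φ => (attrMap a h).app (op T) φ) := by
  intro φ φ' e
  haveI := isSTD_map (S := S) (AddSubmonoid.inclusion h) (AddSubmonoid.inclusion_injective h) T
  exact Subtype.ext (eq_of_isSTD _ _ _ (congrArg Subtype.val e))

theorem isIso_attrComap_of_injective (f : M →+ Z) (hf : Function.Injective f) (Y : AddSubmonoid Z)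
    (hY : Y ≤ AddMonoidHom.mrange f) (X : Over S) [IsSeparated X.hom] (a : MonAct (AMonS S M) X) :
    IsIso (attrComap a f Y) := by
  let c : Y.comap f →+ Y := (f.comp (Y.comap f).subtype).codRestrict Y (fun x => x.2)
  have hc : Function.Bijective c := ⟨fun x y hxy => Subtype.ext (hf (congrArg Subtype.val hxy)),
    fun y => by
      obtain ⟨m, hm⟩ := hY y.2
      exact ⟨⟨m, by show f m ∈ Y; rw [hm]; exact y.2⟩, Subtype.ext hm⟩⟩
  let e : Y.comap f ≃+ Y := AddEquiv.ofBijective c hc
  have h1 : AMonS.map S c ≫ AMonS.map S e.symm.toAddMonoidHom = 𝟙 _ := by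
    rw [← AMonS.map_comp]
    refine aFn_ext fun m => ?_
    rw [← Category.id_comp (AMonS.map S _), aFn_map]
    exact congrArg (aFn (𝟙 (AMonS S Y))) (e.apply_symm_apply m)
  have h2 : AMonS.map S e.symm.toAddMonoidHom ≫ AMonS.map S c = 𝟙 _ := by
    rw [← AMonS.map_comp]
    refine aFn_ext fun m => ?_
    rw [← Category.id_comp (AMonS.map S _), aFn_map]
    exact congrArg (aFn (𝟙 (AMonS S (Y.comap f)))) (e.symm_apply_apply m)
  rw [NatTrans.isIso_iff_isIso_app]
  intro T
  rw [isIso_iff_bijective]
  refine ⟨fun φ φ' h => Subtype.ext ?_, fun ψ => ?_⟩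
  · have h' : (AMonS.map S c ▷ unop T) ≫ φ.1 = (AMonS.map S c ▷ unop T) ≫ φ'.1 := congrArg Subtype.val h
    have := congrArg ((AMonS.map S e.symm.toAddMonoidHom ▷ unop T) ≫ ·) h'
    simp only [← comp_whiskerRight_assoc, h2, id_whiskerRight, Category.id_comp] at this
    exact this
  · refine ⟨⟨(AMonS.map S e.symm.toAddMonoidHom ▷ unop T) ≫ ψ.1, ?_⟩, Subtype.ext ?_⟩
    · let P := AMonS S (Y.comap f) ⊗ unop T
      haveI := isSTD_map (S := S) f hf P
      change _ ≫ _ = _ ≫ _
      refine eq_of_isSTD (AMonS.map S f ▷ P) _ _ ?_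
      apply hom_ext_lift₂
      intro T' z p
      obtain ⟨b, t, rfl⟩ : ∃ (b : T' ⟶ AMonS S (Y.comap f)) (t : T' ⟶ unop T), lift b t = p :=
        ⟨p ≫ fst _ _, p ≫ snd _ _, by rw [← comp_lift, lift_fst_snd, Category.comp_id]⟩
      rw [lift_whiskerRight_assoc, lift_whiskerRight_assoc, lift_prod_act_assoc, lift_trivial_act,
        lift_whiskerRight_assoc, lift_whiskerLeft_assoc, lift_whiskerRight_assoc,
        ← lift_restrict_act (AMonS.map S f) a, ← (mem_eqvHom_iff ψ.1).1 ψ.2 T' z (b ≫ AMonS.map S e.symm.toAddMonoidHom) t]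
      congr 2
      simp only [subAct, lift_restrict_act, lift_regular_act]
      rw [MonObj.mul_comp]
      congr 1
      simp only [Category.assoc, ← AMonS.map_comp]
      congr 2
      ext y
      exact congrArg Subtype.val (e.apply_symm_apply y)
    · change (AMonS.map S c ▷ unop T) ≫ (AMonS.map S e.symm.toAddMonoidHom ▷ unop T) ≫ ψ.1 = ψ.1
      rw [← comp_whiskerRight_assoc, h1, id_whiskerRight, Category.id_comp]

end Groth.Agent.Mag88
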