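import Groth.Agent.Mag88.FormalBB

/-! Equivariant maps out of the affine line agreeing formally along the zero section are equal. -/

universe u

open CategoryTheory CategoryTheory.Limits MonoidalCategory CartesianMonoidalCategory MonObj AlgebraicGeometry
open Opposite

namespace Groth.Agent.Mag88

local notation "N₁" => AddSubmonoid.multiples (1 : ℤ)

/-- The ring map of a morphism to an affine scheme. -/
noncomputable def gFn {Z : Scheme.{u}} {R : CommRingCat.{u}} (g : Z ⟶ Spec R) : R ⟶ Γ(Z, ⊤) :=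
  (Scheme.ΓSpecIso R).inv ≫ g.appTop

theorem gFn_injective {Z : Scheme.{u}} {R : CommRingCat.{u}} {g g' : Z ⟶ Spec R} (h : gFn g = gFn g') : g = g' := by
  apply ext_of_isAffine
  exact (cancel_epi _).1 h

theorem gFn_comp {Z Z' : Scheme.{u}} {R : CommRingCat.{u}} (g : Z ⟶ Spec R) (q : Z' ⟶ Z) :
    gFn (q ≫ g) = gFn g ≫ q.appTop := by
  simp [gFn, Scheme.Hom.comp_appTop]

theorem gFn_specMap {Z : Scheme.{u}} {R R' : CommRingCat.{u}} (g : Z ⟶ Spec R) (φ : R' ⟶ R) :
    gFn (g ≫ Spec.map φ) = φ ≫ gFn g := by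
  rw [gFn, gFn, Scheme.Hom.comp_appTop, ← Scheme.ΓSpecIso_inv_naturality_assoc]

theorem gFn_toSpec {Z : Scheme.{u}} {R : CommRingCat.{u}} (φ : R ⟶ Γ(Z, ⊤)) :
    gFn (Z.toSpecΓ ≫ Spec.map φ) = φ := by
  rw [gFn_specMap, gFn, Scheme.toSpecΓ_appTop, Iso.inv_hom_id, Category.comp_id]

variable {S : Scheme.{u}} {T : Over S}

/-- The zero point. -/
noncomputable def zeroB (T : Over S) : T ⟶ Magnet.AMonS S N₁ := (exists_coord_eq 0).choose

theorem coord_zeroB (T : Over S) : coord (zeroB T) = 0 := (exists_coord_eq (0 : Γ(T.left, ⊤))).choose_spec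

/-- The zero section. -/
noncomputable def zeroSec (Y : Over S) : Y ⟶ Magnet.AMonS S N₁ ⊗ Y := lift (zeroB Y) (𝟙 Y)

theorem comp_zeroB {T' : Over S} (g : T' ⟶ T) : g ≫ zeroB T = zeroB T' :=
  coord_ext (by rw [coord_comp, coord_zeroB, coord_zeroB, map_zero])

section Chart

variable {Y : Over S} {R : CommRingCat.{u}} (j₀ : Spec R ⟶ Y.left)

/-- An affine chart. -/
noncomputable abbrev chartU : Over S := Over.mk (j₀ ≫ Y.hom)

/-- The affine line over an affine chart. -/
noncomputable abbrev chartQ : Over S :=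
  Over.mk (Spec.map (CommRingCat.ofHom (Polynomial.C : R →+* Polynomial R)) ≫ j₀ ≫ Y.hom)

/-- Its projection. -/
noncomputable def chartProj : chartQ j₀ ⟶ chartU j₀ :=
  Over.homMk (Spec.map (CommRingCat.ofHom (Polynomial.C : R →+* Polynomial R))) rfl

/-- The inclusion of the chart. -/
noncomputable def chartIncl : chartU j₀ ⟶ Y := Over.homMk j₀ rfl

/-- Its coordinate. -/
noncomputable def chartCoord : chartQ j₀ ⟶ Magnet.AMonS S N₁ :=
  (exists_coord_eq ((Scheme.ΓSpecIso (CommRingCat.of (Polynomial R))).inv Polynomial.X)).choose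

theorem coord_chartCoord : coord (chartCoord j₀) =
    (Scheme.ΓSpecIso (CommRingCat.of (Polynomial R))).inv Polynomial.X :=
  (exists_coord_eq (S := S) (T := chartQ j₀)
    ((Scheme.ΓSpecIso (CommRingCat.of (Polynomial R))).inv Polynomial.X)).choose_spec

theorem coord_comp_chartCoord {T : Over S} (g : T ⟶ chartQ j₀) :
    coord (g ≫ chartCoord j₀) = gFn g.left Polynomial.X := by
  rw [coord_comp, coord_chartCoord]
  rfl

/-- The comparison with the product. -/
noncomputable def chartMap : chartQ j₀ ⟶ Magnet.AMonS S N₁ ⊗ chartU j₀ :=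
  lift (chartCoord j₀) (chartProj j₀)

instance isIso_chartMap : IsIso (chartMap j₀).left := by
  let Z := Magnet.AMonS S N₁ ⊗ chartU j₀
  let ψ : CommRingCat.of (Polynomial R) ⟶ Γ(Z.left, ⊤) :=
    CommRingCat.ofHom (Polynomial.eval₂RingHom (gFn (snd _ _ : Z ⟶ chartU j₀).left).hom
      (coord (fst _ _ : Z ⟶ Magnet.AMonS S N₁)))
  have hd : (Z.left.toSpecΓ ≫ Spec.map ψ) ≫ Spec.map (CommRingCat.ofHom (Polynomial.C : R →+* Polynomial R)) =
      (snd _ _ : Z ⟶ chartU j₀).left := by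
    apply gFn_injective
    rw [gFn_specMap, gFn_toSpec]
    ext r
    simp [ψ]
  let d : Z ⟶ chartQ j₀ := Over.homMk (Z.left.toSpecΓ ≫ Spec.map ψ) (by
    change (Z.left.toSpecΓ ≫ Spec.map ψ) ≫ Spec.map _ ≫ j₀ ≫ Y.hom = Z.hom
    rw [← Category.assoc (Z.left.toSpecΓ ≫ Spec.map ψ), hd]
    exact Over.w (snd _ _ : Z ⟶ chartU j₀))
  have h1 : d ≫ chartMap j₀ = 𝟙 Z := by
    apply CartesianMonoidalCategory.hom_ext
    · rw [Category.assoc, chartMap, lift_fst, Category.id_comp]
      apply coord_ext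
      rw [coord_comp_chartCoord]
      change gFn (Z.left.toSpecΓ ≫ Spec.map ψ) Polynomial.X = _
      rw [gFn_toSpec]
      simp [ψ]
    · rw [Category.assoc, chartMap, lift_snd, Category.id_comp]
      exact Over.OverMorphism.ext hd
  have h2 : chartMap j₀ ≫ d = 𝟙 _ := by
    apply Over.OverMorphism.ext
    change (chartMap j₀).left ≫ Z.left.toSpecΓ ≫ Spec.map ψ = 𝟙 _
    apply gFn_injective
    rw [gFn_comp, gFn_toSpec]
    apply CommRingCat.hom_ext
    apply Polynomial.ringHom_ext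
    · intro r
      have e : (chartMap j₀).left ≫ (snd _ _ : Z ⟶ chartU j₀).left = (chartProj j₀).left := by
        rw [← Over.comp_left, chartMap, lift_snd]
      have e2 := congrArg gFn e
      rw [gFn_comp] at e2
      simp only [ψ, CommRingCat.hom_comp, CommRingCat.hom_ofHom, RingHom.comp_apply,
        Polynomial.coe_eval₂RingHom, Polynomial.eval₂_C]
      refine (congr($e2 r)).trans ?_
      change gFn (𝟙 (Spec (CommRingCat.of (Polynomial R))) ≫ Spec.map _) r = _
      rw [gFn_specMap]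
      rfl
    · simp only [ψ, CommRingCat.hom_comp, CommRingCat.hom_ofHom, RingHom.comp_apply,
        Polynomial.coe_eval₂RingHom, Polynomial.eval₂_X]
      rw [← coord_comp, chartMap, lift_fst, coord_chartCoord]
      simp [gFn]
  exact ⟨⟨d.left, by rw [← Over.comp_left, h2]; rfl, by rw [← Over.comp_left, h1]; rfl⟩⟩

instance isOpenImmersion_whiskerLeft [IsOpenImmersion j₀] :
    IsOpenImmersion (Magnet.AMonS S N₁ ◁ chartIncl j₀).left := by
  rw [Over.whiskerLeft_left]
  have : IsOpenImmersion (chartIncl j₀).left := inferInstanceAs (IsOpenImmersion j₀)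
  infer_instance

/-- The open chart of the product. -/
noncomputable def chartE : chartQ j₀ ⟶ Magnet.AMonS S N₁ ⊗ Y := chartMap j₀ ≫ (Magnet.AMonS S N₁ ◁ chartIncl j₀)

instance isOpenImmersion_chartE [IsOpenImmersion j₀] : IsOpenImmersion (chartE j₀).left := by
  rw [chartE, Over.comp_left]
  infer_instance

/-- The zero section of the chart. -/
noncomputable def chartZero : chartU j₀ ⟶ chartQ j₀ :=
  Over.homMk (Spec.map (CommRingCat.ofHom (Polynomial.evalRingHom (0 : R)))) (by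
    change Spec.map _ ≫ Spec.map _ ≫ j₀ ≫ Y.hom = j₀ ≫ Y.hom
    rw [← Category.assoc, ← Spec.map_comp, ← CommRingCat.ofHom_comp]
    have : (Polynomial.evalRingHom (0 : R)).comp Polynomial.C = RingHom.id R := by ext r; simp
    rw [this, CommRingCat.ofHom_id]
    erw [Spec.map_id]
    rfl)

theorem chartZero_chartE : chartZero j₀ ≫ chartE j₀ = chartIncl j₀ ≫ zeroSec Y := by
  apply CartesianMonoidalCategory.hom_ext
  · rw [Category.assoc, Category.assoc, chartE, Category.assoc, whiskerLeft_fst, chartMap, lift_fst,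
      zeroSec, lift_fst, comp_zeroB]
    apply coord_ext
    rw [coord_comp_chartCoord, coord_zeroB]
    change gFn (𝟙 (Spec R) ≫ Spec.map (CommRingCat.ofHom (Polynomial.evalRingHom (0 : R)))) Polynomial.X = _
    rw [gFn_specMap]
    simp
  · rw [Category.assoc, Category.assoc, chartE, Category.assoc, whiskerLeft_snd, chartMap, lift_snd_assoc,
      zeroSec, lift_snd, Category.comp_id]
    apply Over.OverMorphism.ext
    change Spec.map _ ≫ Spec.map _ ≫ j₀ = j₀
    rw [← Category.assoc, ← Spec.map_comp, ← CommRingCat.ofHom_comp]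
    have : (Polynomial.evalRingHom (0 : R)).comp Polynomial.C = RingHom.id R := by ext r; simp
    rw [this, CommRingCat.ofHom_id, Spec.map_id, Category.id_comp]

end Chart

variable {X Y : Over S} {φ₁ φ₂ : Magnet.AMonS S N₁ ⊗ Y ⟶ X}

/-- Formal agreement implies agreement near the zero section. -/
theorem exists_open_agree
    (h : ∀ (T : Over S) (m : T ⟶ Magnet.AMonS S N₁) (t : T ⟶ Y),
      (∃ n : ℕ, ∀ m' : T ⟶ Magnet.AMonS S N₁, m ^ (n + 1) * m' = m ^ (n + 1)) →
      lift m t ≫ φ₁ = lift m t ≫ φ₂) (y : Y.left) :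
    ∃ W : (Magnet.AMonS S N₁ ⊗ Y).left.Opens, (zeroSec Y).left y ∈ W ∧ W.ι ≫ φ₁.left = W.ι ≫ φ₂.left := by
  have hO : zeroSec Y ≫ φ₁ = zeroSec Y ≫ φ₂ := h Y (zeroB Y) (𝟙 Y)
    ⟨0, pow_mul_eq_of_coord_pow_eq_zero _ (by rw [coord_zeroB]; simp)⟩
  obtain ⟨U, hU, hy, -⟩ := exists_isAffineOpen_mem_and_subset (U := ⊤) (show y ∈ (⊤ : Y.left.Opens) from trivial)
  let R : CommRingCat.{u} := Γ(Y.left, U)
  let j₀ : Spec R ⟶ Y.left := hU.fromSpec
  obtain ⟨r, hr⟩ : y ∈ Set.range j₀ := by rw [hU.range_fromSpec]; exact hy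
  obtain ⟨V, hV, hyV, -⟩ := exists_isAffineOpen_mem_and_subset (U := ⊤)
    (show ((zeroSec Y ≫ φ₁).left y) ∈ (⊤ : X.left.Opens) from trivial)
  let V₀ : (Spec (CommRingCat.of (Polynomial R))).Opens :=
    ((chartE j₀ ≫ φ₁).left ⁻¹ᵁ V) ⊓ ((chartE j₀ ≫ φ₂).left ⁻¹ᵁ V)
  let z : Spec R ⟶ Spec (CommRingCat.of (Polynomial R)) := (chartZero j₀).left
  have hz : z r ∈ V₀ := by
    have e : ∀ φ : Magnet.AMonS S N₁ ⊗ Y ⟶ X, (chartE j₀ ≫ φ).left (z r) = (zeroSec Y ≫ φ).left y := fun φ => by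
      rw [← hr]
      change ((chartZero j₀).left ≫ (chartE j₀ ≫ φ).left) r = ((chartIncl j₀).left ≫ (zeroSec Y ≫ φ).left) r
      rw [← Over.comp_left, ← Over.comp_left, ← Category.assoc, chartZero_chartE, Category.assoc]
    refine ⟨?_, ?_⟩
    · change (chartE j₀ ≫ φ₁).left (z r) ∈ V
      rw [e]; exact hyV
    · change (chartE j₀ ≫ φ₂).left (z r) ∈ V
      rw [e, ← hO]; exact hyV
  obtain ⟨-, ⟨f, rfl⟩, hzf, hfV⟩ :=
    PrimeSpectrum.isTopologicalBasis_basic_opens.exists_subset_of_mem_open hz V₀.isOpen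
  let g : Polynomial R := f * Polynomial.C (f.coeff 0)
  have hev : ∀ p : Polynomial R, z r ∈ PrimeSpectrum.basicOpen p ↔ p.coeff 0 ∉ r.asIdeal := fun p => by
    change p ∉ (z r).asIdeal ↔ _
    change Polynomial.evalRingHom (0 : R) p ∉ r.asIdeal ↔ _
    rw [Polynomial.coe_evalRingHom, Polynomial.coeff_zero_eq_eval_zero]
  have hzg : z r ∈ PrimeSpectrum.basicOpen g := by
    rw [hev]
    have hf0 : f.coeff 0 ∉ r.asIdeal := (hev f).1 hzf
    simp only [g, Polynomial.mul_coeff_zero, Polynomial.coeff_C_zero]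
    exact fun hh => hf0 ((r.isPrime.mem_or_mem hh).elim id id)
  let ℓ : Spec (CommRingCat.of (Loc f)) ⟶ Spec (CommRingCat.of (Polynomial R)) :=
    Spec.map (CommRingCat.ofHom (algebraMap (Polynomial R) (Loc f)))
  haveI : IsOpenImmersion ℓ := IsOpenImmersion.of_isLocalization g
  have hℓr : Set.range ℓ = (PrimeSpectrum.basicOpen g : Set (PrimeSpectrum (Polynomial R))) :=
    PrimeSpectrum.localization_away_comap_range (Loc f) g
  haveI : IsOpenImmersion (ℓ ≫ (chartE j₀).left) := inferInstance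
  refine ⟨(ℓ ≫ (chartE j₀).left).opensRange, ?_, ?_⟩
  · obtain ⟨p, hp⟩ : z r ∈ Set.range ℓ := by rw [hℓr]; exact hzg
    refine ⟨p, ?_⟩
    change (chartE j₀).left (ℓ p) = _
    rw [hp, ← hr]
    change ((chartZero j₀).left ≫ (chartE j₀).left) r = ((chartIncl j₀).left ≫ (zeroSec Y).left) r
    rw [← Over.comp_left, ← Over.comp_left, chartZero_chartE]
  · rw [← cancel_epi ((ℓ ≫ (chartE j₀).left).isoOpensRange).hom, Scheme.Hom.isoOpensRange_hom_ι_assoc,
      Scheme.Hom.isoOpensRange_hom_ι_assoc, Category.assoc, Category.assoc, ← Over.comp_left, ← Over.comp_left]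
    have hsub : ∀ q, ℓ q ∈ V₀ := fun q => by
      apply hfV
      have hq : ℓ q ∈ PrimeSpectrum.basicOpen g := by
        have : ℓ q ∈ Set.range ℓ := ⟨q, rfl⟩
        rwa [hℓr] at this
      exact PrimeSpectrum.basicOpen_mul_le_left f _ hq
    have hrng₁ : Set.range (ℓ ≫ (chartE j₀ ≫ φ₁).left) ⊆ Set.range V.ι := by
      rintro _ ⟨q, rfl⟩
      rw [Scheme.Opens.range_ι]
      exact (hsub q).1
    have hrng₂ : Set.range (ℓ ≫ (chartE j₀ ≫ φ₂).left) ⊆ Set.range V.ι := by
      rintro _ ⟨q, rfl⟩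
      rw [Scheme.Opens.range_ι]
      exact (hsub q).2
    let δ₁ := IsOpenImmersion.lift V.ι _ hrng₁
    let δ₂ := IsOpenImmersion.lift V.ι _ hrng₂
    suffices δ₁ = δ₂ by
      rw [← IsOpenImmersion.lift_fac V.ι _ hrng₁, ← IsOpenImmersion.lift_fac V.ι _ hrng₂]
      exact congrArg (· ≫ V.ι) this
    haveI : IsAffine (V : Scheme) := hV
    apply ext_of_isAffine
    ext a
    apply (Scheme.ΓSpecIso (CommRingCat.of (Loc f))).commRingCatIsoToRingEquiv.injective
    refine eq_of_forall_toInf f fun n => ?_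
    let ψ : CommRingCat.of (Loc f) ⟶ CommRingCat.of (Inf f n) := CommRingCat.ofHom (toInf f n)
    let Tn : Over S := Over.mk ((Spec.map ψ ≫ ℓ) ≫ (chartQ j₀).hom)
    let q : Tn ⟶ chartQ j₀ := Over.homMk (Spec.map ψ ≫ ℓ) rfl
    have hm : coord (q ≫ chartCoord j₀) ^ (n + 1) = 0 := by
      rw [coord_comp_chartCoord]
      change gFn ((Spec.map ψ ≫ 𝟙 _) ≫ ℓ) Polynomial.X ^ (n + 1) = 0
      rw [Category.comp_id, gFn_specMap]
      change gFn (Spec.map ψ) (algebraMap (Polynomial R) (Loc f) Polynomial.X) ^ (n + 1) = 0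
      have : gFn (Spec.map ψ) = ψ ≫ gFn (𝟙 (Spec (CommRingCat.of (Inf f n)))) := by
        rw [← gFn_specMap, Category.id_comp]
      rw [this, ← map_pow]
      change (gFn (𝟙 (Spec (CommRingCat.of (Inf f n))))).hom (toInf f n (algebraMap (Polynomial R) (Loc f) Polynomial.X ^ (n + 1))) = 0
      rw [map_pow (toInf f n), toInf_X_pow, map_zero]
    have hq := h Tn (q ≫ chartCoord j₀) (q ≫ chartProj j₀ ≫ chartIncl j₀)
      ⟨n, pow_mul_eq_of_coord_pow_eq_zero _ hm⟩
    have hqe : lift (q ≫ chartCoord j₀) (q ≫ chartProj j₀ ≫ chartIncl j₀) = q ≫ chartE j₀ := by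
      rw [chartE, chartMap, lift_whiskerLeft, comp_lift]
    rw [hqe, Category.assoc, Category.assoc] at hq
    have hq' : Spec.map ψ ≫ δ₁ = Spec.map ψ ≫ δ₂ := by
      rw [← cancel_mono V.ι, Category.assoc, Category.assoc, IsOpenImmersion.lift_fac,
        IsOpenImmersion.lift_fac]
      have := congrArg CommaMorphism.left hq
      simp only [Over.comp_left] at this ⊢
      exact this
    have := congr($(congrArg (fun t => t.appTop ≫ (Scheme.ΓSpecIso (CommRingCat.of (Inf f n))).hom) hq') a)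
    simp only [Scheme.Hom.comp_appTop, Category.assoc, Scheme.ΓSpecIso_naturality] at this
    exact this

end Groth.Agent.Mag88
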