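import Groth.Agent.Mag88.OpenAttr

/-! The deformation retraction of an attractor onto a face attractor. -/

universe u

set_option backward.isDefEq.respectTransparency false
set_option backward.isDefEq.respectTransparency.types false

open CategoryTheory CategoryTheory.Limits MonoidalCategory CartesianMonoidalCategory MonObj AlgebraicGeometry
open Opposite Magnet Magnet.MonAct

namespace Groth.Agent.Mag88

attribute [local instance] RedPts82.gammaAlg

variable {S : Scheme.{u}} {M : Type} [AddCommGroup M] {N F : AddSubmonoid M}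

open Classical in
theorem aFn_comp_faceMap (hF : IsFace N F) {T : Over S} (t : T ⟶ AMonS S F) (n : N) :
    aFn (t ≫ AMonS.faceMap S hF) n = if h : (n : M) ∈ F then aFn t ⟨n, h⟩ else 0 := by
  rw [aFn, AMonS.faceMap, RedPts82.toBase_comp_map]
  refine (RedPts82.ptHom_comp_map (faceAlgHom (ULift.{u} ℤ) hF) _ _).trans ?_
  by_cases h : (n : M) ∈ F
  · rw [dif_pos h, faceAlgHom_single_of_mem _ hF n h]
    rfl
  · rw [dif_neg h, faceAlgHom_single_of_not_mem _ hF n h, map_zero]

/-- A weight of a face: vanishing exactly on the face. -/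
theorem exists_weight_fg [AddGroup.FG M] (hN : N.FG) (hF : IsFace N F) :
    ∃ w : M →+ ℤ, ∀ n ∈ N, 0 ≤ w n ∧ (w n = 0 ↔ n ∈ F) := by
  obtain ⟨s, hs⟩ := hN
  have hsN : ∀ m ∈ s, m ∈ N := fun m hm => hs ▸ AddSubmonoid.subset_closure hm
  obtain ⟨w, hwF, hw⟩ := exists_weight hF s hsN
  refine ⟨w, fun n hn => ?_⟩
  rw [← hs] at hn
  induction hn using AddSubmonoid.closure_induction with
  | mem x hx =>
    obtain ⟨h1, h2⟩ := hw x hx
    by_cases hxF : x ∈ F
    · exact ⟨(h1 hxF).ge, iff_of_true (h1 hxF) hxF⟩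
    · exact ⟨(h2 hxF).le, iff_of_false (h2 hxF).ne' hxF⟩
  | zero => simp
  | add x y hx hy ihx ihy =>
    rw [map_add]
    refine ⟨add_nonneg ihx.1 ihy.1, ?_⟩
    rw [add_eq_zero_iff_of_nonneg ihx.1 ihy.1, ihx.2, ihy.2]
    exact ⟨fun h => F.add_mem h.1 h.2, fun h => hF.mem_of_add_mem x (hs ▸ hx) y (hs ▸ hy) h⟩

variable (w : M →+ ℤ) (hw : ∀ n ∈ N, 0 ≤ w n)
include hw

theorem exists_scaleB (T : Over S) (c : Γ(T.left, ⊤)) : ∃ b : AMonS S N ⊗ T ⟶ AMonS S N, ∀ n : N,
    aFn b n = aFn (fst (AMonS S N) T) n * (snd (AMonS S N) T).left.appTop c ^ (w n).toNat := by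
  refine aFn_surjective
    { toFun := fun n => aFn (fst (AMonS S N) T) (Multiplicative.toAdd n) *
        (snd (AMonS S N) T).left.appTop c ^ (w ((Multiplicative.toAdd n : N) : M)).toNat
      map_one' := by simp [aFn_zero]
      map_mul' := fun n n' => by
        rw [toAdd_mul, AddSubmonoid.coe_add, map_add, aFn_add,
          Int.toNat_add (hw _ (Multiplicative.toAdd n).2) (hw _ (Multiplicative.toAdd n').2), pow_add]
        ring }

/-- Scaling the fibre coordinate by a function on the base. -/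
noncomputable def scale (T : Over S) (c : Γ(T.left, ⊤)) : AMonS S N ⊗ T ⟶ AMonS S N ⊗ T :=
  lift (exists_scaleB w hw T c).choose (snd _ _)

theorem comp_scale_snd {T T' : Over S} (c : Γ(T.left, ⊤)) (q : T' ⟶ AMonS S N ⊗ T) :
    q ≫ scale w hw T c ≫ snd _ _ = q ≫ snd _ _ := by rw [scale, lift_snd]

theorem aFn_comp_scale {T T' : Over S} (c : Γ(T.left, ⊤)) (q : T' ⟶ AMonS S N ⊗ T) (n : N) :
    aFn (q ≫ scale w hw T c ≫ fst _ _) n = aFn (q ≫ fst _ _) n * (q ≫ snd _ _).left.appTop c ^ (w n).toNat := by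
  rw [scale, lift_fst, aFn_comp, (exists_scaleB w hw T c).choose_spec, map_mul, map_pow, aFn_comp q (fst _ _)]
  rfl

theorem scale_natural {T T' : Over S} (t : T' ⟶ T) (c : Γ(T.left, ⊤)) :
    (AMonS S N ◁ t) ≫ scale w hw T c = scale w hw T' (t.left.appTop c) ≫ (AMonS S N ◁ t) := by
  apply CartesianMonoidalCategory.hom_ext
  · refine aFn_ext fun n => ?_
    rw [Category.assoc, aFn_comp_scale, whiskerLeft_fst, whiskerLeft_snd, Category.assoc, whiskerLeft_fst,
      ← Category.id_comp (scale w hw T' _ ≫ fst _ _), aFn_comp_scale, Category.id_comp, Category.id_comp]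
    rfl
  · rw [Category.assoc, comp_scale_snd, whiskerLeft_snd, Category.assoc, whiskerLeft_snd, scale, lift_snd_assoc]

theorem scale_mem {X : Over S} (a : MonAct (AMonS S M) X) {T : Over S} (c : Γ(T.left, ⊤))
    (x : (attr a N).obj (op T)) :
    IsEquivariant ((subAct S M N).prod (MonAct.trivial (AMonS S M) T)) a (scale w hw T c ≫ x.1) := by
  refine (mem_eqvHom_iff (ρ := subAct S M N) _).2 fun T' g b t => ?_
  have hl : ∀ b : T' ⟶ AMonS S N, ∀ n : N, aFn (lift b t ≫ scale w hw T c ≫ fst _ _) n =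
      aFn b n * t.left.appTop c ^ (w n).toNat := fun b n => by
    rw [aFn_comp_scale, lift_fst, lift_snd]
  have hb : lift (lift g b ≫ (subAct S M N).act) t ≫ scale w hw T c =
      lift (lift g (lift b t ≫ scale w hw T c ≫ fst _ _) ≫ (subAct S M N).act) t := by
    apply CartesianMonoidalCategory.hom_ext
    · rw [lift_fst, Category.assoc]
      refine aFn_ext fun n => ?_
      rw [hl, subAct, lift_restrict_act, lift_regular_act, lift_restrict_act, lift_regular_act, aFn_mul, aFn_mul, hl,
        _root_.mul_assoc]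
    · rw [Category.assoc, comp_scale_snd, lift_snd, lift_snd]
  have hlift : lift (lift b t ≫ scale w hw T c ≫ fst _ _) t = lift b t ≫ scale w hw T c := by
    apply CartesianMonoidalCategory.hom_ext
    · rw [lift_fst, Category.assoc]
    · rw [lift_snd, Category.assoc, comp_scale_snd, lift_snd]
  rw [← Category.assoc, hb, (mem_eqvHom_iff x.1).1 x.2, hlift, Category.assoc]

omit hw in
open Classical in
theorem exists_deformation' [AddGroup.FG M] {X : Over S} (a : MonAct (AMonS S M) X) (hN : N.FG) (hF : IsFace N F) :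
    ∃ δ : ∀ T : Over S, (attr a N).obj (op T) → Γ(T.left, ⊤) → (attr a N).obj (op T),
      (∀ (T T' : Over S) (t : T' ⟶ T) (x : (attr a N).obj (op T)) (c : Γ(T.left, ⊤)),
          δ T' ((attr a N).map t.op x) (t.left.appTop c) = (attr a N).map t.op (δ T x c)) ∧
      (∀ (T : Over S) (x : (attr a N).obj (op T)),
          δ T x 0 = (attrMap a hF.le).app (op T) ((attrFace a hF).app (op T) x)) ∧
      (∀ (T : Over S) (x : (attr a N).obj (op T)), δ T x 1 = x) ∧
      (∀ (T : Over S) (y : (attr a F).obj (op T)) (c : Γ(T.left, ⊤)),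
          δ T ((attrMap a hF.le).app (op T) y) c = (attrMap a hF.le).app (op T) y) ∧
      (∀ (T : Over S) (x : (attr a N).obj (op T)) (c : Γ(T.left, ⊤)),
          (attrFace a hF).app (op T) (δ T x c) = (attrFace a hF).app (op T) x) ∧
      (∀ (T : Over S) (x : (attr a N).obj (op T)) (c d : Γ(T.left, ⊤)), δ T (δ T x c) d = δ T x (c * d)) := by
  obtain ⟨w, hw'⟩ := exists_weight_fg hN hF
  have hw : ∀ n ∈ N, 0 ≤ w n := fun n hn => (hw' n hn).1
  refine ⟨fun T x c => ⟨scale w hw T c ≫ x.1, scale_mem w hw a c x⟩, fun T T' t x c => ?_, fun T x => ?_,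
    fun T x => ?_, fun T y c => ?_, fun T x c => ?_, fun T x c d => ?_⟩
  · apply Subtype.ext
    change scale w hw T' _ ≫ (AMonS S N ◁ t) ≫ x.1 = (AMonS S N ◁ t) ≫ scale w hw T c ≫ x.1
    rw [← Category.assoc, ← scale_natural, Category.assoc]
  · apply Subtype.ext
    change scale w hw T 0 ≫ x.1 =
      (AMonS.map S (AddSubmonoid.inclusion hF.le) ▷ T) ≫ (AMonS.faceMap S hF ▷ T) ≫ x.1
    rw [← Category.assoc (AMonS.map S _ ▷ T)]
    congr 1
    rw [← comp_whiskerRight]
    apply CartesianMonoidalCategory.hom_ext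
    · refine aFn_ext fun n => ?_
      rw [← Category.id_comp (scale w hw T 0 ≫ fst _ _), aFn_comp_scale, whiskerRight_fst, ← Category.assoc,
        aFn_comp_faceMap, map_zero, Category.id_comp]
      by_cases h : (n : M) ∈ F
      · rw [dif_pos h, aFn_map, ((hw' n n.2).2).2 h, Int.toNat_zero, pow_zero, _root_.mul_one]
        rfl
      · rw [dif_neg h, zero_pow, mul_zero]
        have h0 : w n ≠ 0 := fun h0 => h ((hw' n n.2).2.1 h0)
        have h1 := (hw' n n.2).1
        omega
    · rw [scale, lift_snd, whiskerRight_snd]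
  · apply Subtype.ext
    change scale w hw T 1 ≫ x.1 = x.1
    have : scale w hw T 1 = 𝟙 _ := by
      apply CartesianMonoidalCategory.hom_ext
      · refine aFn_ext fun n => ?_
        rw [← Category.id_comp (scale w hw T 1 ≫ fst _ _), aFn_comp_scale, map_one, one_pow, _root_.mul_one]
      · rw [scale, lift_snd, Category.id_comp]
    rw [this, Category.id_comp]
  · apply Subtype.ext
    change scale w hw T c ≫ (AMonS.map S (AddSubmonoid.inclusion hF.le) ▷ T) ≫ y.1 =
      (AMonS.map S (AddSubmonoid.inclusion hF.le) ▷ T) ≫ y.1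
    rw [← Category.assoc]
    congr 1
    apply CartesianMonoidalCategory.hom_ext
    · refine aFn_ext fun n => ?_
      rw [Category.assoc, whiskerRight_fst, ← Category.assoc, aFn_map, ← Category.id_comp (scale w hw T c ≫ fst _ _),
        aFn_comp_scale, Category.id_comp, Category.id_comp, aFn_map]
      rw [show ((AddSubmonoid.inclusion hF.le n : N) : M) = (n : M) from rfl, ((hw' n (hF.le n.2)).2).2 n.2,
        Int.toNat_zero, pow_zero, _root_.mul_one]
    · rw [Category.assoc, whiskerRight_snd, scale, lift_snd]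
  · apply Subtype.ext
    change (AMonS.faceMap S hF ▷ T) ≫ scale w hw T c ≫ x.1 = (AMonS.faceMap S hF ▷ T) ≫ x.1
    rw [← Category.assoc]
    congr 1
    apply CartesianMonoidalCategory.hom_ext
    · refine aFn_ext fun n => ?_
      rw [Category.assoc, aFn_comp_scale, whiskerRight_fst, whiskerRight_snd]
      by_cases h : (n : M) ∈ F
      · rw [((hw' n n.2).2).2 h, Int.toNat_zero, pow_zero, _root_.mul_one]
      · rw [aFn_comp_faceMap, dif_neg h, zero_mul]
    · rw [Category.assoc, whiskerRight_snd, scale, lift_snd, whiskerRight_snd]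
  · apply Subtype.ext
    change scale w hw T d ≫ scale w hw T c ≫ x.1 = scale w hw T (c * d) ≫ x.1
    rw [← Category.assoc]
    congr 1
    apply CartesianMonoidalCategory.hom_ext
    · refine aFn_ext fun n => ?_
      rw [Category.assoc, aFn_comp_scale, ← Category.id_comp (scale w hw T d ≫ fst _ _), aFn_comp_scale,
        ← Category.id_comp (scale w hw T (c * d) ≫ fst _ _), aFn_comp_scale,
        show scale w hw T d ≫ snd _ _ = snd _ _ from lift_snd _ _]
      simp only [Category.id_comp, map_mul, mul_pow, _root_.mul_assoc]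
      rw [_root_.mul_comm ((snd (AMonS S N) T).left.appTop c ^ _)]
    · rw [Category.assoc, comp_scale_snd, scale, lift_snd, scale, lift_snd]

omit hw in
theorem exists_deformation [AddGroup.FG M] {X : Over S} (a : MonAct (AMonS S M) X) (hN : N.FG) (hF : IsFace N F) :
    ∃ δ : ∀ T : Over S, (attr a N).obj (op T) → Γ(T.left, ⊤) → (attr a N).obj (op T),
      (∀ (T T' : Over S) (t : T' ⟶ T) (x : (attr a N).obj (op T)) (c : Γ(T.left, ⊤)),
          δ T' ((attr a N).map t.op x) (t.left.appTop c) = (attr a N).map t.op (δ T x c)) ∧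
      (∀ (T : Over S) (x : (attr a N).obj (op T)),
          δ T x 0 = (attrMap a hF.le).app (op T) ((attrFace a hF).app (op T) x)) ∧
      (∀ (T : Over S) (x : (attr a N).obj (op T)), δ T x 1 = x) ∧
      (∀ (T : Over S) (y : (attr a F).obj (op T)) (c : Γ(T.left, ⊤)),
          δ T ((attrMap a hF.le).app (op T) y) c = (attrMap a hF.le).app (op T) y) := by
  obtain ⟨δ, h₁, h₂, h₃, h₄, -, -⟩ := exists_deformation' a hN hF
  exact ⟨δ, h₁, h₂, h₃, h₄⟩

end Groth.Agent.Mag88
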