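import Groth.Agent.SpPts86.AffineDescent
import Groth.Agent.Unr55.DescProps

/-! Presheaves which are relatively affine over a scheme fppf locally on it are representable. -/

universe u

set_option backward.isDefEq.respectTransparency false
set_option backward.isDefEq.respectTransparency.types false
set_option linter.style.haveILetI false

open CategoryTheory CategoryTheory.Limits AlgebraicGeometry Opposite
open AlgSp Groth.Agent.SpFP87

noncomputable section

namespace Groth.Agent.Mag88

variable {S : Scheme.{u}}

/-- Affineness descends along fppf coverings. -/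
theorem isAffineHom_of_fppfSurj {T W V V₀ : Over S} (c : W ⟶ T) (hc : fppfSurj c.left) (s₀ : V₀ ⟶ T) (s : V ⟶ W)
    (q : V ⟶ V₀) (sq : IsPullback q s s₀ c) (hs : IsAffineHom s.left) : IsAffineHom s₀.left := by
  refine (IsZariskiLocalAtTarget.iff_of_openCover (P := @IsAffineHom) T.left.affineCover).2 fun k => ?_
  let O : Over S := Over.mk (T.left.affineCover.f k ≫ T.hom)
  let o : O ⟶ T := Over.homMk (T.left.affineCover.f k) rfl
  haveI : IsAffine O.left := inferInstanceAs (IsAffine (T.left.affineCover.X k))
  have hcO : fppfSurj (pullback.snd c o).left :=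
    MorphismProperty.of_isPullback (P := fppfSurj) ((IsPullback.of_hasPullback c o).map (Over.forget S)) hc
  obtain ⟨W', l, hW', hl⟩ := Groth.Agent.SpPts86.exists_affine_cover (pullback.snd c o) hcO
  let d : W' ⟶ O := l ≫ pullback.snd c o
  let e : W' ⟶ W := l ≫ pullback.fst c o
  have hde : e ≫ c = d ≫ o := by simp only [d, e, Category.assoc, pullback.condition]
  let so := pullback.snd s₀ o
  let P := pullback so d
  have sq1 : IsPullback (pullback.fst so d ≫ pullback.fst s₀ o) (pullback.snd so d) s₀ (e ≫ c) := by
    rw [hde]; exact (IsPullback.of_hasPullback so d).paste_horiz (IsPullback.of_hasPullback s₀ o)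
  let r : P ⟶ V := sq.lift (pullback.fst so d ≫ pullback.fst s₀ o) (pullback.snd so d ≫ e)
    (sq1.w.trans (Category.assoc _ _ _).symm)
  have sq2 : IsPullback r (pullback.snd so d) s e :=
    IsPullback.of_right (by rw [sq.lift_fst]; exact sq1) (sq.lift_snd _ _ _) sq
  have hP : IsAffineHom (pullback.snd so d).left :=
    MorphismProperty.of_isPullback (sq2.map (Over.forget S)) hs
  obtain ⟨h1, h2, h3⟩ := (fppfSurj_iff _).1 hl
  haveI : QuasiCompact d.left := by
    haveI : QuasiCompact (d.left ≫ terminal.from O.left) := by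
      rw [terminal.comp_from]; exact (compactSpace_iff_quasiCompact _).1 inferInstance
    exact QuasiCompact.of_comp _ (terminal.from O.left)
  haveI : MorphismProperty.DescendsAlong @IsAffineHom Groth.Agent.Unr55.fpqc.{u} := Groth.Agent.Unr55.isAffineHom
  have hso : IsAffineHom so.left :=
    MorphismProperty.of_isPullback_of_descendsAlong (Q := Groth.Agent.Unr55.fpqc.{u})
      ((IsPullback.of_hasPullback so d).map (Over.forget S)).flip ⟨⟨h1, h2⟩, (inferInstance : QuasiCompact d.left)⟩ hP
  have sqo := (IsPullback.of_hasPullback s₀ o).map (Over.forget S)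
  change IsAffineHom (pullback.snd s₀.left o.left)
  have : IsAffineHom (sqo.isoPullback.inv ≫ so.left) := inferInstance
  rwa [show sqo.isoPullback.inv ≫ so.left = pullback.snd s₀.left o.left from sqo.isoPullback_inv_snd] at this

/-- A sheaf whose pullback to a covering of a scheme is relatively affine is relatively affine. -/
theorem exists_representableBy_of_affine_cover (F : (Over S)ᵒᵖ ⥤ Type u) (hF : Presheaf.IsSheaf (J S) F)
    {T W V : Over S} (a : F ⟶ yoneda.obj T) (c : W ⟶ T) (hc : fppfSurj c.left) (s : V ⟶ W)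
    (p : yoneda.obj V ⟶ F) (sq : IsPullback p (yoneda.map s) a (yoneda.map c)) (hs : IsAffineHom s.left) :
    ∃ (V₀ : Over S) (s₀ : V₀ ⟶ T) (e : F.RepresentableBy V₀), IsAffineHom s₀.left ∧
      ∀ (U : Over S) (z : U ⟶ V₀), a.app (op U) (e.homEquiv z) = z ≫ s₀ := by
  let uF : Sp S := ⟨F ⋙ uliftFunctor.{u + 1}, GrothendieckTopology.HasSheafCompose.isSheaf F hF⟩
  let a' : uF ⟶ (yon S).obj T := ⟨Functor.whiskerRight a uliftFunctor.{u + 1}⟩
  let p' : (yon S).obj V ⟶ uF := ⟨Functor.whiskerRight p uliftFunctor.{u + 1}⟩
  have sq' : IsPullback p' ((yon S).map s) a' ((yon S).map c) := by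
    refine IsPullback.of_map_of_faithful (sheafToPresheaf _ _) ?_
    refine IsPullback.of_forall_isPullback_app fun U => ?_
    exact (sq.app U).map uliftFunctor.{u + 1}
  obtain ⟨h1, h2, h3⟩ := (fppfSurj_iff _).1 hc
  have hrep : Representable a' := by
    refine Groth.Agent.SpPts86.representable_of_local_affineHom fun Z g => ?_
    obtain ⟨t, rfl⟩ := (yon S).map_surjective g
    refine ⟨pullback c t, pullback.snd c t, pullback s (pullback.fst c t), pullback.snd _ _,
      (yon S).map (pullback.fst _ _) ≫ p', MorphismProperty.of_isPullback (P := fppfSurj)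
        ((IsPullback.of_hasPullback c t).map (Over.forget S)) hc, ?_,
      MorphismProperty.of_isPullback ((IsPullback.of_hasPullback s (pullback.fst c t)).map (Over.forget S)) hs⟩
    rw [← Functor.map_comp, ← pullback.condition, Functor.map_comp]
    exact ((IsPullback.of_hasPullback s (pullback.fst c t)).map (yon S)).paste_horiz sq'
  obtain ⟨V₀, s₀, p₀, sq₀⟩ := hrep ((yon S).map (𝟙 T))
  haveI : IsIso ((yon S).map (𝟙 T)) := inferInstance
  haveI : IsIso p₀ := sq₀.isIso_fst_of_isIso
  haveI : IsIso p₀.hom := inferInstanceAs (IsIso ((sheafToPresheaf _ _).map p₀))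
  have ha : p₀ ≫ a' = (yon S).map s₀ := by rw [sq₀.w, CategoryTheory.Functor.map_id, Category.comp_id]
  let e : F.RepresentableBy V₀ :=
    { homEquiv := fun {U} =>
        { toFun := fun z => (p₀.hom.app (op U) (ULift.up z)).down
          invFun := fun x => ((inv p₀.hom).app (op U) (ULift.up x)).down
          left_inv := fun z => congrArg ULift.down (congr($(IsIso.hom_inv_id p₀.hom).app (op U) (ULift.up z)))
          right_inv := fun x => congrArg ULift.down (congr($(IsIso.inv_hom_id p₀.hom).app (op U) (ULift.up x))) }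
      homEquiv_comp := fun {U U'} f g => congrArg ULift.down (congr($(p₀.hom.naturality f.op) (ULift.up g))) }
  have hcomp : ∀ (U : Over S) (z : U ⟶ V₀), a.app (op U) (e.homEquiv z) = z ≫ s₀ := fun U z =>
    congrArg ULift.down (congr(($ha).hom.app (op U) (ULift.up z)))
  refine ⟨V₀, s₀, e, ?_, hcomp⟩
  obtain ⟨q, hq⟩ := (yon S).map_surjective (p' ≫ inv p₀)
  have sqq : IsPullback q s s₀ c := by
    refine IsPullback.of_map_of_faithful (yon S) ?_
    rw [hq]
    refine IsPullback.of_iso sq' (Iso.refl _) (asIso p₀).symm (Iso.refl _) (Iso.refl _) (by simp) (by simp) ?_ (by simp)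
    simp [← ha]
  exact isAffineHom_of_fppfSurj c hc s₀ s q sqq hs

end Groth.Agent.Mag88
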