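import Groth.Agent.Mag88.Unram
import Groth.Agent.Mag88.Sep

/-! Attractors of schemes affine over the base: coefficients of orbit maps. -/

universe u

set_option backward.isDefEq.respectTransparency false
set_option backward.isDefEq.respectTransparency.types false

open CategoryTheory CategoryTheory.Limits MonoidalCategory CartesianMonoidalCategory MonObj AlgebraicGeometry
open Opposite Magnet Magnet.MonAct

namespace Groth.Agent.Mag88

theorem mem_range_mapDomain_subtype {R : Type u} [CommRing R] {M : Type} [AddCommMonoid M] (N : AddSubmonoid M)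
    (x : MonoidAlgebra R (Multiplicative M)) :
    (∃ y, MonoidAlgebra.mapDomainAlgHom R R (AddMonoidHom.toMultiplicative N.subtype) y = x) ↔
      ∀ m : M, m ∉ N → x.coeff (Multiplicative.ofAdd m) = 0 := by
  classical
  constructor
  · rintro ⟨y, rfl⟩ m hm
    induction y using MonoidAlgebra.induction_linear with
    | zero => simp
    | add a b ha hb => rw [map_add, MonoidAlgebra.coeff_add, Finsupp.add_apply, ha, hb, add_zero]
    | single n r =>
      have hne : Multiplicative.ofAdd ((Multiplicative.toAdd n : N) : M) ≠ Multiplicative.ofAdd m :=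
        fun h => hm (Multiplicative.ofAdd.injective h ▸ (Multiplicative.toAdd n).2)
      simp [Finsupp.single_eq_of_ne (Ne.symm hne)]
  · intro h
    refine ⟨∑ m ∈ x.coeff.support.attach, if hm : Multiplicative.toAdd m.1 ∈ N then
      MonoidAlgebra.single (Multiplicative.ofAdd (⟨_, hm⟩ : N)) (x.coeff m.1) else 0, ?_⟩
    rw [map_sum]
    conv_rhs => rw [← MonoidAlgebra.sum_coeff_single x, Finsupp.sum, ← Finset.sum_attach]
    refine Finset.sum_congr rfl fun m _ => ?_
    split_ifs with hm
    · simp
    · rw [map_zero]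
      exact absurd (h _ hm) (Finsupp.mem_support_iff.1 m.2)

variable {S : Scheme.{u}} {X : Over S} [IsAffineHom X.hom] {R : CommRingCat.{u}} (p : Spec R ⟶ S)

instance isAffine_pb : IsAffine (pullback X.hom p) :=
  haveI : IsAffineHom (pullback.snd X.hom p) := MorphismProperty.pullback_snd (P := @IsAffineHom.{u}) _ _ ‹_›
  isAffine_of_isAffineHom (pullback.snd X.hom p)

section Coef

variable {M : Type} [AddCommMonoid M]

/-- The lift of a family over `Spec R` to the base change of `X`. -/
noncomputable def toPb (o : mQ p M ⟶ X) : (mQ p M).left ⟶ pullback X.hom p :=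
  pullback.lift o.left (Spec.map (CommRingCat.ofHom (algebraMap R (MonoidAlgebra R (Multiplicative M))))) (Over.w o)

/-- The comorphism of a family over `Spec R`. -/
noncomputable def fn (o : mQ p M ⟶ X) :
    Γ(pullback X.hom p, ⊤) ⟶ CommRingCat.of (MonoidAlgebra R (Multiplicative M)) :=
  (toPb p o).appTop ≫ (Scheme.ΓSpecIso _).hom

variable {R' : CommRingCat.{u}} (q : R ⟶ R') (N : AddSubmonoid M)

theorem spec_square : Spec.map (CommRingCat.ofHom (MonoidAlgebra.mapDomainAlgHom R' R' (AddMonoidHom.toMultiplicative N.subtype)).toRingHom) ≫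
    Spec.map (CommRingCat.ofHom (algebraMap R' (MonoidAlgebra R' (Multiplicative N)))) ≫ Spec.map q =
    Spec.map (CommRingCat.ofHom (MonoidAlgebra.mapRingHom (Multiplicative M) q.hom)) ≫
      Spec.map (CommRingCat.ofHom (algebraMap R (MonoidAlgebra R (Multiplicative M)))) := by
  rw [← Spec.map_comp, ← Spec.map_comp, ← Spec.map_comp]
  congr 1
  ext r
  simp

theorem isoSpec_inv_appTop' (Y : Scheme.{u}) [IsAffine Y] :
    Y.isoSpec.inv.appTop = (Scheme.ΓSpecIso Γ(Y, ⊤)).inv := by
  rw [← cancel_mono Y.isoSpec.hom.appTop, ← Scheme.Hom.comp_appTop, Iso.hom_inv_id, Scheme.Hom.id_appTop]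
  exact (by rw [show Y.isoSpec.hom.appTop = (Scheme.ΓSpecIso Γ(Y, ⊤)).hom from Scheme.toSpecΓ_appTop Y, Iso.inv_hom_id])

theorem gFn_id_eq (B : CommRingCat.{u}) (b : B) : gFn (𝟙 (Spec B)) b = (Scheme.ΓSpecIso B).inv b := by
  simp [gFn]

theorem exists_factor_iff (o : mQ p M ⟶ X) :
    (∃ ψ : mQ (Spec.map q ≫ p) N ⟶ X, mQmap (Spec.map q ≫ p) N.subtype ≫ ψ = mQbc p q M ≫ o) ↔
      ∀ (b : Γ(pullback X.hom p, ⊤)) (m : M), m ∉ N → q ((fn p o b).coeff (Multiplicative.ofAdd m)) = 0 := by
  let B := CommRingCat.of (MonoidAlgebra R' (Multiplicative M))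
  let B₀ := CommRingCat.of (MonoidAlgebra R' (Multiplicative N))
  let inc : B₀ ⟶ B :=
    CommRingCat.ofHom (MonoidAlgebra.mapDomainAlgHom R' R' (AddMonoidHom.toMultiplicative N.subtype)).toRingHom
  let bc : CommRingCat.of (MonoidAlgebra R (Multiplicative M)) ⟶ B :=
    CommRingCat.ofHom (MonoidAlgebra.mapRingHom (Multiplicative M) q.hom)
  have hcoef : ∀ b, (∃ y, inc y = bc (fn p o b)) ↔
      ∀ m : M, m ∉ N → q ((fn p o b).coeff (Multiplicative.ofAdd m)) = 0 := fun b => by
    refine (mem_range_mapDomain_subtype N (bc (fn p o b))).trans (forall₂_congr fun m hm => ?_)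
    change (MonoidAlgebra.mapRingHom (Multiplicative M) q.hom (fn p o b)).coeff _ = 0 ↔ _
    rw [MonoidAlgebra.coeff_mapRingHom]
  have hinj : Function.Injective inc :=
    MonoidAlgebra.mapDomain_injective (fun a b hab => Multiplicative.toAdd.injective
      (Subtype.val_injective (Multiplicative.ofAdd.injective hab)))
  constructor
  · rintro ⟨ψ, hψ⟩ b
    refine (hcoef b).1 ?_
    let l : Spec B₀ ⟶ pullback X.hom p :=
      pullback.lift ψ.left (Spec.map (CommRingCat.ofHom (algebraMap R' (MonoidAlgebra R' (Multiplicative N)))) ≫ Spec.map q)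
        (by rw [Category.assoc]; exact Over.w ψ)
    have hl : Spec.map inc ≫ l = Spec.map bc ≫ toPb p o := by
      apply pullback.hom_ext
      · rw [Category.assoc, Category.assoc, pullback.lift_fst, toPb, pullback.lift_fst]
        exact congrArg Over.Hom.left hψ
      · rw [Category.assoc, Category.assoc, pullback.lift_snd, toPb, pullback.lift_snd]
        exact spec_square q N
    refine ⟨(l.appTop ≫ (Scheme.ΓSpecIso B₀).hom) b, ?_⟩
    have e := congr($(congrArg (fun z => z.appTop ≫ (Scheme.ΓSpecIso B).hom) hl) b)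
    simp only [Scheme.Hom.comp_appTop, Category.assoc, Scheme.ΓSpecIso_naturality] at e
    exact e
  · intro h
    choose g hg using fun b => (hcoef b).2 (h b)
    let φ : Γ(pullback X.hom p, ⊤) ⟶ B₀ := CommRingCat.ofHom
      { toFun := g
        map_one' := hinj (by rw [hg, map_one, map_one, map_one])
        map_mul' := fun a b => hinj (by rw [map_mul, hg, hg, hg, map_mul, map_mul])
        map_zero' := hinj (by rw [hg, map_zero, map_zero, map_zero])
        map_add' := fun a b => hinj (by rw [map_add, hg, hg, hg, map_add, map_add]) }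
    have hφ : φ ≫ inc = fn p o ≫ bc := CommRingCat.hom_ext (RingHom.ext hg)
    let l : Spec B₀ ⟶ pullback X.hom p := Spec.map φ ≫ (pullback X.hom p).isoSpec.inv
    have hl : Spec.map inc ≫ l = Spec.map bc ≫ toPb p o := by
      apply ext_of_isAffine
      apply (cancel_mono (Scheme.ΓSpecIso B).hom).1
      simp only [l, Scheme.Hom.comp_appTop, Category.assoc, Scheme.ΓSpecIso_naturality]
      simp only [fn, Category.assoc] at hφ
      rw [← hφ, isoSpec_inv_appTop', Scheme.ΓSpecIso_naturality_assoc, Iso.inv_hom_id_assoc]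
    have hsnd : l ≫ pullback.snd _ _ =
        Spec.map (CommRingCat.ofHom (algebraMap R' (MonoidAlgebra R' (Multiplicative N)))) ≫ Spec.map q := by
      obtain ⟨α, hα⟩ : ∃ α, Spec.map α = l ≫ pullback.snd _ _ := ⟨_, Spec.map_preimage _⟩
      rw [← hα, ← Spec.map_comp]
      congr 1
      refine CommRingCat.hom_ext (RingHom.ext fun r => hinj ?_)
      have e : Spec.map (α ≫ inc) = Spec.map ((q ≫ CommRingCat.ofHom (algebraMap R' (MonoidAlgebra R' (Multiplicative N)))) ≫ inc) := by
        rw [Spec.map_comp, Spec.map_comp, hα, Spec.map_comp, ← Category.assoc, hl, Category.assoc, toPb, pullback.lift_snd]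
        exact (spec_square q N).symm
      exact congr($(Spec.map_injective e) r)
    refine ⟨Over.homMk (l ≫ pullback.fst _ _) ?_, Over.OverMorphism.ext ?_⟩
    · rw [Category.assoc, pullback.condition, ← Category.assoc, hsnd, Category.assoc]
      rfl
    · change Spec.map inc ≫ l ≫ pullback.fst _ _ = Spec.map bc ≫ o.left
      rw [← Category.assoc, hl, Category.assoc, toPb, pullback.lift_fst]

end Coef

end Groth.Agent.Mag88
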