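import Groth.Agent.Mag88.Descent

/-! Change of group for attractors. -/

universe u

set_option backward.isDefEq.respectTransparency false
set_option backward.isDefEq.respectTransparency.types false

open CategoryTheory CategoryTheory.Limits MonoidalCategory CartesianMonoidalCategory MonObj AlgebraicGeometry
open Opposite Magnet Magnet.MonAct

namespace Groth.Agent.Mag88

variable {S : Scheme.{u}}

theorem aFn_mk_inv {M : Type} [AddCommGroup M] {T : Over S} (g : T ⟶ AMonS S M) (m : M) :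
    aFn g (-m) * aFn g m = 1 := by rw [← aFn_add, neg_add_cancel, aFn_zero]

theorem exists_mul_eq {M : Type} [AddCommGroup M] {T : Over S} (g g' : T ⟶ AMonS S M) :
    ∃ d : T ⟶ AMonS S M, g' * d = g ∧ ∀ m, aFn d m = aFn g m * aFn g' (-m) := by
  obtain ⟨d, hd⟩ := aFn_surjective (S := S) (X := T) (M := M)
    { toFun := fun m => aFn g (Multiplicative.toAdd m) * aFn g' (-(Multiplicative.toAdd m))
      map_one' := by simp [aFn_zero]
      map_mul' := fun m m' => by rw [toAdd_mul, aFn_add, neg_add, aFn_add]; ring }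
  have hd' : ∀ m, aFn d m = aFn g m * aFn g' (-m) := fun m => hd m
  refine ⟨d, aFn_ext fun m => ?_, hd'⟩
  rw [aFn_mul, hd', mul_comm, _root_.mul_assoc, aFn_mk_inv, _root_.mul_one]

/-- A pair of points as a point of the product monoid. -/
theorem exists_pair {M Y : Type} [AddCommMonoid M] [AddCommMonoid Y] {T : Over S} (g : T ⟶ AMonS S M) (b : T ⟶ AMonS S Y) :
    ∃ q : T ⟶ AMonS S (M × Y), q ≫ AMonS.map S (AddMonoidHom.inl M Y) = g ∧ q ≫ AMonS.map S (AddMonoidHom.inr M Y) = b := by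
  obtain ⟨q, hq⟩ := aFn_surjective (S := S) (X := T) (M := M × Y)
    { toFun := fun p => aFn g (Multiplicative.toAdd p).1 * aFn b (Multiplicative.toAdd p).2
      map_one' := by simp [aFn_zero]
      map_mul' := fun p p' => by rw [toAdd_mul, Prod.fst_add, Prod.snd_add, aFn_add, aFn_add]; ring }
  refine ⟨q, aFn_ext fun m => ?_, aFn_ext fun y => ?_⟩
  · rw [aFn_map, hq]
    change aFn g m * aFn b 0 = aFn g m
    rw [aFn_zero, _root_.mul_one]
  · rw [aFn_map, hq]
    change aFn g 0 * aFn b y = aFn b y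
    rw [aFn_zero, _root_.one_mul]

theorem lift_subAct_map {M : Type} [AddCommMonoid M] (N : AddSubmonoid M) {T : Over S} (g : T ⟶ AMonS S M)
    (b : T ⟶ AMonS S N) : lift g b ≫ (subAct S M N).act = (g ≫ AMonS.map S N.subtype) * b := by
  rw [subAct, lift_restrict_act, lift_regular_act]

theorem eqv_apply {M : Type} [AddCommMonoid M] {X : Over S} (a : MonAct (AMonS S M) X) (N : AddSubmonoid M) {T T' : Over S}
    (φ : (attr a N).obj (op T)) (g : T' ⟶ AMonS S M) (b : T' ⟶ AMonS S N) (t : T' ⟶ T) :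
    lift ((g ≫ AMonS.map S N.subtype) * b) t ≫ φ.1 = lift g (lift b t ≫ φ.1) ≫ a.act := by
  have h := (mem_eqvHom_iff (ρ := subAct S M N) φ.1).1 φ.2 T' g b t
  rw [lift_subAct_map] at h
  exact h

variable {M Z : Type} [AddCommGroup M] [AddCommGroup Z] (f : M →+ Z) (Y : AddSubmonoid Z)

/-- The corestriction `f⁻¹ Y → Y`. -/
def comapHom : Y.comap f →+ Y := (f.comp (Y.comap f).subtype).codRestrict Y (fun x => x.2)

theorem aFn_inl_inr {T : Over S} (q : T ⟶ AMonS S (M × Y)) (p : M × Y) :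
    aFn q p = aFn (q ≫ AMonS.map S (AddMonoidHom.inl M Y)) p.1 * aFn (q ≫ AMonS.map S (AddMonoidHom.inr M Y)) p.2 := by
  rw [aFn_map, aFn_map, ← aFn_add]
  congr 1
  simp

theorem comp_orbit {T : Over S} (q : T ⟶ AMonS S (M × Y)) :
    q ≫ AMonS.map S (orbitHom f Y) =
      ((q ≫ AMonS.map S (AddMonoidHom.inl M Y)) ≫ AMonS.map S (Y.comap f).subtype) *
        ((q ≫ AMonS.map S (AddMonoidHom.inr M Y)) ≫ AMonS.map S (comapHom f Y)) := by
  refine aFn_ext fun n => ?_
  rw [aFn_map, aFn_mul, aFn_map, aFn_map (comapHom f Y), aFn_inl_inr]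
  rfl

variable {X : Over S} (a : MonAct (AMonS S M) X)

/-- Equivariant morphisms are determined by, and move with, the orbit map. -/
theorem orbit_comp {T : Over S} (φ : (attr a (Y.comap f)).obj (op T)) {T' : Over S} (q : T' ⟶ AMonS S (M × Y))
    (t : T' ⟶ T) : lift q t ≫ (AMonS.map S (orbitHom f Y) ▷ T) ≫ φ.1 =
      lift (q ≫ AMonS.map S (AddMonoidHom.inl M Y))
        (lift (q ≫ AMonS.map S (AddMonoidHom.inr M Y)) t ≫ ((attrComap a f Y).app (op T) φ).1) ≫ a.act := by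
  rw [attrComap_app_coe, lift_whiskerRight_assoc, comp_orbit, lift_whiskerRight_assoc]
  exact eqv_apply a (Y.comap f) φ (q ≫ AMonS.map S (AddMonoidHom.inl M Y))
    ((q ≫ AMonS.map S (AddMonoidHom.inr M Y)) ≫ AMonS.map S (comapHom f Y)) t


theorem exists_extension_cover {T : Over S} (d : T ⟶ AMonS S M) (hd : ∀ k ∈ f.ker, aFn d k = 1) :
    ∃ (T'' : Over S) (ρ : T'' ⟶ T) (e : T'' ⟶ AMonS S Z), Epi ρ ∧ ρ ≫ d = e ≫ AMonS.map S f := by
  classical
  have hpre : ∀ r : f.range, ∃ m, f m = r := fun r => r.2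
  choose pre hpre using hpre
  have hwd : ∀ m m', f m = f m' → aFn d m = aFn d m' := fun m m' h => by
    have h2 := aFn_add d (m - m') m'
    rw [sub_add_cancel, hd (m - m') (by rw [AddMonoidHom.mem_ker, map_sub, h, sub_self]), _root_.one_mul] at h2
    exact h2
  obtain ⟨d', hd'⟩ := aFn_surjective (S := S) (X := T) (M := f.range)
    { toFun := fun r => aFn d (pre (Multiplicative.toAdd r))
      map_one' := (hwd _ 0 (by rw [hpre, map_zero]; rfl)).trans (aFn_zero d)
      map_mul' := fun r r' => by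
        rw [← aFn_add]
        exact hwd _ _ (by rw [hpre, map_add, hpre, hpre]; rfl) }
  let π := AMonS.map S f.range.subtype ▷ T
  let s : T ⟶ AMonS S f.range ⊗ T := lift d' (𝟙 T)
  obtain ⟨hf, hs, -⟩ := props_ff (S := S) (isFFlat_subtype f.range) T
  have sq := ((IsPullback.of_hasPullback π s).map (Over.forget S))
  haveI : Flat (pullback.snd π s).left := MorphismProperty.of_isPullback (P := @Flat.{u}) sq hf
  haveI : Surjective (pullback.snd π s).left := MorphismProperty.of_isPullback (P := @Surjective.{u}) sq hs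
  haveI he : Epi (pullback.snd π s).left := Flat.epi_of_flat_of_surjective _
  haveI : Epi ((Over.forget S).map (pullback.snd π s)) := he
  refine ⟨pullback π s, pullback.snd π s, pullback.fst π s ≫ fst _ _, (Over.forget S).epi_of_epi_map this,
    aFn_ext fun m => ?_⟩
  have hc := congrArg (fun z => aFn (z ≫ fst _ _) (⟨f m, m, rfl⟩ : f.range)) (pullback.condition (f := π) (g := s))
  simp only [π, s, Category.assoc, whiskerRight_fst, lift_fst] at hc
  rw [← Category.assoc (pullback.fst _ _), aFn_map] at hc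
  rw [aFn_map]
  refine Eq.trans ?_ hc.symm
  rw [aFn_comp (pullback.snd π s) d, aFn_comp (pullback.snd π s) d', hd']
  congr 1
  exact hwd _ _ (by rw [hpre]; rfl)

set_option maxHeartbeats 400000 in
theorem isIso_attrComap_of_range (hY : Y ≤ AddMonoidHom.mrange f) : IsIso (attrComap a f Y) := by
  have hO := isFFlat_orbit.{u} f Y hY
  rw [NatTrans.isIso_iff_isIso_app]
  intro T
  rw [isIso_iff_bijective]
  haveI := epi_ff (S := S) hO (unop T)
  refine ⟨fun φ φ' h => Subtype.ext ?_, fun ψ => ?_⟩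
  · rw [← cancel_epi (AMonS.map S (orbitHom f Y) ▷ unop T)]
    apply hom_ext_lift₂
    intro T' q t
    rw [orbit_comp (a := a) f Y φ q t, orbit_comp (a := a) f Y φ' q t]
    exact congrArg (fun z => lift (q ≫ AMonS.map S (AddMonoidHom.inl M Y))
      (lift (q ≫ AMonS.map S (AddMonoidHom.inr M Y)) t ≫ z) ≫ a.act) (congrArg Subtype.val h)
  let o : AMonS S (M × Y) ⊗ unop T ⟶ X :=
    lift (fst _ _ ≫ AMonS.map S (AddMonoidHom.inl M Y)) (lift (fst _ _ ≫ AMonS.map S (AddMonoidHom.inr M Y)) (snd _ _) ≫ ψ.1) ≫ a.act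
  have ho : ∀ {T' : Over S} (q : T' ⟶ AMonS S (M × Y)) (t : T' ⟶ unop T),
      lift q t ≫ o = lift (q ≫ AMonS.map S (AddMonoidHom.inl M Y)) (lift (q ≫ AMonS.map S (AddMonoidHom.inr M Y)) t ≫ ψ.1) ≫ a.act := fun q t => by
    simp only [o, comp_lift_assoc, lift_fst_assoc, lift_snd]
  obtain ⟨φ, hφ⟩ := exists_factor_ff (S := S) hO o (fun T' q₁ q₂ t hq => by
    rw [ho, ho]
    obtain ⟨d, hd, hdv⟩ := exists_mul_eq (q₂ ≫ AMonS.map S (AddMonoidHom.inl M Y)) (q₁ ≫ AMonS.map S (AddMonoidHom.inl M Y))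
    have key : ∀ n : Y.comap f, aFn (q₁ ≫ AMonS.map S (AddMonoidHom.inl M Y)) (n : M) * aFn (q₁ ≫ AMonS.map S (AddMonoidHom.inr M Y)) (comapHom f Y n) =
        aFn (q₂ ≫ AMonS.map S (AddMonoidHom.inl M Y)) (n : M) * aFn (q₂ ≫ AMonS.map S (AddMonoidHom.inr M Y)) (comapHom f Y n) := fun n => by
      have := hq n
      rw [aFn_inl_inr, aFn_inl_inr Y q₂] at this
      exact this
    have hK : ∀ k ∈ f.ker, aFn d k = 1 := fun k hk => by
      have hkY : k ∈ Y.comap f := by show f k ∈ Y; rw [hk]; exact Y.zero_mem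
      have e := key ⟨k, hkY⟩
      rw [show comapHom f Y ⟨k, hkY⟩ = 0 from Subtype.ext hk, aFn_zero, aFn_zero, _root_.mul_one, _root_.mul_one] at e
      rw [hdv, ← e, mul_comm]
      exact aFn_mk_inv _ _
    obtain ⟨T'', ρ, e, hρ, he⟩ := exists_extension_cover f d hK
    have hb : ρ ≫ (q₁ ≫ AMonS.map S (AddMonoidHom.inr M Y)) = lift e (ρ ≫ q₂ ≫ AMonS.map S (AddMonoidHom.inr M Y)) ≫ (subAct S Z Y).act := by
      refine aFn_ext fun y => ?_
      obtain ⟨m, hm⟩ := hY y.2
      have hmY : m ∈ Y.comap f := by show f m ∈ Y; rw [hm]; exact y.2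
      have hy : comapHom f Y ⟨m, hmY⟩ = y := Subtype.ext hm
      have e1 := key ⟨m, hmY⟩
      rw [hy] at e1
      have e2 : aFn (q₁ ≫ AMonS.map S (AddMonoidHom.inr M Y)) y = aFn d m * aFn (q₂ ≫ AMonS.map S (AddMonoidHom.inr M Y)) y := by
        rw [hdv]
        calc aFn (q₁ ≫ AMonS.map S (AddMonoidHom.inr M Y)) y = (aFn (q₁ ≫ AMonS.map S (AddMonoidHom.inl M Y)) (-m) * aFn (q₁ ≫ AMonS.map S (AddMonoidHom.inl M Y)) m) * aFn (q₁ ≫ AMonS.map S (AddMonoidHom.inr M Y)) y := by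
              rw [aFn_mk_inv, _root_.one_mul]
          _ = aFn (q₁ ≫ AMonS.map S (AddMonoidHom.inl M Y)) (-m) * (aFn (q₂ ≫ AMonS.map S (AddMonoidHom.inl M Y)) m * aFn (q₂ ≫ AMonS.map S (AddMonoidHom.inr M Y)) y) := by rw [_root_.mul_assoc]; exact congrArg _ e1
          _ = _ := by ring
      rw [subAct, lift_restrict_act, lift_regular_act, aFn_mul, aFn_map, aFn_comp ρ, e2, map_mul, ← aFn_comp ρ d, he,
        aFn_map, ← aFn_comp ρ]
      rw [hm]
      rfl
    have hmove : lift d (lift (q₂ ≫ AMonS.map S (AddMonoidHom.inr M Y)) t ≫ ψ.1) ≫ a.act = lift (q₁ ≫ AMonS.map S (AddMonoidHom.inr M Y)) t ≫ ψ.1 := by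
      rw [← cancel_epi ρ, comp_lift_assoc, comp_lift_assoc, comp_lift_assoc, he,
        ← lift_restrict_act (AMonS.map S f) a, hb, lift_subAct_map]
      exact (eqv_apply (a.restrict (AMonS.map S f)) Y ψ e _ _).symm
    rw [← hmove, ← lift_mul_act, hd])
  have hφeq : ∀ {T' : Over S} (q : T' ⟶ AMonS S (M × Y)) (t : T' ⟶ unop T),
      lift (q ≫ AMonS.map S (orbitHom f Y)) t ≫ φ = lift (q ≫ AMonS.map S (AddMonoidHom.inl M Y)) (lift (q ≫ AMonS.map S (AddMonoidHom.inr M Y)) t ≫ ψ.1) ≫ a.act := fun q t => by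
    rw [← ho, ← hφ, lift_whiskerRight_assoc]
  have hmem : IsEquivariant ((subAct S M (Y.comap f)).prod (MonAct.trivial (AMonS S M) (unop T))) a φ := by
    haveI := epi_whiskerLeft_ff (S := S) hO (AMonS S M) (unop T)
    change _ ≫ _ = _ ≫ _
    rw [← cancel_epi (AMonS S M ◁ (AMonS.map S (orbitHom f Y) ▷ unop T))]
    apply hom_ext_lift₂
    intro T'' g p
    obtain ⟨q, t', rfl⟩ : ∃ (q : T'' ⟶ AMonS S (M × Y)) (t' : T'' ⟶ unop T), lift q t' = p :=
      ⟨p ≫ fst _ _, p ≫ snd _ _, by rw [← comp_lift, lift_fst_snd, Category.comp_id]⟩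
    rw [lift_whiskerLeft_assoc, lift_whiskerRight, lift_prod_act_assoc, lift_trivial_act, lift_whiskerLeft_assoc,
      lift_whiskerRight, lift_whiskerLeft_assoc, hφeq, ← lift_mul_act, lift_subAct_map]
    obtain ⟨q', hq'1, hq'2⟩ := exists_pair (g * (q ≫ AMonS.map S (AddMonoidHom.inl M Y))) (q ≫ AMonS.map S (AddMonoidHom.inr M Y))
    have e1 : (g ≫ AMonS.map S (Y.comap f).subtype) * (q ≫ AMonS.map S (orbitHom f Y)) = q' ≫ AMonS.map S (orbitHom f Y) := by
      refine Eq.trans (congrArg _ (comp_orbit f Y q)) (Eq.trans ?_ (comp_orbit f Y q').symm)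
      rw [hq'1, hq'2]
      exact (_root_.mul_assoc _ _ _).symm.trans (congrArg (· * _) (MonObj.mul_comp g _ _).symm)
    rw [e1, hφeq q' t', hq'1, hq'2]
  refine ⟨⟨φ, hmem⟩, Subtype.ext ?_⟩
  rw [attrComap_app_coe]
  apply hom_ext_lift₂
  intro T' b t
  obtain ⟨q, hq1, hq2⟩ := exists_pair (1 : T' ⟶ AMonS S M) b
  have e1 : b ≫ AMonS.map S (comapHom f Y) = q ≫ AMonS.map S (orbitHom f Y) := by
    refine Eq.trans ?_ (comp_orbit f Y q).symm
    rw [hq1, hq2]
    exact ((congrArg (· * _) (MonObj.one_comp _)).trans (_root_.one_mul _)).symm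
  change lift b t ≫ (AMonS.map S (comapHom f Y) ▷ unop T) ≫ φ = _
  rw [lift_whiskerRight_assoc, e1, hφeq, hq1, lift_one_act, hq2]

end Groth.Agent.Mag88
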