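import Groth.Agent.Mag88.Field

/-! Equivariant families into stable open subobjects. -/

universe u

set_option backward.isDefEq.respectTransparency false
set_option backward.isDefEq.respectTransparency.types false

open CategoryTheory CategoryTheory.Limits MonoidalCategory CartesianMonoidalCategory MonObj AlgebraicGeometry
open Opposite Magnet Magnet.MonAct

namespace Groth.Agent.Mag88

variable {S : Scheme.{u}}

theorem isPullback_whiskerLeft_snd {A X Y : Over S} (f : X ⟶ Y) :
    IsPullback (A ◁ f) (snd A X) (snd A Y) f := by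
  refine ⟨⟨whiskerLeft_snd _ _⟩, ⟨PullbackCone.IsLimit.mk _
    (fun s => lift (s.fst ≫ fst _ _) s.snd) (fun s => ?_) (fun s => ?_) (fun s m h₁ h₂ => ?_)⟩⟩
  · apply CartesianMonoidalCategory.hom_ext
    · simp
    · simp [← s.condition]
  · exact lift_snd _ _
  · apply CartesianMonoidalCategory.hom_ext
    · simp [← h₁]
    · simp [← h₂]

theorem exists_of_snd_eq {A X Y : Over S} (f : X ⟶ Y) (p : (A ⊗ Y).left) (x : X.left)
    (h : (snd A Y).left p = f.left x) : ∃ q : (A ⊗ X).left, (A ◁ f).left q = p := by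
  have sq := (isPullback_whiskerLeft_snd (A := A) f).map (Over.forget S)
  obtain ⟨v, hv⟩ := Scheme.Pullback.exists_preimage_pullback p x h
  refine ⟨sq.isoPullback.inv v, ?_⟩
  change (sq.isoPullback.inv ≫ (A ◁ f).left) v = p
  erw [IsPullback.isoPullback_inv_fst]
  exact hv.1

theorem isPullback_evalAt_openImm {G B X U : Over S} [MonObj G] [MonObj B] (ρ : MonAct G B) (o : 𝟙_ (Over S) ⟶ B)
    (hB : ∀ (T : Over S) (K : Type u) [Field K] (_ : T.left ≅ Spec (CommRingCat.of K)) (W : (B ⊗ T).left.Opens),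
      (snd G (B ⊗ T)).left ⁻¹ᵁ W ≤ ((ρ.prod (MonAct.trivial G T)).act).left ⁻¹ᵁ W →
      (lift (toUnit T ≫ o) (𝟙 T)).left ⁻¹ᵁ W = ⊤ → W = ⊤)
    {aX : MonAct G X} {aU : MonAct G U} (j : U ⟶ X) [IsOpenImmersion j.left] (hj : IsEquivariant aU aX j) :
    IsPullback (eqvHom.postcomp ρ j hj) (eqvHom.evalAt ρ aU o) (eqvHom.evalAt ρ aX o) (yoneda.map j) := by
  haveI : Mono ((Over.forget S).map j) := inferInstanceAs (Mono j.left)
  haveI : Mono j := (Over.forget S).mono_of_mono_map this
  refine IsPullback.of_forall_isPullback_app fun T => ?_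
  rw [Types.isPullback_iff]
  refine ⟨?_, fun φ φ' h => Subtype.ext ((cancel_mono j).1 (congrArg Subtype.val h.1)), fun φ z h => ?_⟩
  · ext φ
    exact (Category.assoc _ _ _).symm
  · let Y := unop T
    have hz : z ≫ j = lift (toUnit Y ≫ o) (𝟙 Y) ≫ φ.1 := h.symm
    let W : (B ⊗ Y).left.Opens := φ.1.left ⁻¹ᵁ j.left.opensRange
    have hW : ∀ p, p ∈ W := fun p => by
      let y : Y.left := (snd B Y).left p
      let T' : Over S := Over.mk (Y.left.fromSpecResidueField y ≫ Y.hom)
      let ι' : T' ⟶ Y := Over.homMk (Y.left.fromSpecResidueField y) rfl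
      obtain ⟨κ⟩ : Nonempty (Spec (Y.left.residueField y) : Scheme.{u}) :=
        inferInstanceAs (Nonempty (PrimeSpectrum (Y.left.residueField y)))
      obtain ⟨q, hq⟩ := exists_of_snd_eq (A := B) ι' p κ (Scheme.fromSpecResidueField_apply _ _).symm
      have key : (B ◁ ι').left ⁻¹ᵁ W = ⊤ := by
        refine hB T' (Y.left.residueField y) (Iso.refl _) _ (fun r hr => ?_) (top_le_iff.1 fun r _ => ?_)
        · have hr' : (snd G X).left ((G ◁ ((B ◁ ι') ≫ φ.1)).left r) ∈ j.left.opensRange := by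
            change ((G ◁ ((B ◁ ι') ≫ φ.1)) ≫ snd G X).left r ∈ _
            rw [whiskerLeft_snd]
            exact hr
          obtain ⟨u, hu⟩ := hr'
          obtain ⟨v, hv⟩ := exists_of_snd_eq (A := G) j _ u hu.symm
          have e : ((B ◁ ι') ≫ φ.1).left ((ρ.prod (MonAct.trivial G T')).act.left r) = (aU.act ≫ j).left v := by
            change ((ρ.prod (MonAct.trivial G T')).act ≫ (B ◁ ι') ≫ φ.1).left r = _
            have heq : (ρ.prod (MonAct.trivial G T')).act ≫ (B ◁ ι') ≫ φ.1 = (G ◁ ((B ◁ ι') ≫ φ.1)) ≫ aX.act :=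
              (((eqvHom ρ aX).map ι'.op) φ).2
            rw [heq, hj]
            change aX.act.left ((G ◁ ((B ◁ ι') ≫ φ.1)).left r) = aX.act.left ((G ◁ j).left v)
            rw [hv]
          exact ⟨aU.act.left v, e.symm⟩
        · refine ⟨(ι' ≫ z).left r, ?_⟩
          change ((ι' ≫ z) ≫ j).left r = (lift (toUnit T' ≫ o) (𝟙 T') ≫ (B ◁ ι') ≫ φ.1).left r
          rw [Category.assoc, hz, lift_whiskerLeft_assoc, comp_lift_assoc, Category.comp_id, Category.id_comp,
            ← Category.assoc ι', comp_toUnit]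
      have : q ∈ (B ◁ ι').left ⁻¹ᵁ W := by rw [key]; trivial
      rw [← hq]
      exact this
    have hr : Set.range φ.1.left ⊆ Set.range j.left := by
      rintro _ ⟨p, rfl⟩
      exact hW p
    let ψ : B ⊗ Y ⟶ U := Over.homMk (IsOpenImmersion.lift j.left φ.1.left hr) (by
      rw [← Over.w j, ← Category.assoc, IsOpenImmersion.lift_fac, Over.w φ.1])
    have hψ : ψ ≫ j = φ.1 := Over.OverMorphism.ext (IsOpenImmersion.lift_fac _ _ hr)
    refine ⟨⟨ψ, (mem_eqvHom_iff ψ).2 fun T' g b t => ?_⟩, Subtype.ext hψ, ?_⟩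
    · rw [← cancel_mono j, Category.assoc, Category.assoc, hψ, hj, lift_whiskerLeft_assoc, Category.assoc, hψ]
      exact (mem_eqvHom_iff φ.1).1 φ.2 T' g b t
    · refine (cancel_mono j).1 ?_
      exact ((Category.assoc _ _ _).trans (congrArg (_ ≫ ·) hψ)).trans hz.symm

end Groth.Agent.Mag88
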