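import Groth.Agent.Mag88.Affine1
import Groth.Agent.Mag88.OpenPb
import Groth.Agent.Mag88.Comap

/-! Attractors of schemes affine over the base: the closed subscheme. -/

universe u

set_option backward.isDefEq.respectTransparency false
set_option backward.isDefEq.respectTransparency.types false
set_option linter.style.haveILetI false

open CategoryTheory CategoryTheory.Limits MonoidalCategory CartesianMonoidalCategory MonObj AlgebraicGeometry
open Opposite Magnet Magnet.MonAct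

namespace Groth.Agent.Mag88

variable {S : Scheme.{u}} {M : Type} [AddCommMonoid M] {X : Over S}

/-- The orbit map of a point. -/
noncomputable def orb (a : MonAct (AMonS S M) X) {T : Over S} (x : T ⟶ X) : AMonS S M ⊗ T ⟶ X :=
  (AMonS S M ◁ x) ≫ a.act

/-- The orbit map of the point extends to `A(N)`. -/
def Cond (a : MonAct (AMonS S M) X) (N : AddSubmonoid M) {T : Over S} (x : T ⟶ X) : Prop :=
  ∃ φ : AMonS S N ⊗ T ⟶ X, (AMonS.map S N.subtype ▷ T) ≫ φ = orb a x

variable (a : MonAct (AMonS S M) X) (N : AddSubmonoid M)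

theorem orb_comp {T T' : Over S} (t : T' ⟶ T) (x : T ⟶ X) :
    (AMonS S M ◁ t) ≫ orb a x = orb a (t ≫ x) := by
  rw [orb, orb, MonoidalCategory.whiskerLeft_comp, Category.assoc]

theorem cond_comp {T T' : Over S} (t : T' ⟶ T) {x : T ⟶ X} (h : Cond a N x) : Cond a N (t ≫ x) := by
  obtain ⟨φ, hφ⟩ := h
  exact ⟨(AMonS S N ◁ t) ≫ φ, by rw [← whisker_exchange_assoc, hφ, orb_comp]⟩

theorem lift_orb {T T' : Over S} (x : T ⟶ X) (g : T' ⟶ AMonS S M) (t : T' ⟶ T) :
    lift g t ≫ orb a x = lift g (t ≫ x) ≫ a.act := by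
  rw [orb, lift_whiskerLeft_assoc]

theorem cond_of_obj {T : Over S} (φ : (attr a N).obj (op T)) :
    Cond a N ((attrToX a N).app (op T) φ) :=
  ⟨φ.1, whiskerRight_comp_eqvHom (AMonS.map S N.subtype) a φ⟩

theorem exists_obj_of_cond [IsSeparated X.hom] {T : Over S} {x : T ⟶ X} (h : Cond a N x) :
    ∃ φ : (attr a N).obj (op T), (attrToX a N).app (op T) φ = x := by
  obtain ⟨φ, hφ⟩ := h
  have hpt : ∀ {T' : Over S} (g : T' ⟶ AMonS S M) (t : T' ⟶ T),
      lift (g ≫ AMonS.map S N.subtype) t ≫ φ = lift g (t ≫ x) ≫ a.act := fun g t => by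
    rw [← lift_whiskerRight_assoc, hφ, lift_orb]
  let e' : AMonS S N ⊗ (AMonS S M ⊗ T) ⟶ AMonS S M ⊗ (AMonS S N ⊗ T) :=
    lift (snd _ _ ≫ fst _ _) (lift (fst _ _) (snd _ _ ≫ snd _ _))
  have hmem : IsEquivariant ((subAct S M N).prod (MonAct.trivial (AMonS S M) T)) a φ := by
    haveI := isSTD_subtype (S := S) N (AMonS S M ⊗ T)
    have H : e' ≫ ((subAct S M N).prod (MonAct.trivial (AMonS S M) T)).act ≫ φ =
        e' ≫ (AMonS S M ◁ φ) ≫ a.act := by
      refine eq_of_isSTD (AMonS.map S N.subtype ▷ (AMonS S M ⊗ T)) _ _ ?_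
      apply hom_ext_lift₂
      intro T' b p
      obtain ⟨g, t, rfl⟩ : ∃ (g : T' ⟶ AMonS S M) (t : T' ⟶ T), lift g t = p :=
        ⟨p ≫ fst _ _, p ≫ snd _ _, by rw [← comp_lift, lift_fst_snd, Category.comp_id]⟩
      simp only [lift_whiskerRight_assoc, e', comp_lift_assoc, lift_snd_assoc, lift_fst, comp_lift, lift_snd]
      rw [lift_prod_act_assoc, lift_trivial_act, lift_subAct_map, lift_whiskerLeft_assoc, hpt,
        ← MonObj.mul_comp, hpt, lift_mul_act]
    change _ ≫ _ = _ ≫ _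
    apply hom_ext_lift₂
    intro T' g p
    obtain ⟨b, t, rfl⟩ : ∃ (b : T' ⟶ AMonS S N) (t : T' ⟶ T), lift b t = p :=
      ⟨p ≫ fst _ _, p ≫ snd _ _, by rw [← comp_lift, lift_fst_snd, Category.comp_id]⟩
    have he : lift g (lift b t) = lift b (lift g t) ≫ e' := by simp [e']
    rw [he, Category.assoc, Category.assoc, H]
  refine ⟨⟨φ, hmem⟩, ?_⟩
  change lift (toUnit T ≫ η[AMonS S N]) (𝟙 T) ≫ φ = x
  rw [← IsMonHom.one_hom (AMonS.map S N.subtype), ← Category.assoc, hpt, Category.id_comp, ← Hom.one_def, lift_one_act]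

theorem attrToX_injective [IsSeparated X.hom] {T : Over S} (φ φ' : (attr a N).obj (op T))
    (h : (attrToX a N).app (op T) φ = (attrToX a N).app (op T) φ') : φ = φ' := by
  haveI := isSTD_subtype (S := S) N T
  exact evalAt_injective (AMonS.map S N.subtype) a T h

theorem cond_local [IsSeparated X.hom] {T : Over S} {x : T ⟶ X} {J : Type u} (U : J → Over S) (j : ∀ i, U i ⟶ T)
    [∀ i, IsOpenImmersion (j i).left] (hU : ∀ t : T.left, ∃ i, t ∈ Set.range (j i).left)
    (h : ∀ i, Cond a N (j i ≫ x)) : Cond a N x := by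
  choose φ hφ using h
  let B := AMonS S N
  let i₀ := AMonS.map S N.subtype
  haveI : ∀ i, IsOpenImmersion (B ◁ j i).left := fun i =>
    MorphismProperty.of_isPullback ((isPullback_whiskerLeft_snd (A := B) (j i)).map (Over.forget S)).flip (inferInstanceAs (IsOpenImmersion (j i).left))
  have hcov : ∀ p : (B ⊗ T).left, ∃ i, ∃ q, (B ◁ j i).left q = p := fun p => by
    obtain ⟨i, u, hu⟩ := hU ((snd B T).left p)
    exact ⟨i, exists_of_snd_eq (j i) p u hu.symm⟩
  choose idx q hq using hcov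
  let 𝒰 : (B ⊗ T).left.OpenCover := Scheme.Cover.mkOfCovers J (fun i => (B ⊗ U i).left) (fun i => (B ◁ j i).left)
    (fun p => ⟨idx p, q p, hq p⟩) (fun i => inferInstance)
  have hf : ∀ i k : J, pullback.fst (B ◁ j i).left (B ◁ j k).left ≫ (φ i).left =
      pullback.snd (B ◁ j i).left (B ◁ j k).left ≫ (φ k).left := fun i k => by
    let P : Over S := Over.mk (pullback.fst (B ◁ j i).left (B ◁ j k).left ≫ (B ⊗ U i).hom)
    let f₁ : P ⟶ B ⊗ U i := Over.homMk (pullback.fst (B ◁ j i).left (B ◁ j k).left) rfl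
    let f₂ : P ⟶ B ⊗ U k := Over.homMk (pullback.snd (B ◁ j i).left (B ◁ j k).left) (by
      show _ = pullback.fst (B ◁ j i).left (B ◁ j k).left ≫ (B ⊗ U i).hom
      rw [← Over.w (B ◁ j i), pullback.condition_assoc, Over.w])
    have hP : f₁ ≫ (B ◁ j i) = f₂ ≫ (B ◁ j k) := Over.OverMorphism.ext pullback.condition
    have hP₁ : f₁ ≫ fst _ _ = f₂ ≫ fst _ _ := by
      have e := congrArg (fun z => z ≫ fst _ _) hP
      simpa using e
    have hP₂ : (f₁ ≫ snd _ _) ≫ j i = (f₂ ≫ snd _ _) ≫ j k := by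
      have e := congrArg (fun z => z ≫ snd _ _) hP
      simpa using e
    let l : P ⟶ B ⊗ pullback (j i) (j k) := lift (f₁ ≫ fst _ _) (pullback.lift (f₁ ≫ snd _ _) (f₂ ≫ snd _ _) hP₂)
    have e₁ : l ≫ (B ◁ pullback.fst _ _) = f₁ := by
      apply CartesianMonoidalCategory.hom_ext <;> simp [l]
    have e₂ : l ≫ (B ◁ pullback.snd _ _) = f₂ := by
      apply CartesianMonoidalCategory.hom_ext <;> simp [l, hP₁]
    haveI := isSTD_subtype (S := S) N (pullback (j i) (j k))
    have e : (B ◁ pullback.fst (j i) (j k)) ≫ φ i = (B ◁ pullback.snd (j i) (j k)) ≫ φ k := by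
      refine eq_of_isSTD (i₀ ▷ _) _ _ ?_
      rw [← whisker_exchange_assoc, ← whisker_exchange_assoc, hφ, hφ, orb_comp, orb_comp, ← Category.assoc,
        ← Category.assoc, pullback.condition]
    have e' := congrArg (fun z => (l ≫ z).left) e
    simp only [← Category.assoc, e₁, e₂] at e'
    exact e'
  let Φ : (B ⊗ T).left ⟶ X.left := 𝒰.glueMorphisms (fun i => (φ i).left) hf
  have hΦ : ∀ i, (B ◁ j i).left ≫ Φ = (φ i).left := fun i => 𝒰.ι_glueMorphisms _ hf i
  refine ⟨Over.homMk Φ (Scheme.Cover.hom_ext 𝒰 _ _ fun i => ?_), Over.OverMorphism.ext ?_⟩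
  · show (B ◁ j i).left ≫ Φ ≫ X.hom = (B ◁ j i).left ≫ (B ⊗ T).hom
    rw [← Category.assoc, hΦ, Over.w, Over.w]
  let A := AMonS S M
  haveI : ∀ i, IsOpenImmersion (A ◁ j i).left := fun i =>
    MorphismProperty.of_isPullback ((isPullback_whiskerLeft_snd (A := A) (j i)).map (Over.forget S)).flip (inferInstanceAs (IsOpenImmersion (j i).left))
  have hcovA : ∀ p : (A ⊗ T).left, ∃ i, ∃ q, (A ◁ j i).left q = p := fun p => by
    obtain ⟨i, u, hu⟩ := hU ((snd A T).left p)
    exact ⟨i, exists_of_snd_eq (j i) p u hu.symm⟩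
  choose idx' q' hq' using hcovA
  let 𝒱 : (A ⊗ T).left.OpenCover := Scheme.Cover.mkOfCovers J (fun i => (A ⊗ U i).left) (fun i => (A ◁ j i).left)
    (fun p => ⟨idx' p, q' p, hq' p⟩) (fun i => inferInstance)
  refine Scheme.Cover.hom_ext 𝒱 _ _ fun i => ?_
  change ((A ◁ j i).left ≫ (i₀ ▷ T).left ≫ Φ) = (A ◁ j i).left ≫ (orb a x).left
  rw [← Category.assoc, ← Over.comp_left, whisker_exchange, Over.comp_left, Category.assoc, hΦ, ← Over.comp_left,
    ← Over.comp_left, hφ, orb_comp]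

section Ideal

variable [IsAffineHom X.hom]

theorem isIso_mMap' {R : CommRingCat.{u}} (p : Spec R ⟶ S) (N' : Type) [AddCommMonoid N'] : IsIso (mMap p N') :=
  haveI : IsIso ((Over.forget S).map (mMap p N')) := isIso_mMap p N'
  isIso_of_reflects_iso _ (Over.forget S)

theorem cond_affine_iff {R R' : CommRingCat.{u}} (p : Spec R ⟶ S) (q : R ⟶ R') (x : Over.mk p ⟶ X) :
    Cond a N ((Over.homMk (Spec.map q) rfl : Over.mk (Spec.map q ≫ p) ⟶ Over.mk p) ≫ x) ↔
      ∀ (b : Γ(pullback X.hom p, ⊤)) (m : M), m ∉ N →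
        q ((fn p (mMap p M ≫ orb a x) b).coeff (Multiplicative.ofAdd m)) = 0 := by
  haveI := isIso_mMap' (Spec.map q ≫ p) M
  haveI := isIso_mMap' (Spec.map q ≫ p) N
  rw [← exists_factor_iff]
  constructor
  · rintro ⟨φ, hφ⟩
    refine ⟨mMap _ _ ≫ φ, ?_⟩
    rw [← Category.assoc, mMap_natural, Category.assoc, hφ, ← Category.assoc (mQbc p q M), mQbc_mMap, Category.assoc,
      orb_comp]
  · rintro ⟨ψ, hψ⟩
    refine ⟨inv (mMap _ _) ≫ ψ, ?_⟩
    rw [← cancel_epi (mMap (Spec.map q ≫ p) M), ← Category.assoc, ← mMap_natural, Category.assoc, IsIso.hom_inv_id_assoc,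
      hψ, ← Category.assoc (mQbc p q M), mQbc_mMap, Category.assoc, orb_comp]

/-- An affine open as a point. -/
noncomputable abbrev uPt (V : X.left.affineOpens) : Over.mk (V.2.fromSpec ≫ X.hom) ⟶ X := Over.homMk V.2.fromSpec rfl

/-- The ideal of the attractor on an affine open. -/
noncomputable def attrIdeal (V : X.left.affineOpens) : Ideal Γ(X.left, V) :=
  Ideal.span {r | ∃ (b : Γ(pullback X.hom (V.2.fromSpec ≫ X.hom), ⊤)) (m : M), m ∉ N ∧
    (fn (V.2.fromSpec ≫ X.hom) (mMap _ M ≫ orb a (uPt V)) b).coeff (Multiplicative.ofAdd m) = r}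

theorem cond_iff_le_ker (V : X.left.affineOpens) {R' : CommRingCat.{u}} (q : Γ(X.left, V) ⟶ R') {T : Over S}
    (e : T.left ≅ Spec R') (x : T ⟶ X) (hx : x.left = e.hom ≫ Spec.map q ≫ V.2.fromSpec) :
    Cond a N x ↔ attrIdeal a N V ≤ RingHom.ker q.hom := by
  let T' : Over S := Over.mk (Spec.map q ≫ V.2.fromSpec ≫ X.hom)
  let bc : T' ⟶ Over.mk (V.2.fromSpec ≫ X.hom) := Over.homMk (Spec.map q) rfl
  let k : T ⟶ T' := Over.homMk e.hom (by
    show e.hom ≫ Spec.map q ≫ V.2.fromSpec ≫ X.hom = T.hom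
    rw [← Over.w x, hx, Category.assoc, Category.assoc])
  let k' : T' ⟶ T := Over.homMk e.inv (by
    show e.inv ≫ T.hom = Spec.map q ≫ V.2.fromSpec ≫ X.hom
    rw [Iso.inv_comp_eq, ← Over.w x, hx, Category.assoc, Category.assoc])
  have h1 : x = k ≫ bc ≫ uPt V := Over.OverMorphism.ext hx
  have h2 : bc ≫ uPt V = k' ≫ x := by
    apply Over.OverMorphism.ext
    show Spec.map q ≫ V.2.fromSpec = e.inv ≫ x.left
    rw [hx, Iso.inv_hom_id_assoc]
  have h3 : Cond a N x ↔ Cond a N (bc ≫ uPt V) :=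
    ⟨fun h => h2 ▸ cond_comp a N k' h, fun h => h1 ▸ cond_comp a N k h⟩
  refine (h3.trans (cond_affine_iff a N _ q (uPt V))).trans ?_
  rw [attrIdeal, Ideal.span_le]
  exact ⟨fun h r ⟨b, m, hm, hr⟩ => hr ▸ h b m hm, fun h b m hm => h ⟨b, m, hm, rfl⟩⟩

/-- The point of `Spec` of a ring over an affine open. -/
noncomputable abbrev specPt (V : X.left.affineOpens) {R' : CommRingCat.{u}} (q : Γ(X.left, V) ⟶ R') :
    Over.mk ((Spec.map q ≫ V.2.fromSpec) ≫ X.hom) ⟶ X := Over.homMk (Spec.map q ≫ V.2.fromSpec) rfl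

theorem map_attrIdeal (V : X.left.affineOpens) (f : Γ(X.left, V)) :
    (attrIdeal a N V).map (X.left.presheaf.map (homOfLE <| X.left.basicOpen_le f).op).hom =
      attrIdeal a N (X.left.affineBasicOpen f) := by
  let W := X.left.affineBasicOpen f
  let ρ : Γ(X.left, V) ⟶ Γ(X.left, W) := X.left.presheaf.map (homOfLE <| X.left.basicOpen_le f).op
  have hρ : Spec.map ρ ≫ V.2.fromSpec = W.2.fromSpec := V.2.map_fromSpec W.2 _
  have key : ∀ {R' : CommRingCat.{u}} (q : Γ(X.left, W) ⟶ R'),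
      attrIdeal a N W ≤ RingHom.ker q.hom ↔ (attrIdeal a N V).map ρ.hom ≤ RingHom.ker q.hom := fun {R'} q => by
    have hW' : (specPt W q).left = 𝟙 (Spec R') ≫ Spec.map q ≫ W.2.fromSpec := (Category.id_comp _).symm
    have hV' : (specPt W q).left = 𝟙 (Spec R') ≫ Spec.map (ρ ≫ q) ≫ V.2.fromSpec := by
      show Spec.map q ≫ W.2.fromSpec = _
      rw [Category.id_comp, Spec.map_comp, Category.assoc, hρ]
    have i1 := cond_iff_le_ker a N W (R' := R') q (T := Over.mk ((Spec.map q ≫ W.2.fromSpec) ≫ X.hom)) (Iso.refl (Spec R')) (specPt W q) hW'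
    have i2 := cond_iff_le_ker a N V (R' := R') (ρ ≫ q) (T := Over.mk ((Spec.map q ≫ W.2.fromSpec) ≫ X.hom)) (Iso.refl (Spec R')) (specPt W q) hV'
    rw [Ideal.map_le_iff_le_comap, RingHom.comap_ker, ← CommRingCat.hom_comp]
    exact i1.symm.trans i2
  refine le_antisymm ?_ ?_
  · have := (key (CommRingCat.ofHom (Ideal.Quotient.mk (attrIdeal a N W)))).1 (Ideal.mk_ker).ge
    exact this.trans Ideal.mk_ker.le
  · have := (key (CommRingCat.ofHom (Ideal.Quotient.mk ((attrIdeal a N V).map ρ.hom)))).2 (Ideal.mk_ker).ge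
    exact this.trans Ideal.mk_ker.le

/-- The ideal sheaf of the attractor. -/
noncomputable def attrData : X.left.IdealSheafData where
  ideal := attrIdeal a N
  map_ideal_basicOpen := map_attrIdeal a N

/-- The attractor as a closed subscheme. -/
noncomputable def attrZ : Over S := Over.mk ((attrData a N).subschemeι ≫ X.hom)

/-- Its inclusion. -/
noncomputable def attrι : attrZ a N ⟶ X := Over.homMk (attrData a N).subschemeι rfl

instance isClosedImmersion_attrι : IsClosedImmersion (attrι a N).left :=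
  inferInstanceAs (IsClosedImmersion (attrData a N).subschemeι)

omit [IsAffineHom X.hom] in
theorem exists_cover {T : Over S} (x : T ⟶ X) (t : T.left) :
    ∃ (V : X.left.affineOpens) (W : T.left.affineOpens), t ∈ W.1 ∧ W.1 ≤ x.left ⁻¹ᵁ V.1 := by
  obtain ⟨V, hV, hxV, -⟩ := exists_isAffineOpen_mem_and_subset (U := ⊤) (show x.left t ∈ (⊤ : X.left.Opens) from trivial)
  obtain ⟨W, hW, htW, hWV⟩ := exists_isAffineOpen_mem_and_subset (U := x.left ⁻¹ᵁ V) (show t ∈ x.left ⁻¹ᵁ V from hxV)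
  exact ⟨⟨V, hV⟩, ⟨W, hW⟩, htW, hWV⟩

theorem cond_restrict_iff {T : Over S} (x : T ⟶ X) (V : X.left.affineOpens) (W : T.left.affineOpens)
    (e : W.1 ≤ x.left ⁻¹ᵁ V.1) :
    Cond a N ((Over.homMk W.2.fromSpec rfl : Over.mk (W.2.fromSpec ≫ T.hom) ⟶ T) ≫ x) ↔
      attrIdeal a N V ≤ RingHom.ker (x.left.appLE V W e).hom := by
  have h : ((Over.homMk W.2.fromSpec rfl : Over.mk (W.2.fromSpec ≫ T.hom) ⟶ T) ≫ x).left =
      𝟙 (Spec Γ(T.left, W.1)) ≫ Spec.map (x.left.appLE V W e) ≫ V.2.fromSpec := by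
    rw [Category.id_comp, V.2.SpecMap_appLE_fromSpec x.left W.2 e]; rfl
  exact cond_iff_le_ker a N V (R' := Γ(T.left, W.1)) (x.left.appLE V W e) (T := Over.mk (W.2.fromSpec ≫ T.hom))
    (Iso.refl (Spec Γ(T.left, W.1))) _ h

theorem cond_iff_ker {T : Over S} (x : T ⟶ X) : Cond a N x ↔ attrData a N ≤ x.left.ker := by
  constructor
  · intro h
    refine Scheme.IdealSheafData.le_ofIdeals_iff.2 fun V s hs => ?_
    rw [RingHom.mem_ker]
    have hcov : ∀ t : (x.left ⁻¹ᵁ V.1 : T.left.Opens), ∃ W : T.left.affineOpens, t.1 ∈ W.1 ∧ W.1 ≤ x.left ⁻¹ᵁ V.1 := fun t => by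
      obtain ⟨W, hW, htW, hWV⟩ := exists_isAffineOpen_mem_and_subset t.2
      exact ⟨⟨W, hW⟩, htW, hWV⟩
    choose W hW hWV using hcov
    refine (T.left.sheaf.eq_of_locally_eq' (fun t => (W t).1) (x.left ⁻¹ᵁ V.1) (fun t => homOfLE (hWV t))
      (fun t ht => TopologicalSpace.Opens.mem_iSup.2 ⟨⟨t, ht⟩, hW ⟨t, ht⟩⟩) _ 0 fun t => ?_)
    rw [map_zero]
    exact (cond_restrict_iff a N x V (W t) (hWV t)).1 (cond_comp a N _ h) hs
  · intro h
    choose V W hW hWV using exists_cover x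
    haveI : ∀ t, IsOpenImmersion (Over.homMk (W t).2.fromSpec rfl : Over.mk ((W t).2.fromSpec ≫ T.hom) ⟶ T).left :=
      fun t => inferInstanceAs (IsOpenImmersion (W t).2.fromSpec)
    have hr : ∀ t, Set.range (W t).2.fromSpec = ((W t).1 : Set T.left) := fun t => IsAffineOpen.range_fromSpec (W t).2
    refine cond_local a N (fun t => Over.mk ((W t).2.fromSpec ≫ T.hom)) (fun t => Over.homMk (W t).2.fromSpec rfl)
      (fun t => ⟨t, show t ∈ Set.range (W t).2.fromSpec from (hr t).symm ▸ hW t⟩)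
      fun t => (cond_restrict_iff a N x (V t) (W t) (hWV t)).2 fun s hs => ?_
    have h0 : x.left.app (V t).1 s = 0 := Scheme.Hom.ideal_ker_le x.left (V t) (h (V t) hs)
    change T.left.presheaf.map _ (x.left.app (V t).1 s) = 0
    rw [h0, map_zero]

theorem exists_representableBy_attr :
    ∃ (Z : Over S) (i : Z ⟶ X) (e : (attr a N).RepresentableBy Z), IsClosedImmersion i.left ∧
      ∀ (T : Over S) (z : T ⟶ Z), (attrToX a N).app (op T) (e.homEquiv z) = z ≫ i := by
  obtain ⟨Φ, hΦ⟩ := exists_obj_of_cond a N ((cond_iff_ker a N (attrι a N)).2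
    (le_of_eq (attrData a N).ker_subschemeι.symm))
  have hnat : ∀ (T : Over S) (z : T ⟶ attrZ a N),
      (attrToX a N).app (op T) ((attr a N).map z.op Φ) = z ≫ attrι a N := fun T z => by
    rw [← hΦ]
    exact congr($((attrToX a N).naturality z.op) Φ)
  have hb : ∀ T : Over S, Function.Bijective fun z : T ⟶ attrZ a N => (attr a N).map z.op Φ := fun T => by
    refine ⟨fun z z' h => ?_, fun φ => ?_⟩
    · haveI := mono_of_closedImm (attrι a N)
      have := congrArg (fun φ => (attrToX a N).app (op T) φ) h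
      simp only [hnat] at this
      exact (cancel_mono _).1 this
    · let x : T ⟶ X := (attrToX a N).app (op T) φ
      have hk : (attrι a N).left.ker ≤ x.left.ker :=
        le_of_eq_of_le (attrData a N).ker_subschemeι ((cond_iff_ker a N x).1 (cond_of_obj a N φ))
      let z : T ⟶ attrZ a N := Over.homMk (IsClosedImmersion.lift (attrι a N).left x.left hk) (by
        show _ ≫ (attrι a N).left ≫ X.hom = T.hom
        rw [IsClosedImmersion.lift_fac_assoc, Over.w])
      refine ⟨z, attrToX_injective a N _ _ ?_⟩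
      rw [hnat]
      exact Over.OverMorphism.ext (IsClosedImmersion.lift_fac _ _ hk)
  refine ⟨attrZ a N, attrι a N,
    { homEquiv := fun {T} => Equiv.ofBijective _ (hb T)
      homEquiv_comp := fun f g => ?_ }, inferInstance, hnat⟩
  exact congr($((attr a N).map_comp g.op f.op) Φ)

end Ideal

end Groth.Agent.Mag88
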