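import Groth.Agent.Mag88.Affine2
import Groth.Prelude.Def_Magnet4

/-! Change of monoid for attractors of schemes affine over the base. -/

universe u

set_option backward.isDefEq.respectTransparency false
set_option backward.isDefEq.respectTransparency.types false
set_option linter.style.haveILetI false

open CategoryTheory CategoryTheory.Limits MonoidalCategory CartesianMonoidalCategory MonObj AlgebraicGeometry
open Opposite Magnet Magnet.MonAct

namespace Groth.Agent.Mag88

variable {S : Scheme.{u}} {M Z : Type} [AddCommMonoid M] [AddCommMonoid Z] {X : Over S} [IsAffineHom X.hom]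

omit [IsAffineHom X.hom] in
theorem fn_mQmap {R : CommRingCat.{u}} (p : Spec R ⟶ S) (φ : M →+ Z) (o : mQ p M ⟶ X) :
    fn p (mQmap p φ ≫ o) = fn p o ≫ CommRingCat.ofHom
      (MonoidAlgebra.mapDomainAlgHom R R (AddMonoidHom.toMultiplicative φ)).toRingHom := by
  let σ : CommRingCat.of (MonoidAlgebra R (Multiplicative M)) ⟶ CommRingCat.of (MonoidAlgebra R (Multiplicative Z)) :=
    CommRingCat.ofHom (MonoidAlgebra.mapDomainAlgHom R R (AddMonoidHom.toMultiplicative φ)).toRingHom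
  have e : toPb p (mQmap p φ ≫ o) = Spec.map σ ≫ toPb p o := by
    apply pullback.hom_ext
    · rw [toPb, toPb, Category.assoc, pullback.lift_fst, pullback.lift_fst]
      rfl
    · rw [toPb, toPb, Category.assoc, pullback.lift_snd, pullback.lift_snd, ← Spec.map_comp, ← CommRingCat.ofHom_comp]
      exact congrArg (fun q => Spec.map (CommRingCat.ofHom q))
        (MonoidAlgebra.mapDomainAlgHom R R (AddMonoidHom.toMultiplicative φ)).comp_algebraMap.symm
  rw [fn, fn, e, Scheme.Hom.comp_appTop, Category.assoc, Category.assoc]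
  exact congrArg ((toPb p o).appTop ≫ ·) (Scheme.ΓSpecIso_naturality σ)

theorem coeff_eq_zero_of_factor {R : CommRingCat.{u}} (p : Spec R ⟶ S) (F : M →+ Z) (hF : Function.Injective F)
    (P : AddSubmonoid Z) (o : mQ p M ⟶ X) (ψ : mQ p P ⟶ X) (h : mQmap p P.subtype ≫ ψ = mQmap p F ≫ o)
    (b : Γ(pullback X.hom p, ⊤)) (m : M) (hm : F m ∉ P) : (fn p o b).coeff (Multiplicative.ofAdd m) = 0 := by
  have e := congr($(congrArg (fn p) h) b)
  rw [fn_mQmap, fn_mQmap] at e
  have h1 := (mem_range_mapDomain_subtype (R := R) P _).1 ⟨_, e⟩ (F m) hm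
  have h2 : ((fn p o ≫ CommRingCat.ofHom (MonoidAlgebra.mapDomainAlgHom R R (AddMonoidHom.toMultiplicative F)).toRingHom) b).coeff
      (Multiplicative.ofAdd (F m)) = (fn p o b).coeff (Multiplicative.ofAdd m) :=
    Finsupp.mapDomain_apply (f := AddMonoidHom.toMultiplicative F)
      (fun a b hab => Multiplicative.toAdd.injective (hF (Multiplicative.ofAdd.injective hab))) _ _
  rw [← h2]
  exact h1

variable (a : MonAct (AMonS S M) X) (f : M →+ Z) (Y : AddSubmonoid Z)

omit [IsAffineHom X.hom] in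
theorem orb_restrict {T : Over S} (x : T ⟶ X) :
    orb (a.restrict (AMonS.map S f)) x = (AMonS.map S f ▷ T) ≫ orb a x := by
  rw [orb, orb, restrict_act, whisker_exchange_assoc]

omit [IsAffineHom X.hom] in
theorem exists_factor_graph {T : Over S} {x : T ⟶ X} (h : Cond (a.restrict (AMonS.map S f)) Y x) :
    ∃ Φ : AMonS S (Y.prod (⊤ : AddSubmonoid M)) ⊗ T ⟶ X,
      (AMonS.map S (Y.prod (⊤ : AddSubmonoid M)).subtype ▷ T) ≫ Φ =
        (AMonS.map S (f.prod (AddMonoidHom.id M)) ▷ T) ≫ orb a x := by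
  obtain ⟨φ, hφ⟩ := h
  let iY : Y →+ Y.prod (⊤ : AddSubmonoid M) :=
    ((AddMonoidHom.inl Z M).comp Y.subtype).codRestrict _ (fun y => ⟨y.2, trivial⟩)
  let iM : M →+ Y.prod (⊤ : AddSubmonoid M) :=
    (AddMonoidHom.inr Z M).codRestrict _ (fun m => ⟨Y.zero_mem, trivial⟩)
  refine ⟨lift (fst _ _ ≫ AMonS.map S iM) (lift (fst _ _ ≫ AMonS.map S iY) (snd _ _) ≫ φ) ≫ a.act, ?_⟩
  apply hom_ext_lift₂
  intro T' w t
  have hφ' : ∀ z : T' ⟶ AMonS S Z, lift (z ≫ AMonS.map S Y.subtype) t ≫ φ = lift z t ≫ orb (a.restrict (AMonS.map S f)) x :=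
    fun z => by rw [← hφ, lift_whiskerRight_assoc]
  simp only [lift_whiskerRight_assoc, comp_lift_assoc, lift_fst_assoc, lift_snd]
  rw [show (w ≫ AMonS.map S (Y.prod (⊤ : AddSubmonoid M)).subtype) ≫ AMonS.map S iY =
      (w ≫ AMonS.map S (AddMonoidHom.inl Z M)) ≫ AMonS.map S Y.subtype from aFn_ext fun y => by
        rw [aFn_map, aFn_map, aFn_map, aFn_map]; rfl,
    hφ', lift_orb, lift_restrict_act, ← lift_mul_act, lift_orb]
  congr 2
  refine aFn_ext fun m => ?_
  rw [aFn_mul, aFn_map, aFn_map, aFn_map, aFn_map, aFn_map, ← aFn_add]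
  congr 1
  simp [iM]

theorem cond_comap {T : Over S} {x : T ⟶ X} (h : Cond (a.restrict (AMonS.map S f)) Y x) :
    Cond a (Y.comap f) x := by
  have hex : ∀ t : T.left, ∃ U : T.left.affineOpens, t ∈ U.1 := fun t =>
    let ⟨U, hU, ht, _⟩ := exists_isAffineOpen_mem_and_subset (U := ⊤) (show t ∈ (⊤ : T.left.Opens) from trivial)
    ⟨⟨U, hU⟩, ht⟩
  choose U hU using hex
  haveI : ∀ t, IsOpenImmersion (Over.homMk (U t).2.fromSpec rfl : Over.mk ((U t).2.fromSpec ≫ T.hom) ⟶ T).left :=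
    fun t => inferInstanceAs (IsOpenImmersion (U t).2.fromSpec)
  have hr : ∀ t, Set.range (U t).2.fromSpec = ((U t).1 : Set T.left) := fun t => IsAffineOpen.range_fromSpec (U t).2
  refine cond_local a _ (fun t => Over.mk ((U t).2.fromSpec ≫ T.hom)) (fun t => Over.homMk (U t).2.fromSpec rfl)
    (fun t => ⟨t, show t ∈ Set.range (U t).2.fromSpec from (hr t).symm ▸ hU t⟩) fun t => ?_
  let j : Over.mk ((U t).2.fromSpec ≫ T.hom) ⟶ T := Over.homMk (U t).2.fromSpec rfl
  change Cond a _ (j ≫ x)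
  have hj := cond_comp (a.restrict (AMonS.map S f)) Y j h
  obtain ⟨Φ, hΦ⟩ := exists_factor_graph a f Y hj
  let p := (U t).2.fromSpec ≫ T.hom
  haveI := isIso_mMap' p M
  have hc : ∀ (b : Γ(pullback X.hom p, ⊤)) (m : M), m ∉ Y.comap f →
      (fn p (mMap p M ≫ orb a (j ≫ x)) b).coeff (Multiplicative.ofAdd m) = 0 := fun b m hm =>
    coeff_eq_zero_of_factor p (f.prod (AddMonoidHom.id M)) (fun m m' e => congrArg Prod.snd e)
      (Y.prod (⊤ : AddSubmonoid M)) _ (mMap p (Y.prod (⊤ : AddSubmonoid M)) ≫ Φ)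
      (by rw [← Category.assoc, mMap_natural, Category.assoc, hΦ, ← Category.assoc, ← mMap_natural, Category.assoc])
      b m (fun hP => hm hP.1)
  have := (cond_affine_iff a (Y.comap f) p (𝟙 _) (j ≫ x)).2 hc
  let k : Over.mk p ⟶ Over.mk (Spec.map (𝟙 _) ≫ p) := Over.homMk (𝟙 _) (by simp)
  have hk : j ≫ x = k ≫ (Over.homMk (Spec.map (𝟙 _)) rfl : Over.mk (Spec.map (𝟙 _) ≫ p) ⟶ Over.mk p) ≫ (j ≫ x) := by
    apply Over.OverMorphism.ext
    simp [k]
  rw [hk]
  exact cond_comp a _ k this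

theorem isIso_attrComap_of_affine : IsIso (attrComap a f Y) := by
  have heval : ∀ (T : Over S) (φ : (attr a (Y.comap f)).obj (op T)),
      (attrToX (a.restrict (AMonS.map S f)) Y).app (op T) ((attrComap a f Y).app (op T) φ) =
        (attrToX a (Y.comap f)).app (op T) φ := fun T φ => by
    change lift (toUnit T ≫ η[AMonS S Y]) (𝟙 T) ≫ ((attrComap a f Y).app (op T) φ).1 =
      lift (toUnit T ≫ η[AMonS S (Y.comap f)]) (𝟙 T) ≫ φ.1
    rw [attrComap_app_coe, lift_whiskerRight_assoc, Category.assoc, IsMonHom.one_hom]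
  rw [NatTrans.isIso_iff_isIso_app]
  intro T
  rw [isIso_iff_bijective]
  refine ⟨fun φ φ' h => attrToX_injective a _ φ φ' ?_, fun ψ => ?_⟩
  · rw [← heval, ← heval]
    exact congrArg _ h
  · obtain ⟨φ, hφ⟩ := exists_obj_of_cond a (Y.comap f) (cond_comap a f Y (cond_of_obj _ _ (T := unop T) ψ))
    exact ⟨φ, attrToX_injective (T := unop T) _ _ _ _ ((heval _ φ).trans hφ)⟩

end Groth.Agent.Mag88
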