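import Groth.Agent.Mag88.Affine2

/-! Finitely many weights govern the attractors of an affine scheme of finite type. -/

universe u

set_option backward.isDefEq.respectTransparency false
set_option backward.isDefEq.respectTransparency.types false
set_option linter.style.haveILetI false

open CategoryTheory CategoryTheory.Limits MonoidalCategory CartesianMonoidalCategory MonObj AlgebraicGeometry
open Opposite Magnet Magnet.MonAct

namespace Groth.Agent.Mag88

variable {S : Scheme.{u}} {M : Type} [AddCommMonoid M] {X : Over S}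
variable (a : MonAct (AMonS S M) X)

theorem cond_mono {N L : AddSubmonoid M} (h : L ≤ N) {T : Over S} {x : T ⟶ X} (hx : Cond a L x) : Cond a N x := by
  obtain ⟨φ, hφ⟩ := hx
  refine ⟨(AMonS.map S (AddSubmonoid.inclusion h) ▷ T) ≫ φ, ?_⟩
  rw [← comp_whiskerRight_assoc, ← AMonS.map_comp]
  exact hφ

theorem cond_pt_iff {R R' : CommRingCat.{u}} (p : Spec R ⟶ S) (q : R ⟶ R') (x : Over.mk p ⟶ X) (N : AddSubmonoid M) :
    Cond a N ((Over.homMk (Spec.map q) rfl : Over.mk (Spec.map q ≫ p) ⟶ Over.mk p) ≫ x) ↔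
      ∃ ψ : mQ (Spec.map q ≫ p) N ⟶ X,
        mQmap (Spec.map q ≫ p) N.subtype ≫ ψ = mQbc p q M ≫ mMap p M ≫ orb a x := by
  haveI : IsIso ((Over.forget S).map (mMap (Spec.map q ≫ p) M)) := isIso_mMap _ M
  haveI := isIso_of_reflects_iso (mMap (Spec.map q ≫ p) M) (Over.forget S)
  haveI : IsIso ((Over.forget S).map (mMap (Spec.map q ≫ p) N)) := isIso_mMap _ N
  haveI := isIso_of_reflects_iso (mMap (Spec.map q ≫ p) N) (Over.forget S)
  constructor
  · rintro ⟨φ, hφ⟩
    refine ⟨mMap _ _ ≫ φ, ?_⟩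
    rw [← Category.assoc, mMap_natural, Category.assoc, hφ, ← Category.assoc (mQbc p q M), mQbc_mMap, Category.assoc,
      orb_comp]
  · rintro ⟨ψ, hψ⟩
    refine ⟨inv (mMap _ _) ≫ ψ, ?_⟩
    rw [← cancel_epi (mMap (Spec.map q ≫ p) M), ← Category.assoc, ← mMap_natural, Category.assoc, IsIso.hom_inv_id_assoc,
      hψ, ← Category.assoc (mQbc p q M), mQbc_mMap, Category.assoc, orb_comp]

variable [IsAffineHom X.hom] [LocallyOfFiniteType X.hom]

theorem exists_weights_affine (U : S.affineOpens) : ∃ D : Set M, D.Finite ∧ ∀ (N : AddSubmonoid M) (R' : CommRingCat.{u})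
    (q : Γ(X.left, X.hom ⁻¹ᵁ U.1) ⟶ R'),
    Cond a N ((Over.homMk (Spec.map q) rfl : Over.mk (Spec.map q ≫ (U.2.preimage X.hom).fromSpec ≫ X.hom) ⟶
        Over.mk ((U.2.preimage X.hom).fromSpec ≫ X.hom)) ≫ Over.homMk (U.2.preimage X.hom).fromSpec rfl) →
    Cond a (AddSubmonoid.closure ((N : Set M) ∩ D))
      ((Over.homMk (Spec.map q) rfl : Over.mk (Spec.map q ≫ (U.2.preimage X.hom).fromSpec ≫ X.hom) ⟶
        Over.mk ((U.2.preimage X.hom).fromSpec ≫ X.hom)) ≫ Over.homMk (U.2.preimage X.hom).fromSpec rfl) := by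
  classical
  let hV : IsAffineOpen (X.hom ⁻¹ᵁ U.1) := U.2.preimage X.hom
  let V : X.left.Opens := X.hom ⁻¹ᵁ U.1
  let p : Spec Γ(X.left, V) ⟶ S := hV.fromSpec ≫ X.hom
  let res : Γ(S, U.1) ⟶ Γ(X.left, V) := X.hom.appLE U.1 V le_rfl
  have hres : Spec.map res ≫ U.2.fromSpec = p := U.2.SpecMap_appLE_fromSpec X.hom hV le_rfl
  have lands : ∀ {B : CommRingCat.{u}} (k : Spec B ⟶ X.left) (r : Spec B ⟶ Spec Γ(X.left, V)), k ≫ X.hom = r ≫ p →
      ∃ φ : Γ(X.left, V) ⟶ B, Spec.map φ ≫ hV.fromSpec = k := fun {B} k r hk => by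
    have hr : Set.range k ⊆ Set.range hV.fromSpec := by
      rintro _ ⟨z, rfl⟩
      rw [hV.range_fromSpec]
      change X.hom (k z) ∈ U.1
      have : (k ≫ X.hom) z = (r ≫ Spec.map res ≫ U.2.fromSpec) z := by rw [hres, hk]
      rw [show X.hom (k z) = (k ≫ X.hom) z from rfl, this]
      exact U.2.range_fromSpec.le ⟨_, rfl⟩
    exact ⟨Spec.preimage (IsOpenImmersion.lift _ _ hr), by rw [Spec.map_preimage, IsOpenImmersion.lift_fac]⟩
  let alg : Γ(X.left, V) ⟶ CommRingCat.of (MonoidAlgebra Γ(X.left, V) (Multiplicative M)) :=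
    CommRingCat.ofHom (algebraMap _ _)
  let o : mQ p M ⟶ X := mMap p M ≫ orb a (Over.homMk hV.fromSpec rfl : Over.mk p ⟶ X)
  obtain ⟨φu, hφu⟩ := lands o.left (Spec.map alg) (Over.w o)
  have hconst : res ≫ φu = res ≫ alg := by
    apply Spec.map_injective
    rw [← cancel_mono U.2.fromSpec, Spec.map_comp, Spec.map_comp, Category.assoc, Category.assoc, hres]
    change Spec.map φu ≫ hV.fromSpec ≫ X.hom = _
    rw [← Category.assoc, hφu]
    exact Over.w o
  have hft : res.hom.FiniteType := LocallyOfFiniteType.finiteType_appLE X.hom U.2 hV le_rfl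
  algebraize [res.hom]
  obtain ⟨s, hs⟩ := Algebra.FiniteType.out (R := Γ(S, U.1)) (A := Γ(X.left, V))
  refine ⟨⋃ g ∈ s, {m | (φu g).coeff (Multiplicative.ofAdd m) ≠ 0}, ?_, fun N R' q hN => ?_⟩
  · refine Set.Finite.biUnion s.finite_toSet fun g _ => ?_
    exact (φu g).coeff.support.finite_toSet.preimage (Multiplicative.ofAdd.injective.injOn) |>.subset
      fun m hm => Finsupp.mem_support_iff.2 hm
  let D : Set M := ⋃ g ∈ s, {m | (φu g).coeff (Multiplicative.ofAdd m) ≠ 0}
  let L := AddSubmonoid.closure ((N : Set M) ∩ D)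
  rw [cond_pt_iff] at hN ⊢
  obtain ⟨ψ, hψ⟩ := hN
  let bc : CommRingCat.of (MonoidAlgebra Γ(X.left, V) (Multiplicative M)) ⟶ CommRingCat.of (MonoidAlgebra R' (Multiplicative M)) :=
    CommRingCat.ofHom (MonoidAlgebra.mapRingHom (Multiplicative M) q.hom)
  let algN : R' ⟶ CommRingCat.of (MonoidAlgebra R' (Multiplicative N)) := CommRingCat.ofHom (algebraMap _ _)
  let incN : CommRingCat.of (MonoidAlgebra R' (Multiplicative N)) ⟶ CommRingCat.of (MonoidAlgebra R' (Multiplicative M)) :=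
    CommRingCat.ofHom (MonoidAlgebra.mapDomainAlgHom R' R' (AddMonoidHom.toMultiplicative N.subtype)).toRingHom
  let incL : CommRingCat.of (MonoidAlgebra R' (Multiplicative L)) ⟶ CommRingCat.of (MonoidAlgebra R' (Multiplicative M)) :=
    CommRingCat.ofHom (MonoidAlgebra.mapDomainAlgHom R' R' (AddMonoidHom.toMultiplicative L.subtype)).toRingHom
  obtain ⟨φ0, hφ0⟩ := lands ψ.left (Spec.map algN ≫ Spec.map q) (by rw [Category.assoc]; exact Over.w ψ)
  have hN' : φ0 ≫ incN = φu ≫ bc := by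
    apply Spec.map_injective
    rw [← cancel_mono hV.fromSpec, Spec.map_comp, Spec.map_comp, Category.assoc, Category.assoc, hφ0, hφu]
    exact congrArg Over.Hom.left hψ
  have hmem : ∀ g ∈ s, ∃ y, incL y = (φu ≫ bc) g := fun g hg => by
    refine (mem_range_mapDomain_subtype L _).2 fun m hm => ?_
    by_cases hmN : m ∈ N
    · have h0 : (φu g).coeff (Multiplicative.ofAdd m) = 0 := by
        by_contra h0
        exact hm (AddSubmonoid.subset_closure ⟨hmN, Set.mem_biUnion hg h0⟩)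
      change (MonoidAlgebra.mapRingHom (Multiplicative M) q.hom (φu g)).coeff _ = 0
      rw [MonoidAlgebra.coeff_mapRingHom]
      change q ((φu g).coeff _) = 0
      rw [h0, map_zero]
    · exact (mem_range_mapDomain_subtype N _).1 ⟨φ0 g, congr($hN' g)⟩ m hmN
  have hbase : ∀ r, incL ((res ≫ q ≫ CommRingCat.ofHom (algebraMap R' (MonoidAlgebra R' (Multiplicative L)))) r) =
      (φu ≫ bc) (res r) := fun r => by
    have e := congr($hconst r)
    change _ = bc ((res ≫ φu) r)
    rw [e]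
    simp [incL, bc, alg]
  have hinj : Function.Injective incL :=
    MonoidAlgebra.mapDomain_injective (fun a b hab => Multiplicative.toAdd.injective
      (Subtype.val_injective (Multiplicative.ofAdd.injective hab)))
  have hall : ∀ b, ∃ y, incL y = (φu ≫ bc) b := fun b => by
    have hb : b ∈ Algebra.adjoin Γ(S, U.1) (s : Set Γ(X.left, V)) := hs ▸ Algebra.mem_top
    induction hb using Algebra.adjoin_induction with
    | mem g hg => exact hmem g hg
    | algebraMap r => exact ⟨_, hbase r⟩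
    | add x y _ _ hx hy =>
      obtain ⟨x', hx'⟩ := hx
      obtain ⟨y', hy'⟩ := hy
      exact ⟨x' + y', by rw [map_add, hx', hy', map_add]⟩
    | mul x y _ _ hx hy =>
      obtain ⟨x', hx'⟩ := hx
      obtain ⟨y', hy'⟩ := hy
      exact ⟨x' * y', by rw [map_mul, hx', hy', map_mul]⟩
  choose g hg using hall
  let φ : Γ(X.left, V) ⟶ CommRingCat.of (MonoidAlgebra R' (Multiplicative L)) := CommRingCat.ofHom
      { toFun := g
        map_one' := hinj (by rw [hg, map_one, map_one])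
        map_mul' := fun a b => hinj (by rw [map_mul, hg, hg, hg, map_mul])
        map_zero' := hinj (by rw [hg, map_zero, map_zero])
        map_add' := fun a b => hinj (by rw [map_add, hg, hg, hg, map_add]) }
  have hφ : φ ≫ incL = φu ≫ bc := CommRingCat.hom_ext (RingHom.ext hg)
  have hφres : res ≫ φ = res ≫ q ≫ CommRingCat.ofHom (algebraMap R' (MonoidAlgebra R' (Multiplicative L))) :=
    CommRingCat.hom_ext (RingHom.ext fun r => hinj ((congr($hφ (res r))).trans (hbase r).symm))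
  refine ⟨Over.homMk (Spec.map φ ≫ hV.fromSpec) ?_, Over.OverMorphism.ext ?_⟩
  · change (Spec.map φ ≫ hV.fromSpec) ≫ X.hom = Spec.map (CommRingCat.ofHom (algebraMap R' (MonoidAlgebra R' (Multiplicative L)))) ≫ Spec.map q ≫ p
    rw [Category.assoc, show hV.fromSpec ≫ X.hom = p from rfl, ← hres, ← Spec.map_comp_assoc, hφres, Spec.map_comp,
      Spec.map_comp, Category.assoc, Category.assoc]
  · change Spec.map incL ≫ Spec.map φ ≫ hV.fromSpec = Spec.map bc ≫ o.left
    rw [← Spec.map_comp_assoc, hφ, Spec.map_comp, Category.assoc, hφu]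

theorem exists_weights [CompactSpace S] : ∃ D : Set M, D.Finite ∧ ∀ (N : AddSubmonoid M) (T : Over S) (x : T ⟶ X),
    Cond a N x ↔ Cond a (AddSubmonoid.closure ((N : Set M) ∩ D)) x := by
  have hex : ∀ s : S, ∃ U : S.affineOpens, s ∈ U.1 := fun s =>
    let ⟨U, hU, hs, _⟩ := exists_isAffineOpen_mem_and_subset (U := ⊤) (show s ∈ (⊤ : S.Opens) from trivial)
    ⟨⟨U, hU⟩, hs⟩
  choose U hU using hex
  obtain ⟨F, hF⟩ := isCompact_univ.elim_finite_subcover (fun s => ((U s).1 : Set S)) (fun s => (U s).1.isOpen)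
    (fun s _ => Set.mem_iUnion.2 ⟨s, hU s⟩)
  choose D hDf hD using fun s => exists_weights_affine a (U s)
  refine ⟨⋃ s ∈ F, D s, F.finite_toSet.biUnion fun s _ => hDf s, fun N T x => ⟨fun h => ?_,
    cond_mono a (AddSubmonoid.closure_le.2 Set.inter_subset_left)⟩⟩
  have hid : ∀ s ∈ F, ∀ (W : T.left.affineOpens) (e : W.1 ≤ x.left ⁻¹ᵁ (X.hom ⁻¹ᵁ (U s).1)),
      Cond a (AddSubmonoid.closure ((N : Set M) ∩ ⋃ s ∈ F, D s))
        ((Over.homMk W.2.fromSpec rfl : Over.mk (W.2.fromSpec ≫ T.hom) ⟶ T) ≫ x) := fun s hs W e => by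
    let V : X.left.affineOpens := ⟨_, (U s).2.preimage X.hom⟩
    have h' := (cond_restrict_iff a N x V W e).1 (cond_comp a N _ h)
    refine (cond_restrict_iff a _ x V W e).2 (le_trans ?_ h')
    let q : Γ(X.left, V.1) ⟶ CommRingCat.of (Γ(X.left, V.1) ⧸ attrIdeal a N V) :=
      CommRingCat.ofHom (Ideal.Quotient.mk _)
    let T₀ : Over S := Over.mk (Spec.map q ≫ V.2.fromSpec ≫ X.hom)
    let x₀ : T₀ ⟶ X := (Over.homMk (Spec.map q) rfl : T₀ ⟶ Over.mk (V.2.fromSpec ≫ X.hom)) ≫ uPt V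
    have hx₀ : x₀.left = (Iso.refl (Spec _)).hom ≫ Spec.map q ≫ V.2.fromSpec := (Category.id_comp _).symm
    have h1 : Cond a N x₀ := (cond_iff_le_ker a N V q (T := T₀) (Iso.refl _) x₀ hx₀).2 Ideal.mk_ker.ge
    have h2 := cond_mono a (AddSubmonoid.closure_mono (Set.inter_subset_inter_right _ (Set.subset_biUnion_of_mem hs)))
      (hD s N _ q h1)
    exact ((cond_iff_le_ker a _ V q (T := T₀) (Iso.refl _) x₀ hx₀).1 h2).trans Ideal.mk_ker.le
  have hex2 : ∀ t : T.left, ∃ (s : S) (W : T.left.affineOpens), s ∈ F ∧ t ∈ W.1 ∧ W.1 ≤ x.left ⁻¹ᵁ (X.hom ⁻¹ᵁ (U s).1) := fun t => by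
    obtain ⟨s, hs, hst⟩ := Set.mem_iUnion₂.1 (hF (Set.mem_univ (X.hom (x.left t))))
    obtain ⟨W, hW, htW, hWV⟩ := exists_isAffineOpen_mem_and_subset (U := x.left ⁻¹ᵁ (X.hom ⁻¹ᵁ (U s).1)) (x := t) hst
    exact ⟨s, ⟨W, hW⟩, hs, htW, hWV⟩
  choose idx W hs hW hWV using hex2
  haveI : ∀ t, IsOpenImmersion (Over.homMk (W t).2.fromSpec rfl : Over.mk ((W t).2.fromSpec ≫ T.hom) ⟶ T).left :=
    fun t => inferInstanceAs (IsOpenImmersion (W t).2.fromSpec)
  have hr : ∀ t, Set.range (W t).2.fromSpec = ((W t).1 : Set T.left) := fun t => IsAffineOpen.range_fromSpec (W t).2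
  exact cond_local a _ (fun t => Over.mk ((W t).2.fromSpec ≫ T.hom)) (fun t => Over.homMk (W t).2.fromSpec rfl)
    (fun t => ⟨t, show t ∈ Set.range (W t).2.fromSpec from (hr t).symm ▸ hW t⟩)
    fun t => hid (idx t) (hs t) (W t) (hWV t)

omit [LocallyOfFiniteType X.hom] in
theorem range_attrToX_eq {N : AddSubmonoid M} (T : Over S) :
    Set.range (fun φ => (attrToX a N).app (op T) φ) = {x : T ⟶ X | Cond a N x} := by
  refine Set.ext fun x => ⟨?_, exists_obj_of_cond a N⟩
  rintro ⟨φ, rfl⟩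
  exact cond_of_obj a N φ

theorem finite_pureMagnet [CompactSpace S] :
    Set.Finite {N : AddSubmonoid M | ∀ L : AddSubmonoid M,
      (∀ T : Over S, Set.range (fun φ => (attrToX a N).app (op T) φ) =
        Set.range (fun φ => (attrToX a L).app (op T) φ)) → N ≤ L} := by
  obtain ⟨D, hDf, hD⟩ := exists_weights a
  refine (hDf.finite_subsets.image AddSubmonoid.closure).subset fun N hN => ⟨(N : Set M) ∩ D, Set.inter_subset_right, ?_⟩
  refine le_antisymm (AddSubmonoid.closure_le.2 Set.inter_subset_left) (hN _ fun T => ?_)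
  rw [range_attrToX_eq, range_attrToX_eq]
  exact Set.ext fun x => hD N T x

end Groth.Agent.Mag88
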