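import Groth.Agent.Mag88.AttrLfp

/-! Attractors of directed unions of magnets. -/

universe u

set_option maxHeartbeats 1000000
set_option backward.isDefEq.respectTransparency false
set_option backward.isDefEq.respectTransparency.types false
set_option linter.style.haveILetI false
set_option linter.unusedVariables false

open CategoryTheory CategoryTheory.Limits MonoidalCategory CartesianMonoidalCategory MonObj AlgebraicGeometry
open Opposite Magnet Magnet.MonAct

noncomputable section

namespace Groth.Agent.Mag88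

variable {S : Scheme.{u}} {M : Type} [AddCommMonoid M]

/-- The map of monoid algebras of nested submonoids. -/
abbrev inclRing (R : CommRingCat.{u}) {A B : AddSubmonoid M} (h : A ≤ B) :
    CommRingCat.of (MonoidAlgebra R (Multiplicative ↥A)) ⟶ CommRingCat.of (MonoidAlgebra R (Multiplicative ↥B)) :=
  CommRingCat.ofHom
    (MonoidAlgebra.mapDomainAlgHom R R (AddMonoidHom.toMultiplicative (AddSubmonoid.inclusion h))).toRingHom

theorem inclRing_single (R : CommRingCat.{u}) {A B : AddSubmonoid M} (h : A ≤ B) (m : ↥A) (r : R) :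
    inclRing R h (MonoidAlgebra.single (Multiplicative.ofAdd m) r) =
      MonoidAlgebra.single (Multiplicative.ofAdd (⟨m, h m.2⟩ : ↥B)) r := by
  simp [inclRing]
  rfl

theorem inclRing_comp (R : CommRingCat.{u}) {A B C : AddSubmonoid M} (h : A ≤ B) (h' : B ≤ C) :
    inclRing R h ≫ inclRing R h' = inclRing R (h.trans h') := by
  refine CommRingCat.hom_ext (MonoidAlgebra.ringHom_ext (fun r => ?_) fun m => ?_)
  · simp [inclRing]
  · simp [inclRing]
    rfl

theorem inclRing_injective (R : CommRingCat.{u}) {A B : AddSubmonoid M} (h : A ≤ B) :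
    Function.Injective (inclRing R h) :=
  MonoidAlgebra.mapDomain_injective (fun a b hab =>
    Multiplicative.toAdd.injective (Subtype.ext (congrArg
      (fun t : Multiplicative ↥B => ((Multiplicative.toAdd t : ↥B) : M)) hab)))

variable {J : Type} [Preorder J] [IsDirected J (· ≤ ·)] [Nonempty J] (N : J → AddSubmonoid M) (hN : Monotone N)

instance : IsDirected (ULift.{u} J) (· ≤ ·) :=
  ⟨fun a b => let ⟨c, h₁, h₂⟩ := exists_ge_ge a.down b.down; ⟨⟨c⟩, h₁, h₂⟩⟩

/-- The rings `R[N_i]`. -/
def unionRings (R : CommRingCat.{u}) : ULift.{u} J ⥤ CommRingCat.{u} where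
  obj i := CommRingCat.of (MonoidAlgebra R (Multiplicative ↥(N i.down)))
  map {i i'} φ := inclRing R (hN φ.le)
  map_id i := CommRingCat.hom_ext (MonoidAlgebra.ringHom_ext (fun r => by simp [inclRing]) fun m => by
    simp [inclRing]; rfl)
  map_comp φ ψ := (inclRing_comp R _ _).symm

/-- The cocone `R[N_i] → R[⨆ N]`. -/
def unionCocone (R : CommRingCat.{u}) : Cocone (unionRings N hN R) where
  pt := CommRingCat.of (MonoidAlgebra R (Multiplicative ↥(⨆ i, N i)))
  «ι» :=
    { app := fun i => inclRing R (le_iSup N i.down)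
      naturality := fun i i' φ => by
        change inclRing R _ ≫ inclRing R _ = inclRing R _ ≫ 𝟙 _
        rw [inclRing_comp, Category.comp_id] }

/-- `R[⨆ N]` is the colimit of the `R[N_i]`. -/
def isColimit_unionCocone (R : CommRingCat.{u}) : IsColimit (unionCocone N hN R) := by
  haveI : IsFiltered (ULift.{u} J) := inferInstance
  haveI : ReflectsColimit (unionRings N hN R) (forget CommRingCat) :=
    reflectsColimit_of_reflectsIsomorphisms _ _
  refine isColimitOfReflects (forget CommRingCat) (Types.FilteredColimit.isColimitOf _ _ ?_ ?_)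
  · intro x
    change MonoidAlgebra R (Multiplicative ↥(⨆ i, N i)) at x
    suffices ∃ (i : ULift.{u} J) (y : MonoidAlgebra R (Multiplicative ↥(N i.down))),
        inclRing R (le_iSup N i.down) y = x by
      obtain ⟨i, y, hy⟩ := this
      exact ⟨i, y, hy.symm⟩
    induction x using MonoidAlgebra.induction_linear with
    | zero => exact ⟨Classical.arbitrary _, 0, map_zero _⟩
    | add a b ha hb =>
      obtain ⟨i, ya, rfl⟩ := ha
      obtain ⟨i', yb, rfl⟩ := hb
      obtain ⟨k, hik, hik'⟩ := exists_ge_ge i i'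
      refine ⟨k, inclRing R (hN hik) ya + inclRing R (hN hik') yb, ?_⟩
      rw [map_add, ← CommRingCat.comp_apply, inclRing_comp, ← CommRingCat.comp_apply, inclRing_comp]
    | single m r =>
      obtain ⟨m, rfl⟩ := Multiplicative.ofAdd.surjective m
      obtain ⟨i, hi⟩ := (AddSubmonoid.mem_iSup_of_directed hN.directed_le).1 m.2
      exact ⟨⟨i⟩, MonoidAlgebra.single (Multiplicative.ofAdd ⟨m, hi⟩) r, inclRing_single R (le_iSup N i) _ r⟩
  · intro i i' x x' h
    obtain ⟨k, hik, hik'⟩ := exists_ge_ge i i'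
    refine ⟨k, homOfLE hik, homOfLE hik', inclRing_injective R (le_iSup N k.down) ?_⟩
    change (inclRing R (hN hik) ≫ inclRing R (le_iSup N k.down)) x = (inclRing R (hN hik') ≫ inclRing R (le_iSup N k.down)) x'
    rw [inclRing_comp, inclRing_comp]
    exact h

/-- The spectra `Spec R[N_i]` over the base. -/
def unionMQ {R : CommRingCat.{u}} (p : Spec R ⟶ S) : (ULift.{u} J)ᵒᵖ ⥤ Over S where
  obj i := mQ p ↥(N i.unop.down)
  map {i i'} φ := mQmap p (AddSubmonoid.inclusion (hN φ.unop.le))
  map_id i := Over.OverMorphism.ext ((congrArg Spec.map ((unionRings N hN R).map_id i.unop)).trans (Spec.map_id _))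
  map_comp φ ψ := Over.OverMorphism.ext
    ((congrArg Spec.map ((unionRings N hN R).map_comp ψ.unop φ.unop)).trans (Spec.map_comp _ _))

/-- The cone `Spec R[⨆ N]`. -/
def unionMQCone {R : CommRingCat.{u}} (p : Spec R ⟶ S) : Cone (unionMQ N hN p) where
  pt := mQ p ↥(⨆ i, N i)
  π :=
    { app := fun i => mQmap p (AddSubmonoid.inclusion (le_iSup N i.unop.down))
      naturality := fun i i' φ => Over.OverMorphism.ext <| by
        change 𝟙 _ ≫ _ = Spec.map (inclRing R _) ≫ Spec.map (inclRing R _)
        rw [Category.id_comp, ← Spec.map_comp, inclRing_comp]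
        rfl }

/-- It is a limit of schemes. -/
def isLimit_unionMQCone {R : CommRingCat.{u}} (p : Spec R ⟶ S) :
    IsLimit ((Over.forget S).mapCone (unionMQCone N hN p)) :=
  isLimitOfPreserves Scheme.Spec (isColimit_unionCocone N hN R).op

/-- The diagram `A(N_i) × T`. -/
def unionAMon (T : Over S) : (ULift.{u} J)ᵒᵖ ⥤ Over S where
  obj i := AMonS S ↥(N i.unop.down) ⊗ T
  map {i i'} φ := AMonS.map S (AddSubmonoid.inclusion (hN φ.unop.le)) ▷ T
  map_id i := by
    rw [show AddSubmonoid.inclusion (hN (Quiver.Hom.unop (𝟙 i)).le) = AddMonoidHom.id _ from rfl]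
    have : AMonS.map S (AddMonoidHom.id ↥(N i.unop.down)) = 𝟙 _ := aFn_ext fun m => by
      conv_lhs => rw [← Category.id_comp (AMonS.map S (AddMonoidHom.id ↥(N i.unop.down)))]
      rw [aFn_map]
      rfl
    rw [this, id_whiskerRight]
  map_comp φ ψ := by
    rw [← comp_whiskerRight, ← AMonS.map_comp]
    rfl

/-- The cone `A(⨆ N) × T`. -/
def unionAMonCone (T : Over S) : Cone (unionAMon N hN T) where
  pt := AMonS S ↥(⨆ i, N i) ⊗ T
  π :=
    { app := fun i => AMonS.map S (AddSubmonoid.inclusion (le_iSup N i.unop.down)) ▷ T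
      naturality := fun i i' φ => by
        change 𝟙 _ ≫ _ = (_ ▷ T) ≫ (_ ▷ T)
        rw [Category.id_comp, ← comp_whiskerRight, ← AMonS.map_comp]
        rfl }

theorem isIso_mMap_over {R : CommRingCat.{u}} (p : Spec R ⟶ S) (N' : Type) [AddCommMonoid N'] : IsIso (mMap p N') :=
  isIso_mMap' p N'

/-- Comparison of the two diagrams. -/
def unionIso (T : Over S) [IsAffine T.left] :
    unionMQ N hN (T.left.isoSpec.inv ≫ T.hom) ≅ unionAMon N hN T :=
  NatIso.ofComponents
    (fun i =>
      haveI := isIso_mMap_over (T.left.isoSpec.inv ≫ T.hom) ↥(N i.unop.down)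
      asIso (mMap (T.left.isoSpec.inv ≫ T.hom) ↥(N i.unop.down)) ≪≫
        whiskerLeftIso (AMonS S ↥(N i.unop.down)) (Over.isoMk T.left.isoSpec.symm rfl))
    (fun {i i'} φ => by
      change mQmap _ _ ≫ mMap _ _ ≫ _ = (mMap _ _ ≫ _) ≫ (_ ▷ T)
      rw [← Category.assoc, mMap_natural, Category.assoc, Category.assoc]
      congr 1
      exact (whisker_exchange _ _).symm)

/-- It is a limit of schemes. -/
def isLimit_unionAMonCone (T : Over S) [IsAffine T.left] :
    IsLimit ((Over.forget S).mapCone (unionAMonCone N hN T)) := by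
  let p := T.left.isoSpec.inv ≫ T.hom
  haveI := isIso_mMap_over p ↥(⨆ i, N i)
  let e := asIso (mMap p ↥(⨆ i, N i)) ≪≫ whiskerLeftIso (AMonS S ↥(⨆ i, N i)) (Over.isoMk T.left.isoSpec.symm rfl)
  refine IsLimit.equivOfNatIsoOfIso (Functor.isoWhiskerRight (unionIso N hN T) (Over.forget S))
    ((Over.forget S).mapCone (unionMQCone N hN p)) ((Over.forget S).mapCone (unionAMonCone N hN T))
    (Cone.ext ((Over.forget S).mapIso e) (fun i => ?_)) (isLimit_unionMQCone N hN p)
  have h : mQmap p (AddSubmonoid.inclusion (le_iSup N i.unop.down)) ≫ ((unionIso N hN T).app i).hom =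
      e.hom ≫ (AMonS.map S (AddSubmonoid.inclusion (le_iSup N i.unop.down)) ▷ T) := by
    change mQmap _ _ ≫ mMap _ _ ≫ _ = (mMap _ _ ≫ _) ≫ _
    rw [← Category.assoc, mMap_natural, Category.assoc, Category.assoc]
    congr 1
    exact (whisker_exchange _ _).symm
  exact congrArg CommaMorphism.left h

variable {X : Over S} (a : MonAct (AMonS S M) X)

include hN in
/-- Attractors commute with directed unions of magnets on affine schemes. -/
theorem exists_attrMap_app_eq [LocallyOfFinitePresentation X.hom] (T : Over S) [IsAffine T.left]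
    (φ : (attr a (⨆ i, N i)).obj (op T)) :
    ∃ (i : J) (ψ : (attr a (N i)).obj (op T)), (attrMap a (le_iSup N i)).app (op T) ψ = φ := by
  let I := (ULift.{u} J)ᵒᵖ
  let G := AMonS S M
  let D := unionAMon N hN T
  let c := unionAMonCone N hN T
  have hc := isLimit_unionAMonCone N hN T
  let E := D ⋙ Over.forget S
  let E₂ := (D ⋙ tensorLeft G) ⋙ Over.forget S
  let tE : E ⟶ (Functor.const I).obj S :=
    { app := fun i => (D.obj i).hom
      naturality := fun i i' t => (Over.w (D.map t)).trans (Category.comp_id _).symm }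
  let tE₂ : E₂ ⟶ (Functor.const I).obj S :=
    { app := fun i => (G ⊗ D.obj i).hom
      naturality := fun i i' t => (Over.w (G ◁ D.map t)).trans (Category.comp_id _).symm }
  haveI hA : ∀ i, IsAffine (E.obj i) := fun i => isAffine_amonS_tensor _ _
  haveI hA₂ : ∀ i, IsAffine (E₂.obj i) := fun i => by
    haveI : IsAffine (D.obj i).left := hA i
    exact isAffine_amonS_tensor _ _
  haveI : ∀ i, CompactSpace (E.obj i) := fun i => by haveI := hA i; infer_instance
  haveI : ∀ i, QuasiSeparatedSpace (E.obj i) := fun i => by haveI := hA i; infer_instance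
  haveI : ∀ i, CompactSpace (E₂.obj i) := fun i => by haveI := hA₂ i; infer_instance
  haveI : ∀ {i i'} (t : i ⟶ i'), IsAffineHom (E.map t) := fun {i i'} t => by
    haveI := hA i; haveI := hA i'; infer_instance
  haveI : ∀ {i i'} (t : i ⟶ i'), IsAffineHom (E₂.map t) := fun {i i'} t => by
    haveI := hA₂ i; haveI := hA₂ i'; infer_instance
  obtain ⟨i, g, hg, hgf⟩ := Scheme.exists_π_app_comp_eq_of_locallyOfFinitePresentation E tE X.hom
    ((Over.forget S).mapCone c) hc φ.1.left
    (by ext i : 2; exact (Over.w (c.π.app i)).trans (Over.w φ.1).symm)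
  let ψ : D.obj i ⟶ X := Over.homMk g hgf
  have hψ : c.π.app i ≫ ψ = φ.1 := Over.OverMorphism.ext hg
  have hE : ∀ {A B : AddSubmonoid M} (h : A ≤ B), IsEquivariant ((subAct S M B).prod (trivial G T))
      ((subAct S M A).prod (trivial G T)) (AMonS.map S (AddSubmonoid.inclusion h) ▷ T) := fun h =>
    isEquivariant_whiskerRight_trivial _ _ (isEquivariant_restrict_regular _ _ _ (by rw [← AMonS.map_comp]; rfl)) T
  let u : G ⊗ D.obj i ⟶ X := ((subAct S M (N i.unop.down)).prod (trivial G T)).act ≫ ψ
  let v : G ⊗ D.obj i ⟶ X := (G ◁ ψ) ≫ a.act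
  have huv : (G ◁ c.π.app i) ≫ u = (G ◁ c.π.app i) ≫ v := by
    refine ((Category.assoc _ _ _).symm.trans
      ((congrArg (· ≫ ψ) (hE (le_iSup N i.unop.down)).symm).trans (Category.assoc _ _ _))).trans ?_
    refine (congrArg (_ ≫ ·) hψ).trans (φ.2.trans ?_)
    exact (congrArg (fun z => (G ◁ z) ≫ a.act) hψ.symm).trans (MonoidalCategory.whiskerLeft_comp_assoc _ _ _ _)
  obtain ⟨k, t, ht⟩ := Scheme.exists_hom_comp_eq_comp_of_locallyOfFiniteType E₂ tE₂ X.hom
    ((Over.forget S).mapCone ((tensorLeft G).mapCone c)) (isLimitTensor D c G hc)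
    u.left v.left (Over.w u).symm (Over.w v).symm (congrArg CommaMorphism.left huv)
  refine ⟨k.unop.down, ⟨D.map t ≫ ψ, ?_⟩, Subtype.ext ?_⟩
  · unfold IsEquivariant
    rw [MonoidalCategory.whiskerLeft_comp, Category.assoc]
    refine ((Category.assoc _ _ _).symm.trans
      ((congrArg (· ≫ ψ) (hE (hN t.unop.le))).trans (Category.assoc _ _ _))).trans ?_
    exact Over.OverMorphism.ext ht
  · change c.π.app k ≫ D.map t ≫ ψ = φ.1
    rw [← Category.assoc, c.w, hψ]

end Groth.Agent.Mag88
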