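import Groth.Prelude.Def_Magnet
import Mathlib.CategoryTheory.Sites.Subcanonical
import Mathlib.CategoryTheory.Sites.Sheaf

/-! Sheaf property of the functors of equivariant maps and of fixed points for a subcanonical topology. -/

set_option autoImplicit false
universe v₁ u₁

open CategoryTheory MonoidalCategory CartesianMonoidalCategory MonObj Opposite Magnet Magnet.MonAct

namespace Groth.Agent.Mag88

variable {C : Type u₁} [Category.{v₁} C] [CartesianMonoidalCategory C]
  (J : GrothendieckTopology C) [J.Subcanonical]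

theorem isSheaf_yoneda' (X : C) {T : C} (R : Sieve T) (hR : R ∈ J T) :
    Presieve.IsSheafFor (yoneda.obj X) R.arrows :=
  (GrothendieckTopology.Subcanonical.isSheaf_of_isRepresentable (J := J) (yoneda.obj X)) R hR

theorem hom_ext_cover {X W : C} (R : Sieve W) (hR : R ∈ J W) {f g : W ⟶ X}
    (h : ∀ (V : C) (t : V ⟶ W), R t → t ≫ f = t ≫ g) : f = g :=
  (isSheaf_yoneda' J X R hR).isSeparatedFor.ext fun V t ht => h V t ht

theorem isSheaf_eqvHom {A B X : C} [MonObj A] (ρ : MonAct A B) (a : MonAct A X) :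
    Presheaf.IsSheaf J (eqvHom ρ a) := by
  rw [isSheaf_iff_isSheaf_of_type]
  intro T R hR x hx
  let R' : Sieve (B ⊗ T) := R.pullback (snd B T)
  have hR' : R' ∈ J (B ⊗ T) := J.pullback_stable _ hR
  let y : Presieve.FamilyOfElements (yoneda.obj X) R'.arrows := fun W g hg =>
    lift (g ≫ fst B T) (𝟙 W) ≫ (x (g ≫ snd B T) hg).1
  have key : ∀ {V W : C} (u : V ⟶ W) (f : W ⟶ T) (hf : R f),
      (x (u ≫ f) (R.downward_closed hf u)).1 = (B ◁ u) ≫ (x f hf).1 := by
    intro V W u f hf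
    have := hx u (𝟙 V) hf (R.downward_closed hf u) (by simp)
    simpa using (congrArg Subtype.val this).symm
  have xc : ∀ {W : C} {f f' : W ⟶ T} (e : f = f') (hf : R f) (hf' : R f'), (x f hf).1 = (x f' hf').1 := by
    intro W f f' e hf hf'; subst e; rfl
  have hy : y.Compatible := by
    rw [Presieve.compatible_iff_sieveCompatible]
    intro W V g u hg
    change lift ((u ≫ g) ≫ fst B T) (𝟙 V) ≫ (x ((u ≫ g) ≫ snd B T) _).1 =
      u ≫ lift (g ≫ fst B T) (𝟙 W) ≫ (x (g ≫ snd B T) hg).1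
    rw [xc (Category.assoc _ _ _) _ (R.downward_closed hg u), key u (g ≫ snd B T) hg,
      lift_whiskerLeft_assoc, comp_lift_assoc]
    simp
  obtain ⟨φ, hφ, -⟩ := isSheaf_yoneda' J X R' hR' y hy
  have hφ' : ∀ (V : C) (f : V ⟶ T) (hf : R f), (B ◁ f) ≫ φ = (x f hf).1 := by
    intro V f hf
    have hm : R ((B ◁ f) ≫ snd B T) := by rw [whiskerLeft_snd]; exact R.downward_closed hf _
    have := hφ (B ◁ f) hm
    simp only [y] at this
    refine this.trans ?_
    rw [xc (whiskerLeft_snd _ _) hm (R.downward_closed hf _), key (snd B V) f hf, lift_whiskerLeft_assoc]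
    simp
  have heq : IsEquivariant (ρ.prod (trivial A T)) a φ := by
    rw [mem_eqvHom_iff]
    intro T' g b t
    apply hom_ext_cover J (R.pullback t) (J.pullback_stable _ hR)
    intro V s hs
    simp only [comp_lift_assoc]
    have hs' : R (s ≫ t) := hs
    have e : ∀ (β : V ⟶ B), lift β (s ≫ t) ≫ φ = lift β (𝟙 V) ≫ (x (s ≫ t) hs').1 := by
      intro β
      rw [← hφ' V (s ≫ t) hs', lift_whiskerLeft_assoc, Category.id_comp]
    rw [e, e]
    exact (mem_eqvHom_iff (x (s ≫ t) hs').1).1 (x (s ≫ t) hs').2 V (s ≫ g) (s ≫ b) (𝟙 V)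
  refine ⟨⟨φ, heq⟩, fun V f hf => Subtype.ext (hφ' V f hf), ?_⟩
  intro ψ hψ
  apply Subtype.ext
  apply hom_ext_cover J R' hR'
  intro V g hg
  have e1 : g = lift (g ≫ fst B T) (𝟙 V) ≫ (B ◁ (g ≫ snd B T)) := by
    rw [lift_whiskerLeft, Category.id_comp, ← comp_lift, lift_fst_snd, Category.comp_id]
  rw [e1, Category.assoc, Category.assoc]
  exact congrArg (lift (g ≫ fst B T) (𝟙 V) ≫ ·)
    ((congrArg Subtype.val (hψ (g ≫ snd B T) hg)).trans (hφ' V _ hg).symm)

theorem isSheaf_fixedPsh {A X : C} [MonObj A] (a : MonAct A X) :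
    Presheaf.IsSheaf J (fixedPsh a) := by
  rw [isSheaf_iff_isSheaf_of_type]
  intro T R hR x hx
  let y : Presieve.FamilyOfElements (yoneda.obj X) R.arrows := fun W g hg => (x g hg).1
  have hy : y.Compatible := fun _ _ _ g₁ g₂ _ _ h₁ h₂ e => congrArg Subtype.val (hx g₁ g₂ h₁ h₂ e)
  obtain ⟨φ, hφ, -⟩ := isSheaf_yoneda' J X R hR y hy
  refine ⟨⟨φ, fun T' t g => ?_⟩, fun V f hf => Subtype.ext (hφ f hf), ?_⟩
  · apply hom_ext_cover J (R.pullback t) (J.pullback_stable _ hR)
    intro V s hs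
    have e : (s ≫ t) ≫ φ = (x (s ≫ t) hs).1 := hφ _ hs
    simp only [comp_lift_assoc]
    rw [← Category.assoc s t φ, e]
    have h := (x (s ≫ t) hs).2 V (𝟙 V) (s ≫ g)
    rwa [Category.id_comp] at h
  · intro ψ hψ
    apply Subtype.ext
    apply hom_ext_cover J R hR
    intro V g hg
    exact (congrArg Subtype.val (hψ g hg)).trans (hφ g hg).symm

end Groth.Agent.Mag88
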