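import Groth.Agent.Mag88.FaceLift
import Groth.Agent.Mag88.DirectedUnion
import Groth.Agent.Mag88.Sheaf

/-! Étale base change along faces of magnets. -/

universe u

set_option maxHeartbeats 400000
set_option backward.isDefEq.respectTransparency false
set_option backward.isDefEq.respectTransparency.types false
set_option linter.style.haveILetI false
set_option linter.unusedVariables false
set_option linter.unusedSectionVars false
set_option linter.unusedSimpArgs false

open CategoryTheory CategoryTheory.Limits MonoidalCategory CartesianMonoidalCategory MonObj AlgebraicGeometry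
open Opposite Magnet Magnet.MonAct

noncomputable section

namespace Groth.Agent.Mag88

variable {S : Scheme.{u}} {M : Type} [AddCommGroup M] [AddGroup.FG M] {X U : Over S}
  (aX : MonAct (AMonS S M) X) (aU : MonAct (AMonS S M) U) (f : U ⟶ X) [Etale f.left]
  (hf : IsEquivariant aU aX f) {N Q : AddSubmonoid M}

/-- The lifting property along a face over `T`. -/
def FaceLiftAt (hQ : IsFace N Q) (T : Over S) : Prop :=
  ∀ (y : (attr aX N).obj (op T)) (ψ : (attr aU Q).obj (op T)),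
    (attrFace aX hQ).app (op T) y = (eqvHom.postcomp (subAct S M Q) f hf).app (op T) ψ →
      ∃ φ : (attr aU N).obj (op T), (eqvHom.postcomp (subAct S M N) f hf).app (op T) φ = y ∧
        (attrFace aU hQ).app (op T) φ = ψ

theorem faceLift_unique (hQ : IsFace N Q) {T : Over S} (φ φ' : (attr aU N).obj (op T))
    (h₁ : (eqvHom.postcomp (subAct S M N) f hf).app (op T) φ = (eqvHom.postcomp (subAct S M N) f hf).app (op T) φ')
    (h₂ : (attrFace aU hQ).app (op T) φ = (attrFace aU hQ).app (op T) φ') : φ = φ' :=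
  attr_ext_of_unramified aU f hQ φ φ' (congrArg Subtype.val h₁) (congrArg Subtype.val h₂)

theorem nat_app {C : Type*} [Category C] {F G : Cᵒᵖ ⥤ Type u} (α : F ⟶ G) {V W : C} (t : V ⟶ W) (z : F.obj (op W)) :
    α.app (op V) (F.map t.op z) = G.map t.op (α.app (op W) z) :=
  congr($(α.naturality t.op) z)

theorem map_map_op {C : Type*} [Category C] (F : Cᵒᵖ ⥤ Type u) {V W Z : C} (t : V ⟶ W) (t' : W ⟶ Z) (r : V ⟶ Z)
    (e : t ≫ t' = r) (z : F.obj (op Z)) : F.map t.op (F.map t'.op z) = F.map r.op z := by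
  subst e; rw [op_comp, Functor.map_comp]; rfl

theorem map_id_op {C : Type*} [Category C] (F : Cᵒᵖ ⥤ Type u) {V : C} (z : F.obj (op V)) :
    F.map (𝟙 V).op z = z := by
  exact congr($(CategoryTheory.Functor.map_id F (op V)) z)

theorem faceLiftAt_of_iso (hQ : IsFace N Q) {T T' : Over S} (e : T' ≅ T)
    (h : FaceLiftAt aX aU f hf hQ T') : FaceLiftAt aX aU f hf hQ T := by
  intro y ψ hy
  obtain ⟨φ, hφ₁, hφ₂⟩ := h ((attr aX N).map e.hom.op y) ((attr aU Q).map e.hom.op ψ)
    ((nat_app (attrFace aX hQ) e.hom y).trans ((congrArg ((attr aX Q).map e.hom.op) hy).trans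
      (nat_app (eqvHom.postcomp (subAct S M Q) f hf) e.hom ψ).symm))
  exact ⟨(attr aU N).map e.inv.op φ,
    (nat_app (eqvHom.postcomp (subAct S M N) f hf) e.inv φ).trans ((congrArg ((attr aX N).map e.inv.op) hφ₁).trans
      ((map_map_op (attr aX N) e.inv e.hom (𝟙 _) e.inv_hom_id y).trans (map_id_op (attr aX N) y))),
    (nat_app (attrFace aU hQ) e.inv φ).trans ((congrArg ((attr aU Q).map e.inv.op) hφ₂).trans
      ((map_map_op (attr aU Q) e.inv e.hom (𝟙 _) e.inv_hom_id ψ).trans (map_id_op (attr aU Q) ψ)))⟩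

theorem faceLiftAt_affine_fg [IsAffineHom U.hom] (hQ : IsFace N Q) (hN : N.FG) (T : Over S) [IsAffine T.left] :
    FaceLiftAt aX aU f hf hQ T := by
  refine faceLiftAt_of_iso aX aU f hf hQ
    (Over.isoMk T.left.isoSpec.symm rfl : Over.mk (T.left.isoSpec.inv ≫ T.hom) ≅ T) ?_
  intro y ψ hy
  obtain ⟨φ, h₁, h₂⟩ := exists_face_lift_affine (T.left.isoSpec.inv ≫ T.hom) aX aU f hf hQ hN y ψ
    (congrArg Subtype.val hy)
  exact ⟨φ, Subtype.ext h₁, Subtype.ext h₂⟩

theorem faceMap_map {A B QA QB : AddSubmonoid M} (hA : IsFace A QA) (hB : IsFace B QB) (h : A ≤ B) (hq : QA ≤ QB)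
    (hi : ∀ m ∈ A, m ∈ QB → m ∈ QA) :
    AMonS.faceMap S hB ≫ AMonS.map S (AddSubmonoid.inclusion h) =
      AMonS.map S (AddSubmonoid.inclusion hq) ≫ AMonS.faceMap S hA := by
  refine aFn_ext fun m => ?_
  rw [aFn_map, ← Category.id_comp (AMonS.faceMap S hB), aFn_comp_faceMap, aFn_comp_faceMap]
  by_cases hm : (m : M) ∈ QA
  · rw [dif_pos hm, dif_pos (show ((AddSubmonoid.inclusion h m : ↥B) : M) ∈ QB from hq hm),
      ← Category.id_comp (AMonS.map S (AddSubmonoid.inclusion hq)), aFn_map]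
    rfl
  · rw [dif_neg hm, dif_neg (show ((AddSubmonoid.inclusion h m : ↥B) : M) ∉ QB from fun hb => hm (hi _ m.2 hb))]

theorem attrFace_attrMap {A B QA QB : AddSubmonoid M} (a : MonAct (AMonS S M) X) (hA : IsFace A QA) (hB : IsFace B QB)
    (h : A ≤ B) (hq : QA ≤ QB) (hi : ∀ m ∈ A, m ∈ QB → m ∈ QA) (T : Over S) (φ : (attr a A).obj (op T)) :
    (attrFace a hB).app (op T) ((attrMap a h).app (op T) φ) =
      (attrMap a hq).app (op T) ((attrFace a hA).app (op T) φ) := by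
  apply Subtype.ext
  change (AMonS.faceMap S hB ▷ T) ≫ (AMonS.map S (AddSubmonoid.inclusion h) ▷ T) ≫ φ.1 =
    (AMonS.map S (AddSubmonoid.inclusion hq) ▷ T) ≫ (AMonS.faceMap S hA ▷ T) ≫ φ.1
  rw [← Category.assoc, ← Category.assoc, ← comp_whiskerRight, ← comp_whiskerRight, faceMap_map hA hB h hq hi]

theorem attrMap_attrMap {A B C : AddSubmonoid M} (a : MonAct (AMonS S M) X) (h : A ≤ B) (h' : B ≤ C) (T : Over S)
    (φ : (attr a A).obj (op T)) :
    (attrMap a h').app (op T) ((attrMap a h).app (op T) φ) = (attrMap a (h.trans h')).app (op T) φ := by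
  apply Subtype.ext
  change (AMonS.map S (AddSubmonoid.inclusion h') ▷ T) ≫ (AMonS.map S (AddSubmonoid.inclusion h) ▷ T) ≫ φ.1 =
    (AMonS.map S (AddSubmonoid.inclusion (h.trans h')) ▷ T) ≫ φ.1
  rw [← Category.assoc, ← comp_whiskerRight, ← AMonS.map_comp]
  rfl

theorem postcomp_attrMap {A B : AddSubmonoid M} (h : A ≤ B) (T : Over S) (φ : (attr aU A).obj (op T)) :
    (eqvHom.postcomp (subAct S M B) f hf).app (op T) ((attrMap aU h).app (op T) φ) =
      (attrMap aX h).app (op T) ((eqvHom.postcomp (subAct S M A) f hf).app (op T) φ) :=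
  Subtype.ext (Category.assoc _ _ _)

theorem faceLiftAt_affine_sup [IsAffineHom U.hom] [IsSeparated X.hom] [LocallyOfFinitePresentation X.hom]
    {J : Type} [Preorder J] [IsDirected J (· ≤ ·)] [Nonempty J] (Nf Qf : J → AddSubmonoid M) (hNm : Monotone Nf)
    (hQm : Monotone Qf) (hfg : ∀ j, (Nf j).FG) (hface : ∀ j, IsFace (Nf j) (Qf j))
    (hN : N = ⨆ j, Nf j) (hQe : Q = ⨆ j, Qf j) (hQ : IsFace N Q) (hi : ∀ j, ∀ m ∈ Nf j, m ∈ Q → m ∈ Qf j)
    (T : Over S) [IsAffine T.left] : FaceLiftAt aX aU f hf hQ T := by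
  subst hN hQe
  haveI : IsSeparated U.hom := inferInstance
  haveI : LocallyOfFinitePresentation U.hom := by
    haveI : Smooth f.left := inferInstance
    rw [← Over.w f]
    infer_instance
  intro y ψ hy
  obtain ⟨i, yi, hyi⟩ := exists_attrMap_app_eq Nf hNm aX T y
  obtain ⟨k, ψk, hψk⟩ := exists_attrMap_app_eq Qf hQm aU T ψ
  obtain ⟨l, hil, hkl⟩ := exists_ge_ge i k
  let yl := (attrMap aX (hNm hil)).app (op T) yi
  let ψl := (attrMap aU (hQm hkl)).app (op T) ψk
  have hyl : (attrMap aX (le_iSup Nf l)).app (op T) yl = y := (attrMap_attrMap aX _ _ T yi).trans hyi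
  have hψl : (attrMap aU (le_iSup Qf l)).app (op T) ψl = ψ := (attrMap_attrMap aU _ _ T ψk).trans hψk
  have hc : (attrFace aX (hface l)).app (op T) yl = (eqvHom.postcomp (subAct S M (Qf l)) f hf).app (op T) ψl := by
    apply attrMap_injective X aX (le_iSup Qf l) T
    change (attrMap aX _).app (op T) _ = (attrMap aX _).app (op T) _
    rw [← attrFace_attrMap aX (hface l) hQ (le_iSup Nf l) (le_iSup Qf l) (hi l), hyl, hy, ← postcomp_attrMap, hψl]
  obtain ⟨φl, h₁, h₂⟩ := faceLiftAt_affine_fg aX aU f hf (hface l) (hfg l) T yl ψl hc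
  refine ⟨(attrMap aU (le_iSup Nf l)).app (op T) φl, ?_, ?_⟩
  · rw [postcomp_attrMap, h₁, hyl]
  · rw [attrFace_attrMap aU (hface l) hQ (le_iSup Nf l) (le_iSup Qf l) (hi l), h₂, hψl]

theorem faceLiftAt_affine [IsAffineHom U.hom] (hQ : IsFace N Q)
    (h : N.FG ∨ (IsSeparated X.hom ∧ LocallyOfFinitePresentation X.hom)) (T : Over S) [IsAffine T.left] :
    FaceLiftAt aX aU f hf hQ T := by
  rcases h with hN | ⟨hs, hl⟩
  · exact faceLiftAt_affine_fg aX aU f hf hQ hN T
  let J := {P : AddSubmonoid M // P.FG ∧ P ≤ N}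
  haveI : Nonempty J := ⟨⟨⊥, ⟨∅, by simp⟩, bot_le⟩⟩
  haveI : IsDirected J (· ≤ ·) :=
    ⟨fun a b => ⟨⟨a.1 ⊔ b.1, a.2.1.sup b.2.1, sup_le a.2.2 b.2.2⟩, (le_sup_left : a.1 ≤ a.1 ⊔ b.1), (le_sup_right : b.1 ≤ a.1 ⊔ b.1)⟩⟩
  have hcl : ∀ m ∈ N, ∃ j : J, m ∈ j.1 := fun m hm =>
    ⟨⟨AddSubmonoid.closure {m}, ⟨{m}, by simp⟩, (AddSubmonoid.closure_le).2 (by simpa using hm)⟩,
      AddSubmonoid.subset_closure rfl⟩
  refine faceLiftAt_affine_sup aX aU f hf (fun j : J => j.1) (fun j : J => j.1 ⊓ Q) (fun a b hab => hab)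
    (fun a b hab => inf_le_inf_right Q hab) (fun j => j.2.1)
    (fun j => ⟨inf_le_left, fun x hx y hy hxy =>
      ⟨⟨hx, (hQ.mem_of_add_mem x (j.2.2 hx) y (j.2.2 hy) hxy.2).1⟩,
        ⟨hy, (hQ.mem_of_add_mem x (j.2.2 hx) y (j.2.2 hy) hxy.2).2⟩⟩⟩)
    (le_antisymm (fun m hm => ?_) (iSup_le fun j => j.2.2))
    (le_antisymm (fun m hm => ?_) (iSup_le fun j => inf_le_right))
    hQ (fun j m hm hq => ⟨hm, hq⟩) T
  · obtain ⟨j, hj⟩ := hcl m hm
    exact le_iSup (fun j : J => j.1) j hj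
  · obtain ⟨j, hj⟩ := hcl m (hQ.le hm)
    exact le_iSup (fun j : J => j.1 ⊓ Q) j ⟨hj, hm⟩

theorem faceLiftAt [IsAffineHom U.hom] (hQ : IsFace N Q)
    (h : N.FG ∨ (IsSeparated X.hom ∧ LocallyOfFinitePresentation X.hom)) (T : Over S) :
    FaceLiftAt aX aU f hf hQ T := by
  intro y ψ hy
  let R : Sieve T := (Sieve.overEquiv T).symm (Sieve.ofArrows T.left.affineCover.X T.left.affineCover.f)
  have hR : R ∈ (Scheme.zariskiTopology.over S) T :=
    GrothendieckTopology.overEquiv_symm_mem_over _ _ _ (Scheme.Cover.mem_grothendieckTopology T.left.affineCover)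
  have hex : ∀ ⦃V : Over S⦄ (g : V ⟶ T), R g → ∃ φ : (attr aU N).obj (op V),
      (eqvHom.postcomp (subAct S M N) f hf).app (op V) φ = (attr aX N).map g.op y ∧
        (attrFace aU hQ).app (op V) φ = (attr aU Q).map g.op ψ := by
    intro V g hg
    obtain ⟨W, t, s, hs, hts⟩ := (Sieve.overEquiv_symm_iff _ g).1 hg
    obtain ⟨i⟩ := hs
    let T' : Over S := Over.mk (T.left.affineCover.f i ≫ T.hom)
    let j : T' ⟶ T := Over.homMk (T.left.affineCover.f i) rfl
    haveI : IsAffine T'.left := inferInstanceAs (IsAffine (T.left.affineCover.X i))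
    let t' : V ⟶ T' := Over.homMk t (by
      change t ≫ _ ≫ T.hom = _
      rw [← Category.assoc, hts, Over.w g])
    have hg' : g = t' ≫ j := Over.OverMorphism.ext hts.symm
    obtain ⟨φ, h₁, h₂⟩ := faceLiftAt_affine aX aU f hf hQ h T' ((attr aX N).map j.op y) ((attr aU Q).map j.op ψ)
      ((nat_app (attrFace aX hQ) j y).trans ((congrArg ((attr aX Q).map j.op) hy).trans
        (nat_app (eqvHom.postcomp (subAct S M Q) f hf) j ψ).symm))
    exact ⟨(attr aU N).map t'.op φ,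
      (nat_app (eqvHom.postcomp (subAct S M N) f hf) t' φ).trans ((congrArg ((attr aX N).map t'.op) h₁).trans
        (map_map_op (attr aX N) t' j g hg'.symm y)),
      (nat_app (attrFace aU hQ) t' φ).trans ((congrArg ((attr aU Q).map t'.op) h₂).trans
        (map_map_op (attr aU Q) t' j g hg'.symm ψ))⟩
  choose x hx₁ hx₂ using hex
  have hcompat : Presieve.FamilyOfElements.Compatible (P := attr aU N) (R := R.arrows) x := by
    intro V₁ V₂ W g₁ g₂ f₁ f₂ hf₁ hf₂ e
    refine faceLift_unique aX aU f hf hQ _ _ ?_ ?_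
    · exact ((nat_app (eqvHom.postcomp (subAct S M N) f hf) g₁ _).trans
        ((congrArg ((attr aX N).map g₁.op) (hx₁ f₁ hf₁)).trans (map_map_op (attr aX N) g₁ f₁ _ rfl y))).trans
        ((nat_app (eqvHom.postcomp (subAct S M N) f hf) g₂ _).trans
        ((congrArg ((attr aX N).map g₂.op) (hx₁ f₂ hf₂)).trans (map_map_op (attr aX N) g₂ f₂ _ e.symm y))).symm
    · exact ((nat_app (attrFace aU hQ) g₁ _).trans
        ((congrArg ((attr aU Q).map g₁.op) (hx₂ f₁ hf₁)).trans (map_map_op (attr aU Q) g₁ f₁ _ rfl ψ))).trans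
        ((nat_app (attrFace aU hQ) g₂ _).trans
        ((congrArg ((attr aU Q).map g₂.op) (hx₂ f₂ hf₂)).trans (map_map_op (attr aU Q) g₂ f₂ _ e.symm ψ))).symm
  have hsh : ∀ {Y : Over S} (a : MonAct (AMonS S M) Y) (P : AddSubmonoid M),
      Presieve.IsSheafFor (attr a P) R.arrows := fun {Y} a P =>
    (isSheaf_iff_isSheaf_of_type _ _).1 (isSheaf_eqvHom (Scheme.zariskiTopology.over S) (subAct S M P) a) R hR
  obtain ⟨φ, hφ, -⟩ := hsh aU N x hcompat
  refine ⟨φ, (hsh aX N).isSeparatedFor.ext fun V g hg => ?_, (hsh aU Q).isSeparatedFor.ext fun V g hg => ?_⟩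
  · exact (nat_app (eqvHom.postcomp (subAct S M N) f hf) g φ).symm.trans
      ((congrArg ((eqvHom.postcomp (subAct S M N) f hf).app (op V)) (hφ g hg)).trans (hx₁ g hg))
  · exact (nat_app (attrFace aU hQ) g φ).symm.trans
      ((congrArg ((attrFace aU hQ).app (op V)) (hφ g hg)).trans (hx₂ g hg))

end Groth.Agent.Mag88
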