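import Groth.Agent.Mag88.ClosedRep
import Groth.Prelude.Def_Magnet3

/-! Descent of representability by a closed subscheme of fixed points along an étale atlas. -/

set_option autoImplicit false
universe u

set_option backward.isDefEq.respectTransparency false
set_option backward.isDefEq.respectTransparency.types false
set_option linter.style.haveILetI false

open CategoryTheory CategoryTheory.Limits MonoidalCategory CartesianMonoidalCategory MonObj AlgebraicGeometry
open Opposite Magnet Magnet.MonAct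
open scoped TensorProduct

namespace Groth.Agent.Mag88.FixedDescent

theorem map_eq_of_symm {A B : Type u} [CommRing A] [CommRing B] [Algebra A B] [Module.Flat A B] (J : Ideal B)
    (h : J ≤ RingHom.ker ((Ideal.Quotient.mk (J.map (Algebra.TensorProduct.includeRight : B →ₐ[A] B ⊗[A] B).toRingHom)).comp
      (Algebra.TensorProduct.includeLeftRingHom : B →+* B ⊗[A] B))) :
    J ≤ (J.comap (algebraMap A B)).map (algebraMap A B) := by
  intro b hb
  let I := J.comap (algebraMap A B)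
  let g : (A ⧸ I) →ₐ[A] B ⧸ J := Ideal.Quotient.liftₐ I (IsScalarTower.toAlgHom A B (B ⧸ J) |>.comp (Algebra.ofId A B))
    (fun a ha => Ideal.Quotient.eq_zero_iff_mem.2 ha)
  have hg : Function.Injective g := by
    rw [injective_iff_map_eq_zero]
    intro x hx
    obtain ⟨a, rfl⟩ := Ideal.Quotient.mk_surjective x
    have hx' : Ideal.Quotient.mk J (algebraMap A B a) = 0 := hx
    exact Ideal.Quotient.eq_zero_iff_mem.2 (Ideal.Quotient.eq_zero_iff_mem.1 hx' : algebraMap A B a ∈ J)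
  have hinj := Module.Flat.lTensor_preserves_injective_linearMap (M := B) g.toLinearMap hg
  have hle : J.map (Algebra.TensorProduct.includeRight : B →ₐ[A] B ⊗[A] B).toRingHom ≤
      RingHom.ker (Algebra.TensorProduct.map (AlgHom.id A B) (Ideal.Quotient.mkₐ A J)).toRingHom := by
    rw [Ideal.map_le_iff_le_comap]
    intro c hc
    rw [Ideal.mem_comap, RingHom.mem_ker]
    simp [Ideal.Quotient.eq_zero_iff_mem.2 hc]
  have h0 : b ⊗ₜ[A] (1 : B ⧸ J) = 0 := by
    have h1 : (b ⊗ₜ[A] (1 : B)) ∈ J.map (Algebra.TensorProduct.includeRight : B →ₐ[A] B ⊗[A] B).toRingHom :=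
      Ideal.Quotient.eq_zero_iff_mem.1 (h hb)
    have h2 := hle h1
    rw [RingHom.mem_ker] at h2
    simpa using h2
  have h2 : b ⊗ₜ[A] (1 : A ⧸ I) = 0 := hinj (by
    rw [map_zero, LinearMap.lTensor_tmul]
    change b ⊗ₜ[A] g 1 = 0
    rw [map_one]
    exact h0)
  let r : B ⊗[A] (A ⧸ I) →ₐ[A] B ⧸ I.map (algebraMap A B) :=
    Algebra.TensorProduct.lift (Ideal.Quotient.mkₐ A (I.map (algebraMap A B)))
      (Ideal.Quotient.liftₐ I (Algebra.ofId A _) (fun a ha => Ideal.Quotient.eq_zero_iff_mem.2 (Ideal.mem_map_of_mem _ ha)))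
      (fun _ _ => Commute.all _ _)
  have h3 := congrArg r h2
  rw [map_zero] at h3
  simp only [r, Algebra.TensorProduct.lift_tmul, map_one, _root_.mul_one] at h3
  exact Ideal.Quotient.eq_zero_iff_mem.1 h3

variable {S : Scheme.{u}} {G X U : Over S} [MonObj G]

/-- A fixed point. -/
def Fixed (a : MonAct G X) (T : Over S) (x : T ⟶ X) : Prop :=
  ∀ (T' : Over S) (t : T' ⟶ T) (g : T' ⟶ G), lift g (t ≫ x) ≫ a.act = t ≫ x

theorem fixed_comp (a : MonAct G X) (T T' : Over S) (t : T' ⟶ T) (x : T ⟶ X) (h : Fixed a T x) :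
    Fixed a T' (t ≫ x) := fun T'' t' g => by rw [← Category.assoc]; exact h T'' (t' ≫ t) g

theorem fixed_local (a : MonAct G X) (T : Over S) (x : T ⟶ X) (U : T.left → Over S) (j : ∀ i, U i ⟶ T)
    (hj : ∀ i, IsOpenImmersion (j i).left) (hc : ∀ t : T.left, t ∈ Set.range (j t).left)
    (h : ∀ i, Fixed a _ (j i ≫ x)) : Fixed a T x := by
  intro T' t g
  haveI := hj
  have hcov : ∀ p : T'.left, ∃ (i : T.left) (q : (pullback (j i).left t.left : Scheme.{u})),
      pullback.snd (j i).left t.left q = p := fun p => by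
    obtain ⟨v, hv⟩ := hc (t.left p)
    obtain ⟨q, -, hq⟩ := Scheme.Pullback.exists_preimage_pullback v p hv
    exact ⟨_, q, hq⟩
  choose idx q hq using hcov
  let 𝒰 : T'.left.OpenCover := Scheme.Cover.mkOfCovers (P := @IsOpenImmersion) T.left
    (fun i => pullback (j i).left t.left) (fun i => pullback.snd (j i).left t.left)
    (fun p => ⟨idx p, q p, hq p⟩) (fun i => inferInstance)
  apply Over.OverMorphism.ext
  refine Scheme.Cover.hom_ext 𝒰 _ _ fun i => ?_
  let P : Over S := Over.mk (pullback.snd (j i).left t.left ≫ T'.hom)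
  let π : P ⟶ T' := Over.homMk (pullback.snd (j i).left t.left) rfl
  let s : P ⟶ U i := Over.homMk (pullback.fst (j i).left t.left) (by
    change _ = pullback.snd (j i).left t.left ≫ T'.hom
    rw [← Over.w (j i), pullback.condition_assoc, Over.w])
  have hs : s ≫ j i = π ≫ t := Over.OverMorphism.ext pullback.condition
  change (π ≫ lift g (t ≫ x) ≫ a.act).left = (π ≫ t ≫ x).left
  rw [comp_lift_assoc, ← Category.assoc π t x, ← hs, Category.assoc]
  rw [h i P s (π ≫ g)]

theorem fixed_of_ff (a : MonAct G X) {T T₀ : Over S} (ρ : T₀ ⟶ T) [Flat ρ.left] [Surjective ρ.left] (x : T ⟶ X)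
    (h : Fixed a T₀ (ρ ≫ x)) : Fixed a T x := by
  intro T' t g
  let P : Over S := Over.mk (pullback.snd ρ.left t.left ≫ T'.hom)
  let π : P ⟶ T' := Over.homMk (pullback.snd ρ.left t.left) rfl
  let s : P ⟶ T₀ := Over.homMk (pullback.fst ρ.left t.left) (by
    change _ = pullback.snd ρ.left t.left ≫ T'.hom
    rw [← Over.w ρ, pullback.condition_assoc, Over.w])
  have hs : s ≫ ρ = π ≫ t := Over.OverMorphism.ext pullback.condition
  haveI : Flat π.left := MorphismProperty.pullback_snd (P := @Flat.{u}) _ _ ‹_›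
  haveI : Surjective π.left := MorphismProperty.pullback_snd (P := @Surjective.{u}) _ _ ‹_›
  haveI he : Epi π.left := Flat.epi_of_flat_of_surjective _
  haveI : Epi ((Over.forget S).map π) := he
  haveI : Epi π := (Over.forget S).epi_of_epi_map this
  rw [← cancel_epi π, comp_lift_assoc, ← Category.assoc π t x, ← hs, Category.assoc]
  exact h P s (π ≫ g)

omit [MonObj G] in
theorem exists_chart (f : U ⟶ X) [Etale f.left] [Surjective f.left] (V : X.left.affineOpens) :
    ∃ (B : CommRingCat.{u}) (φ : Γ(X.left, V) ⟶ B) (u : Spec B ⟶ U.left),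
      u ≫ f.left = Spec.map φ ≫ V.2.fromSpec ∧ φ.hom.FaithfullyFlat := by
  have hch : ∀ v : V.1, ∃ Uv : U.left.affineOpens, Uv.1 ≤ f.left ⁻¹ᵁ V.1 ∧ v.1 ∈ f.left '' Uv.1 := fun v => by
    obtain ⟨y, hy⟩ := f.left.surjective v.1
    obtain ⟨W, hW, hyW, hWV⟩ := exists_isAffineOpen_mem_and_subset (U := f.left ⁻¹ᵁ V.1) (x := y) (show f.left y ∈ V.1 by rw [hy]; exact v.2)
    exact ⟨⟨W, hW⟩, hWV, y, hyW, hy⟩
  choose Uv hUV hvU using hch
  obtain ⟨F, hF⟩ := V.2.isCompact.elim_finite_subcover (fun v : V.1 => f.left '' (Uv v).1)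
    (fun v => f.left.isOpenMap _ (Uv v).1.isOpen) (fun x hx => Set.mem_iUnion.2 ⟨⟨x, hx⟩, hvU ⟨x, hx⟩⟩)
  let K : F → Scheme.{u} := fun v => Spec Γ(U.left, (Uv v.1).1)
  let σ : (∐ K) ⟶ U.left := Limits.Sigma.desc fun v : F => (Uv v.1).2.fromSpec
  let τ : (∐ K) ⟶ Spec Γ(X.left, V) := Limits.Sigma.desc fun v : F => Spec.map (f.left.appLE V.1 (Uv v.1).1 (hUV v.1))
  have hτ : σ ≫ f.left = τ ≫ V.2.fromSpec := Limits.Sigma.hom_ext _ _ fun v => by
    rw [Sigma.ι_desc_assoc, Sigma.ι_desc_assoc]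
    exact (V.2.SpecMap_appLE_fromSpec f.left (Uv v.1).2 (hUV v.1)).symm
  haveI : ∀ v : F, IsAffine (K v) := fun v => inferInstanceAs (IsAffine (Spec _))
  let u : Spec Γ(∐ K, ⊤) ⟶ U.left := (∐ K).isoSpec.inv ≫ σ
  obtain ⟨φ, hφ⟩ : ∃ φ, Spec.map φ = (∐ K).isoSpec.inv ≫ τ := ⟨_, Spec.map_preimage _⟩
  have huf : u ≫ f.left = Spec.map φ ≫ V.2.fromSpec := by rw [hφ, Category.assoc, hτ, Category.assoc]
  have hφff : φ.hom.FaithfullyFlat := by
    refine (flat_and_surjective_SpecMap_iff φ).1 ?_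
    rw [hφ]
    refine ⟨?_, ?_⟩
    · haveI : Flat τ := IsZariskiLocalAtSource.sigmaDesc fun v : F => by
        rw [HasRingHomProperty.Spec_iff (P := @Flat)]
        exact f.left.flat_appLE V.2 (Uv v.1).2 (hUV v.1)
      infer_instance
    · haveI : Surjective τ := ⟨fun z => by
        have hz : V.2.fromSpec z ∈ (V.1 : Set X.left) := V.2.range_fromSpec.le ⟨z, rfl⟩
        obtain ⟨v, hv, y, hy, hyz⟩ := Set.mem_iUnion₂.1 (hF hz)
        obtain ⟨y', rfl⟩ : y ∈ Set.range (Uv v).2.fromSpec := (Uv v).2.range_fromSpec.ge hy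
        refine ⟨Limits.Sigma.ι K ⟨v, hv⟩ y', V.2.fromSpec.isOpenEmbedding.injective ?_⟩
        rw [← hyz]
        change (Limits.Sigma.ι K ⟨v, hv⟩ ≫ τ ≫ V.2.fromSpec) y' = ((Uv v).2.fromSpec ≫ f.left) y'
        rw [← hτ, ← Category.assoc]
        rw [Limits.Sigma.ι_desc]⟩
      infer_instance
  exact ⟨Γ(∐ K, ⊤), φ, u, huf, hφff⟩

theorem exists_ideal_of_ff {A B : CommRingCat.{u}} (φ : A ⟶ B) (hφ : φ.hom.FaithfullyFlat) (J : Ideal B)
    (P : ∀ R : CommRingCat.{u}, (A ⟶ R) → Prop)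
    (hJ : ∀ (R : CommRingCat.{u}) (q : B ⟶ R), P R (φ ≫ q) ↔ J ≤ RingHom.ker q.hom)
    (hdesc : ∀ (R R' : CommRingCat.{u}) (q : A ⟶ R) (g : R ⟶ R'), g.hom.FaithfullyFlat → (P R q ↔ P R' (q ≫ g))) :
    ∃ I : Ideal A, ∀ (R : CommRingCat.{u}) (q : A ⟶ R), P R q ↔ I ≤ RingHom.ker q.hom := by
  algebraize [φ.hom]
  haveI : Module.FaithfullyFlat A B := hφ
  have hsymm : J ≤ RingHom.ker ((Ideal.Quotient.mk (J.map (Algebra.TensorProduct.includeRight : B →ₐ[A] B ⊗[A] B).toRingHom)).comp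
      (Algebra.TensorProduct.includeLeftRingHom : B →+* B ⊗[A] B)) := by
    let D := CommRingCat.of ((B ⊗[A] B) ⧸ J.map (Algebra.TensorProduct.includeRight : B →ₐ[A] B ⊗[A] B).toRingHom)
    let q₁ : B ⟶ D := CommRingCat.ofHom ((Ideal.Quotient.mk _).comp Algebra.TensorProduct.includeLeftRingHom)
    let q₂ : B ⟶ D := CommRingCat.ofHom ((Ideal.Quotient.mk _).comp
      (Algebra.TensorProduct.includeRight : B →ₐ[A] B ⊗[A] B).toRingHom)
    have h2 : P D (φ ≫ q₂) := (hJ D q₂).2 fun b hb =>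
      Ideal.Quotient.eq_zero_iff_mem.2 (Ideal.mem_map_of_mem _ hb)
    have e : φ ≫ q₁ = φ ≫ q₂ := CommRingCat.hom_ext (RingHom.ext fun a => congrArg (Ideal.Quotient.mk _)
      (((Algebra.TensorProduct.includeLeft : B →ₐ[A] B ⊗[A] B).commutes a).trans
        ((Algebra.TensorProduct.includeRight : B →ₐ[A] B ⊗[A] B).commutes a).symm))
    exact (hJ D q₁).1 (e ▸ h2)
  have hJI := map_eq_of_symm J hsymm
  refine ⟨J.comap φ.hom, fun R q => ?_⟩
  algebraize [q.hom]
  let R' : CommRingCat.{u} := CommRingCat.of ((R : Type u) ⊗[A] B)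
  let inl : R ⟶ R' := CommRingCat.ofHom (Algebra.TensorProduct.includeLeftRingHom (R := A) (A := (R : Type u)) (B := B))
  let inr : B ⟶ R' := CommRingCat.ofHom (Algebra.TensorProduct.includeRight (R := A) (A := (R : Type u)) (B := B)).toRingHom
  have hsq : φ ≫ inr = q ≫ inl := CommRingCat.hom_ext (RingHom.ext fun a =>
    ((Algebra.TensorProduct.includeRight (R := A) (A := (R : Type u)) (B := B)).commutes a).trans
      ((Algebra.TensorProduct.includeLeft (R := A) (S := A) (A := (R : Type u)) (B := B)).commutes a).symm)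
  have hinl : inl.hom.FaithfullyFlat :=
    (RingHom.faithfullyFlat_algebraMap_iff (R := R) (S := (R : Type u) ⊗[A] B)).2 inferInstance
  rw [hdesc R R' q inl hinl, ← hsq, hJ R' inr]
  constructor
  · intro h a ha
    have := h ha
    rw [RingHom.mem_ker] at this ⊢
    have h0 : inl (q a) = 0 := (congr($hsq a)).symm.trans this
    exact hinl.injective (h0.trans (map_zero inl.hom).symm)
  · intro h b hb
    have hle : (J.comap φ.hom).map φ.hom ≤ RingHom.ker inr.hom := by
      rw [Ideal.map_le_iff_le_comap]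
      intro a ha
      rw [Ideal.mem_comap, RingHom.mem_ker]
      refine (congr($hsq a)).trans ?_
      change inl (q a) = 0
      rw [show q a = 0 from h ha, map_zero]
    exact hle (hJI hb)

theorem fixed_pt_desc (aX : MonAct G X) (V : X.left.affineOpens) {R R' : CommRingCat.{u}} (q : Γ(X.left, V) ⟶ R)
    (g : R ⟶ R') (hg : g.hom.FaithfullyFlat) :
    Fixed aX _ (ClosedRep.pt V q) ↔ Fixed aX _ (ClosedRep.pt V (q ≫ g)) := by
  obtain ⟨hfl, hsu⟩ := (flat_and_surjective_SpecMap_iff g).2 hg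
  let ρ : Over.mk ((Spec.map (q ≫ g) ≫ V.2.fromSpec) ≫ X.hom) ⟶ Over.mk ((Spec.map q ≫ V.2.fromSpec) ≫ X.hom) :=
    Over.homMk (Spec.map g) (by
      change Spec.map g ≫ (Spec.map q ≫ _) ≫ _ = _
      rw [Spec.map_comp, Category.assoc, Category.assoc, Category.assoc]
      rfl)
  have hρ : ρ ≫ ClosedRep.pt V q = ClosedRep.pt V (q ≫ g) := Over.OverMorphism.ext (Spec.map_comp_assoc _ _ _).symm
  haveI : Flat ρ.left := hfl
  haveI : Surjective ρ.left := hsu
  exact ⟨fun h => hρ ▸ fixed_comp aX _ _ ρ _ h, fun h => fixed_of_ff aX ρ _ (hρ.symm ▸ h)⟩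

theorem exists_fixed_ideal (aX : MonAct G X) (f : U ⟶ X) [Etale f.left] [Surjective f.left] {W' : Over S} (i' : W' ⟶ U)
    (hi' : IsClosedImmersion i'.left)
    (hUfix : ∀ (T : Over S) (u : T ⟶ U), Fixed aX T (u ≫ f) ↔ ∃ w, w ≫ i' = u) (V : X.left.affineOpens) :
    ∃ I : Ideal Γ(X.left, V), ∀ (R : CommRingCat.{u}) (q : Γ(X.left, V) ⟶ R),
      Fixed aX _ (ClosedRep.pt V q) ↔ I ≤ RingHom.ker q.hom := by
  obtain ⟨B, φ, u, huf, hφff⟩ := exists_chart f V
  let Bs : Over S := Over.mk (u ≫ U.hom)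
  let uU : Bs ⟶ U := Over.homMk u rfl
  haveI : IsClosedImmersion i'.left := hi'
  obtain ⟨J, eJ, hJ⟩ := (IsClosedImmersion.Spec_iff (f := pullback.snd i'.left u)).1 inferInstance
  have key : ∀ (R : CommRingCat.{u}) (q : B ⟶ R),
      Fixed aX _ (ClosedRep.pt V (φ ≫ q)) ↔ J ≤ RingHom.ker q.hom := by
    intro R q
    let T : Over S := Over.mk ((Spec.map (φ ≫ q) ≫ V.2.fromSpec) ≫ X.hom)
    let uq : T ⟶ U := Over.homMk (Spec.map q ≫ u) (by
      change _ = (Spec.map (φ ≫ q) ≫ V.2.fromSpec) ≫ X.hom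
      rw [Category.assoc, Category.assoc, ← Over.w f, reassoc_of% huf, Spec.map_comp, Category.assoc])
    have e : ClosedRep.pt V (φ ≫ q) = uq ≫ f := Over.OverMorphism.ext (by
      change Spec.map (φ ≫ q) ≫ V.2.fromSpec = (Spec.map q ≫ u) ≫ f.left
      rw [Category.assoc, huf, Spec.map_comp, Category.assoc])
    rw [e, hUfix]
    constructor
    · rintro ⟨w, hw⟩ b hb
      let l : Spec R ⟶ pullback i'.left u := pullback.lift w.left (Spec.map q) (congrArg Over.Hom.left hw)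
      obtain ⟨ψ, hψ⟩ : ∃ ψ, Spec.map ψ = l ≫ eJ.hom := ⟨_, Spec.map_preimage _⟩
      have : Spec.map (CommRingCat.ofHom (Ideal.Quotient.mk J) ≫ ψ) = Spec.map q := by
        rw [Spec.map_comp, hψ, Category.assoc]
        rw [← hJ]
        exact pullback.lift_snd _ _ _
      rw [RingHom.mem_ker, ← Spec.map_injective this]
      change ψ (Ideal.Quotient.mk J b) = 0
      rw [Ideal.Quotient.eq_zero_iff_mem.2 hb, map_zero]
    · intro h
      let ψ : CommRingCat.of (B ⧸ J) ⟶ R := CommRingCat.ofHom (Ideal.Quotient.lift J q.hom h)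
      have hψ : CommRingCat.ofHom (Ideal.Quotient.mk J) ≫ ψ = q := CommRingCat.hom_ext (RingHom.ext fun _ => rfl)
      have e1 : (Spec.map ψ ≫ eJ.inv ≫ pullback.fst i'.left u) ≫ i'.left = uq.left := by
        rw [Category.assoc, Category.assoc, pullback.condition, hJ, Category.assoc, Iso.inv_hom_id_assoc,
          ← Spec.map_comp_assoc, hψ]
        rfl
      exact ⟨Over.homMk (Spec.map ψ ≫ eJ.inv ≫ pullback.fst i'.left u) ((congrArg (_ ≫ ·) (Over.w i').symm).trans ((Category.assoc _ _ _).symm.trans ((congrArg (· ≫ U.hom) e1).trans (Over.w uq)))),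
        Over.OverMorphism.ext e1⟩
  exact exists_ideal_of_ff φ hφff J (fun R q => Fixed aX _ (ClosedRep.pt V q)) key
    fun R R' q g hg => fixed_pt_desc aX V q g hg

theorem exists_closed_fixed (aX : MonAct G X) (aU : MonAct G U) (f : U ⟶ X) [Etale f.left] [Surjective f.left]
    (hf : IsEquivariant aU aX f)
    (hfpr : IsPullback (fixedPsh.map f hf) (fixedPshι aU) (fixedPshι aX) (yoneda.map f))
    (hU : ∃ (W' : Over S) (i' : W' ⟶ U) (e' : (fixedPsh aU).RepresentableBy W'),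
      IsClosedImmersion i'.left ∧ ∀ (T : Over S) (w : T ⟶ W'), (fixedPshι aU).app (op T) (e'.homEquiv w) = w ≫ i') :
    ∃ (W : Over S) (i : W ⟶ X) (e : (fixedPsh aX).RepresentableBy W),
      IsClosedImmersion i.left ∧ ∀ (T : Over S) (w : T ⟶ W), (fixedPshι aX).app (op T) (e.homEquiv w) = w ≫ i := by
  obtain ⟨W', i', e', hi', he'⟩ := hU
  have hUfix : ∀ (T : Over S) (u : T ⟶ U), Fixed aX T (u ≫ f) ↔ ∃ w, w ≫ i' = u := by
    intro T u
    constructor
    · intro h
      obtain ⟨p, -, hp⟩ := ((Types.isPullback_iff _ _ _ _).1 (hfpr.app (op T))).2.2 ⟨u ≫ f, h⟩ u rfl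
      exact ⟨e'.homEquiv.symm p, by rw [← he', Equiv.apply_symm_apply]; exact hp⟩
    · rintro ⟨w, rfl⟩
      have := ((fixedPsh.map f hf).app (op T) (e'.homEquiv w)).2
      rw [← he']
      exact this
  have hI := exists_fixed_ideal aX f i' hi' hUfix
  obtain ⟨W, i, hi, hW⟩ := ClosedRep.exists_closed (X := X) (Fixed aX) (fixed_comp aX) (fixed_local aX) hI
  haveI : Mono ((Over.forget S).map i) := inferInstanceAs (Mono i.left)
  haveI : Mono i := (Over.forget S).mono_of_mono_map this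
  let e : (fixedPsh aX).RepresentableBy W :=
    { homEquiv := fun {T} =>
        { toFun := fun w => ⟨w ≫ i, (hW T (w ≫ i)).2 ⟨w, rfl⟩⟩
          invFun := fun x => ((hW T x.1).1 x.2).choose
          left_inv := fun w => (cancel_mono i).1 ((hW T (w ≫ i)).1 ((hW T (w ≫ i)).2 ⟨w, rfl⟩)).choose_spec
          right_inv := fun x => Subtype.ext ((hW T x.1).1 x.2).choose_spec }
      homEquiv_comp := fun g h => Subtype.ext (Category.assoc _ _ _) }
  exact ⟨W, i, e, hi, fun T w => rfl⟩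

end Groth.Agent.Mag88.FixedDescent
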