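import Mathlib

/-! Group algebras are free over the group algebras of subgroups. -/

universe u

namespace Groth.Agent.Mag88

open MonoidAlgebra

variable {R : Type u} [CommRing R] {M : Type} [AddCommGroup M] (Z : AddSubgroup M)

/-- The inclusion of group algebras. -/
noncomputable def incAlg : MonoidAlgebra R (Multiplicative Z) →+* MonoidAlgebra R (Multiplicative M) :=
  (mapDomainAlgHom R R (AddMonoidHom.toMultiplicative Z.subtype)).toRingHom

theorem incAlg_single (z : Z) (r : R) : incAlg Z (single (Multiplicative.ofAdd z) r) = single (Multiplicative.ofAdd (z : M)) r := by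
  simp [incAlg]

theorem faithfullyFlat_incAlg : (incAlg (R := R) Z).FaithfullyFlat := by
  classical
  algebraize [incAlg (R := R) Z]
  let σ : M ⧸ Z → M := Quotient.out
  have hσ : ∀ m : M, -σ (QuotientAddGroup.mk m) + m ∈ Z := fun m =>
    QuotientAddGroup.eq.1 (QuotientAddGroup.out_eq' (QuotientAddGroup.mk m))
  let Φ : (M ⧸ Z →₀ MonoidAlgebra R (Multiplicative Z)) →ₗ[MonoidAlgebra R (Multiplicative Z)]
      MonoidAlgebra R (Multiplicative M) :=
    Finsupp.linearCombination _ (fun q => single (Multiplicative.ofAdd (σ q)) (1 : R))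
  have hΦ : ∀ q (x : MonoidAlgebra R (Multiplicative Z)),
      Φ (Finsupp.single q x) = incAlg Z x * single (Multiplicative.ofAdd (σ q)) 1 := fun q x => by
    rw [Finsupp.linearCombination_single]; rfl
  have hΦs : ∀ q (z : Z) (r : R), Φ (Finsupp.single q (single (Multiplicative.ofAdd z) r)) =
      single (Multiplicative.ofAdd ((z : M) + σ q)) r := fun q z r => by
    rw [hΦ, incAlg_single, single_mul_single, mul_one, ofAdd_add]
  let Ψ : MonoidAlgebra R (Multiplicative M) →+ (M ⧸ Z →₀ MonoidAlgebra R (Multiplicative Z)) :=
    (Finsupp.liftAddHom (fun m => (Finsupp.singleAddHom (QuotientAddGroup.mk (Multiplicative.toAdd m))).comp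
        (singleAddHom (Multiplicative.ofAdd (⟨_, hσ (Multiplicative.toAdd m)⟩ : Z))))).comp
      (coeffAddEquiv (R := R) (M := Multiplicative M)).toAddMonoidHom
  have hΨ : ∀ m r, Ψ (single (Multiplicative.ofAdd m) r) =
      Finsupp.single (QuotientAddGroup.mk m) (single (Multiplicative.ofAdd (⟨_, hσ m⟩ : Z)) r) := fun m r => by
    simp [Ψ]
  have h1 : ∀ x, Ψ (Φ x) = x := fun x => by
    induction x using Finsupp.induction_linear with
    | zero => simp
    | add a b ha hb => rw [map_add, map_add, ha, hb]
    | single q x =>
      induction x using MonoidAlgebra.induction_linear with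
      | zero => simp
      | add a b ha hb => rw [Finsupp.single_add, map_add, map_add, ha, hb]
      | single z r =>
        rw [← ofAdd_toAdd z, hΦs, hΨ]
        have e : (QuotientAddGroup.mk (((Multiplicative.toAdd z : Z) : M) + σ q) : M ⧸ Z) = q := by
          rw [QuotientAddGroup.mk_add, (QuotientAddGroup.eq_zero_iff _).2 (Multiplicative.toAdd z).2, zero_add]
          exact QuotientAddGroup.out_eq' q
        have h' : ∀ w : Z, (w : M) = ((Multiplicative.toAdd z : Z) : M) →
            Finsupp.single q (single (Multiplicative.ofAdd w) r) =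
              Finsupp.single q (single (Multiplicative.ofAdd (Multiplicative.toAdd z)) r) :=
          fun w hw => by rw [Subtype.ext hw]
        refine Eq.trans ?_ (h' ⟨_, hσ _⟩ (show -σ _ + (_ + σ q) = _ by rw [e]; abel))
        exact congrArg (fun p => Finsupp.single p _) e
  have h2 : ∀ y, Φ (Ψ y) = y := fun y => by
    induction y using MonoidAlgebra.induction_linear with
    | zero => simp
    | add a b ha hb => rw [map_add, map_add, ha, hb]
    | single m r =>
      rw [← ofAdd_toAdd m, hΨ, hΦs]
      congr 2
      change -σ _ + Multiplicative.toAdd m + σ _ = _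
      abel
  let e : (M ⧸ Z →₀ MonoidAlgebra R (Multiplicative Z)) ≃ₗ[MonoidAlgebra R (Multiplicative Z)]
      MonoidAlgebra R (Multiplicative M) := LinearEquiv.ofBijective Φ
    ⟨Function.LeftInverse.injective h1, fun y => ⟨Ψ y, h2 y⟩⟩
  exact Module.FaithfullyFlat.of_linearEquiv _ _ e.symm

end Groth.Agent.Mag88
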