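import Groth.Agent.Mag88.Sep
import Groth.Agent.Mag88.MonFlat
import Groth.Agent.Mag88.OpenPb

/-! The attractor of a subgroup is a fixed point functor. -/

universe u

set_option backward.isDefEq.respectTransparency false
set_option backward.isDefEq.respectTransparency.types false

open CategoryTheory CategoryTheory.Limits MonoidalCategory CartesianMonoidalCategory MonObj AlgebraicGeometry
open Opposite Magnet Magnet.MonAct

namespace Groth.Agent.Mag88

variable {S : Scheme.{u}}

section Flat

variable {M : Type} [AddCommGroup M] (Z : AddSubgroup M)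

theorem flat_surjective_AMon : Flat (AMon.map (ULift.{u} ℤ) Z.subtype).left ∧
    Surjective (AMon.map (ULift.{u} ℤ) Z.subtype).left := by
  rw [AMon.map_left]
  exact (flat_and_surjective_SpecMap_iff (CommRingCat.ofHom _)).2 (faithfullyFlat_incAlg Z)

theorem isPullback_bcMap {B : Scheme.{u}} (f : S ⟶ B) {P Q : Over B} (g : P ⟶ Q) :
    IsPullback ((Over.pullback f).map g).left (pullback.fst P.hom f) (pullback.fst Q.hom f) g.left := by
  have h₁ : IsPullback (((Over.pullback f).map g).left ≫ pullback.snd Q.hom f) (pullback.fst P.hom f) f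
      (g.left ≫ Q.hom) := by
    have h := (IsPullback.of_hasPullback P.hom f).flip
    have e1 : ((Over.pullback f).map g).left ≫ pullback.snd Q.hom f = pullback.snd P.hom f := by simp
    rw [e1, Over.w g]
    exact h
  exact IsPullback.of_right h₁ (by simp) (IsPullback.of_hasPullback Q.hom f).flip

theorem props_map_whisker (T : Over S) :
    Flat (AMonS.map S Z.subtype ▷ T).left ∧ Surjective (AMonS.map S Z.subtype ▷ T).left ∧
      QuasiCompact (AMonS.map S Z.subtype ▷ T).left := by
  obtain ⟨h1, h2⟩ := flat_surjective_AMon.{u} Z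
  haveI : Flat (AMonS.map S Z.subtype).left :=
    MorphismProperty.of_isPullback (P := @Flat.{u}) (isPullback_bcMap _ _).flip h1
  haveI : Surjective (AMonS.map S Z.subtype).left :=
    MorphismProperty.of_isPullback (P := @Surjective.{u}) (isPullback_bcMap _ _).flip h2
  have sq := (isPullback_fst (AMonS.map S Z.subtype) T).map (Over.forget S)
  exact ⟨MorphismProperty.of_isPullback (P := @Flat.{u}) sq ‹Flat (AMonS.map S Z.subtype).left›,
    MorphismProperty.of_isPullback (P := @Surjective.{u}) sq ‹Surjective (AMonS.map S Z.subtype).left›,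
    quasiCompact_map_whisker Z.subtype T⟩

/-- Morphisms equalising the kernel pair of `A(M)_T ⟶ A(Z)_T` factor through it. -/
theorem exists_factor {X T : Over S} (o : AMonS S M ⊗ T ⟶ X)
    (h : ∀ (T' : Over S) (g₁ g₂ : T' ⟶ AMonS S M) (t : T' ⟶ T),
      (∀ z : Z, aFn g₁ (z : M) = aFn g₂ (z : M)) → lift g₁ t ≫ o = lift g₂ t ≫ o) :
    ∃ φ : AMonS S Z ⊗ T ⟶ X, (AMonS.map S Z.subtype ▷ T) ≫ φ = o := by
  let π := AMonS.map S Z.subtype ▷ T
  obtain ⟨hf, hs, hq⟩ := props_map_whisker Z T
  haveI : Flat π.left := hf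
  haveI : Surjective π.left := hs
  haveI : QuasiCompact π.left := hq
  have hcond : ∀ {W : Scheme.{u}} (g₁ g₂ : W ⟶ (AMonS S M ⊗ T).left),
      g₁ ≫ π.left = g₂ ≫ π.left → g₁ ≫ o.left = g₂ ≫ o.left := fun {W} g₁ g₂ e => by
    have w : g₂ ≫ (AMonS S M ⊗ T).hom = g₁ ≫ (AMonS S M ⊗ T).hom := by
      rw [← Over.w π, ← Category.assoc, ← Category.assoc, e]
    let T' : Over S := Over.mk (g₁ ≫ (AMonS S M ⊗ T).hom)
    let a : T' ⟶ AMonS S M ⊗ T := Over.homMk g₁ rfl
    let b : T' ⟶ AMonS S M ⊗ T := Over.homMk g₂ w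
    have hab : a ≫ π = b ≫ π := Over.OverMorphism.ext e
    have ht : a ≫ snd _ _ = b ≫ snd _ _ := by
      have := congrArg (· ≫ snd _ _) hab
      simpa [π] using this
    have hz : ∀ z : Z, aFn (a ≫ fst _ _) (z : M) = aFn (b ≫ fst _ _) (z : M) := fun z => by
      have := congrArg (fun q => aFn (q ≫ fst _ _) z) hab
      simp only [π, Category.assoc, whiskerRight_fst] at this
      rwa [← Category.assoc, ← Category.assoc, aFn_map, aFn_map] at this
    have := h T' (a ≫ fst _ _) (b ≫ fst _ _) (a ≫ snd _ _) hz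
    rw [← comp_lift, lift_fst_snd, Category.comp_id, ht, ← comp_lift, lift_fst_snd, Category.comp_id] at this
    exact congrArg Over.Hom.left this
  let φ₀ := EffectiveEpi.desc π.left o.left hcond
  refine ⟨Over.homMk φ₀ ?_, Over.OverMorphism.ext (EffectiveEpi.fac π.left o.left hcond)⟩
  rw [← cancel_epi π.left, ← Category.assoc, EffectiveEpi.fac, Over.w, Over.w π]

end Flat

variable {M : Type} [AddCommGroup M] (Z : AddSubgroup M) {X : Over S}

theorem exists_attr_iso_fixedPsh (act : MonAct (AMonS S M) X) :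
    ∃ e : attr act Z.toAddSubmonoid ≅
        fixedPsh (act.restrict (AMonS.map S (QuotientAddGroup.mk' Z))),
      e.hom ≫ fixedPshι _ = attrToX act Z.toAddSubmonoid := by
  let q := QuotientAddGroup.mk' Z
  let i : AMonS S M ⟶ AMonS S Z := AMonS.map S Z.subtype
  have hsub : ∀ T : (Over S)ᵒᵖ, ∀ φ : (attr act Z.toAddSubmonoid).obj T,
      (i ▷ unop T) ≫ φ.1 = (AMonS S M ◁ (lift (toUnit (unop T) ≫ η[AMonS S Z]) (𝟙 (unop T)) ≫ φ.1)) ≫ act.act :=
    fun T φ => whiskerRight_comp_eqvHom (AMonS.map S Z.toAddSubmonoid.subtype) act φ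
  have hfix : ∀ (T : (Over S)ᵒᵖ) (φ : (attr act Z.toAddSubmonoid).obj T) ⦃T' : Over S⦄ (t : T' ⟶ unop T)
      (h : T' ⟶ AMonS S (M ⧸ Z)),
      lift h (t ≫ (lift (toUnit (unop T) ≫ η[AMonS S Z]) (𝟙 (unop T)) ≫ φ.1)) ≫
          (act.restrict (AMonS.map S q)).act =
        t ≫ (lift (toUnit (unop T) ≫ η[AMonS S Z]) (𝟙 (unop T)) ≫ φ.1) := fun T φ T' t h => by
    rw [lift_restrict_act, ← lift_whiskerLeft_assoc, ← hsub, lift_whiskerRight_assoc, ← Category.assoc t,
      comp_lift, ← Category.assoc t, comp_toUnit, Category.comp_id, ← Hom.one_def]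
    have : h ≫ AMonS.map S q ≫ i = 1 := by
      refine aFn_ext fun z => ?_
      rw [← Category.assoc, aFn_map, aFn_map, aFn_one, show q (Z.subtype z) = 0 from (QuotientAddGroup.eq_zero_iff (z : M)).2 z.2,
        aFn_zero]
    rw [Category.assoc, this]
  haveI : ∀ T : Over S, IsSchemeTheoreticallyDominant (AMonS.map S Z.toAddSubmonoid.subtype ▷ T).left :=
    fun T => isSTD_subtype Z.toAddSubmonoid T
  let app : ∀ T, (attr act Z.toAddSubmonoid).obj T ⟶ (fixedPsh (act.restrict (AMonS.map S q))).obj T := fun T =>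
    TypeCat.ofHom fun φ => ⟨lift (toUnit (unop T) ≫ η[AMonS S Z]) (𝟙 (unop T)) ≫ φ.1, fun T' t h => hfix T φ t h⟩
  let nt : attr act Z.toAddSubmonoid ⟶ fixedPsh (act.restrict (AMonS.map S q)) :=
    { app := app
      naturality := fun T T' t => by
        ext φ
        exact Subtype.ext (congr($((attrToX act Z.toAddSubmonoid).naturality t) φ)) }
  haveI : IsIso nt := by
    rw [NatTrans.isIso_iff_isIso_app]
    intro T
    rw [isIso_iff_bijective]
    obtain ⟨hf, hs, hq⟩ := props_map_whisker Z (unop T)
    refine ⟨fun φ φ' h => ?_, fun x => ?_⟩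
    · haveI : Epi (i ▷ unop T).left :=
        haveI : Flat (i ▷ unop T).left := hf
        haveI : Surjective (i ▷ unop T).left := hs
        Flat.epi_of_flat_of_surjective _
      apply Subtype.ext
      apply Over.OverMorphism.ext
      rw [← cancel_epi (i ▷ unop T).left, ← Over.comp_left, ← Over.comp_left, hsub, hsub]
      exact congrArg (fun z => ((AMonS S M ◁ z) ≫ act.act).left) (congrArg Subtype.val h)
    · obtain ⟨ψ, hψ⟩ := exists_factor Z ((AMonS S M ◁ x.1) ≫ act.act) (fun T' g₁ g₂ t hg => by
        obtain ⟨d, hd⟩ : ∃ d : T' ⟶ AMonS S M, d * g₁ = g₂ := by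
          obtain ⟨d, hd⟩ := aFn_surjective (S := S) (X := T') (M := M)
            { toFun := fun m => aFn g₂ (Multiplicative.toAdd m) * aFn g₁ (-(Multiplicative.toAdd m))
              map_one' := by simp [aFn_zero]
              map_mul' := fun m m' => by
                rw [toAdd_mul, aFn_add, neg_add, aFn_add]; ring }
          refine ⟨d, aFn_ext fun m => ?_⟩
          rw [aFn_mul, hd]
          change aFn g₂ m * aFn g₁ (-m) * aFn g₁ m = aFn g₂ m
          rw [_root_.mul_assoc, ← aFn_add, neg_add_cancel, aFn_zero, _root_.mul_one]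
        obtain ⟨h, hh⟩ : ∃ h : T' ⟶ AMonS S (M ⧸ Z), h ≫ AMonS.map S q = d := by
          have hdz : ∀ z : Z, aFn d (z : M) = 1 := fun z => by
            have h1 := aFn_mul d g₁ (z : M)
            rw [hd, ← hg z] at h1
            have hu : aFn g₁ (z : M) * aFn g₁ (-(z : M)) = 1 := by
              rw [← aFn_add, add_neg_cancel, aFn_zero]
            have := congrArg (· * aFn g₁ (-(z : M))) h1
            simp only [_root_.mul_assoc, hu, _root_.mul_one] at this
            exact this.symm
          have hcoset : ∀ a b : M, (a : M ⧸ Z) = b → aFn d a = aFn d b := fun a b hab => by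
            have hab' := QuotientAddGroup.eq.1 hab
            have h2 := aFn_add d a (-a + b)
            rw [← add_assoc, add_neg_cancel, zero_add, hdz ⟨_, hab'⟩, _root_.mul_one] at h2
            exact h2.symm
          obtain ⟨h, hh⟩ := aFn_surjective (S := S) (X := T') (M := M ⧸ Z)
            { toFun := fun m => aFn d (Quotient.out (Multiplicative.toAdd m))
              map_one' := (hcoset _ 0 (QuotientAddGroup.out_eq' _)).trans (aFn_zero d)
              map_mul' := fun m m' => by
                rw [← aFn_add]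
                refine hcoset _ _ ?_
                exact (QuotientAddGroup.out_eq' _).trans ((QuotientAddGroup.mk_add Z _ _).trans
                  (congrArg₂ (fun u v : M ⧸ Z => u + v) (QuotientAddGroup.out_eq' _) (QuotientAddGroup.out_eq' _))).symm }
          refine ⟨h, aFn_ext fun m => ?_⟩
          rw [aFn_map, hh]
          exact hcoset _ _ (QuotientAddGroup.out_eq' _)
        rw [← hd, ← hh, lift_whiskerLeft_assoc, lift_whiskerLeft_assoc, ds_comm_mul (h ≫ AMonS.map S q) g₁,
          lift_mul_act, ← lift_restrict_act (AMonS.map S q) act, x.2 T' t h])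
      have hi : IsEquivariant ((subAct S M Z.toAddSubmonoid).prod (MonAct.trivial (AMonS S M) (unop T))) act ψ := by
        obtain ⟨hf', hs', hq'⟩ := props_map_whisker Z (unop T)
        refine (mem_eqvHom_iff (ρ := subAct S M Z.toAddSubmonoid) ψ).2 fun T' g b t => ?_
        obtain ⟨-, hs'', -⟩ := props_map_whisker Z T'
        -- reduce to the universal point by the epimorphism
        have key : ∀ (T'' : Over S) (g u : T'' ⟶ AMonS S M) (t : T'' ⟶ unop T),
            lift (lift g (u ≫ i) ≫ (subAct S M Z.toAddSubmonoid).act) t ≫ ψ =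
              lift g (lift (u ≫ i) t ≫ ψ) ≫ act.act := fun T'' g u t => by
          have e1 : lift g (u ≫ i) ≫ (subAct S M Z.toAddSubmonoid).act = (g * u) ≫ i := by
            rw [subAct, lift_restrict_act, lift_regular_act, MonObj.mul_comp]
            rfl
          rw [e1, ← lift_whiskerRight_assoc, hψ, ← lift_whiskerRight_assoc u, hψ, lift_whiskerLeft_assoc,
            lift_whiskerLeft_assoc, lift_mul_act]
        let P : Over S := AMonS S M ⊗ (AMonS S M ⊗ unop T)
        let π₂ : P ⟶ AMonS S M ⊗ (AMonS S Z ⊗ unop T) := AMonS S M ◁ (i ▷ unop T)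
        haveI : Flat π₂.left :=
          MorphismProperty.of_isPullback (P := @Flat.{u}) (isPullback_whiskerLeft_snd (A := AMonS S M) (i ▷ unop T) |>.map (Over.forget S)).flip hf'
        haveI : Surjective π₂.left :=
          MorphismProperty.of_isPullback (P := @Surjective.{u}) (isPullback_whiskerLeft_snd (A := AMonS S M) (i ▷ unop T) |>.map (Over.forget S)).flip hs'
        haveI := Flat.epi_of_flat_of_surjective π₂.left
        haveI : Epi π₂ := by
          haveI : Epi ((Over.forget S).map π₂) := this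
          exact (Over.forget S).epi_of_epi_map this
        have e : ((subAct S M Z.toAddSubmonoid).prod (MonAct.trivial (AMonS S M) (unop T))).act ≫ ψ =
            (AMonS S M ◁ ψ) ≫ act.act := by
          rw [← cancel_epi π₂]
          apply hom_ext_lift₂
          intro T'' g' p
          obtain ⟨u, t', rfl⟩ : ∃ (u : T'' ⟶ AMonS S M) (t' : T'' ⟶ unop T), lift u t' = p :=
            ⟨p ≫ fst _ _, p ≫ snd _ _, by rw [← comp_lift, lift_fst_snd, Category.comp_id]⟩
          rw [lift_whiskerLeft_assoc, lift_whiskerRight, lift_prod_act_assoc, lift_trivial_act, lift_whiskerLeft_assoc,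
            lift_whiskerRight, lift_whiskerLeft_assoc]
          exact key T'' g' u t'
        exact (mem_eqvHom_iff (ρ := subAct S M Z.toAddSubmonoid) ψ).1 e T' g b t
      refine ⟨⟨ψ, hi⟩, Subtype.ext ?_⟩
      change lift (toUnit (unop T) ≫ η[AMonS S Z]) (𝟙 (unop T)) ≫ ψ = x.1
      have e1 : lift (toUnit (unop T) ≫ η[AMonS S Z]) (𝟙 (unop T)) =
          lift (1 : unop T ⟶ AMonS S M) (𝟙 (unop T)) ≫ (i ▷ unop T) := by
        rw [lift_whiskerRight, MonObj.one_comp, Hom.one_def]
      rw [e1, Category.assoc, hψ, lift_whiskerLeft_assoc, lift_one_act, Category.id_comp]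
  exact ⟨asIso nt, rfl⟩
where
  ds_comm_mul {T' : Over S} (g h : T' ⟶ AMonS S M) : g * h = h * g :=
    aFn_ext fun m => by rw [aFn_mul, aFn_mul, mul_comm]

end Groth.Agent.Mag88
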