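import Groth.Agent.Mag88.AffDesc
import Groth.Agent.Mag88.FaceCart
import Groth.Agent.Mag88.FixedDescent
import Groth.Agent.Mag88.Quot
import Groth.Agent.Mag88.Affine2
import Groth.Prelude.Def_CGrpSh

/-! Attractors along fixed-point-reflecting atlases. -/

universe u

set_option maxHeartbeats 400000
set_option backward.isDefEq.respectTransparency false
set_option backward.isDefEq.respectTransparency.types false
set_option linter.style.haveILetI false
set_option linter.unusedVariables false
set_option linter.unusedSectionVars false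

open CategoryTheory CategoryTheory.Limits MonoidalCategory CartesianMonoidalCategory MonObj AlgebraicGeometry
open Opposite Magnet Magnet.MonAct

noncomputable section

namespace Groth.Agent.Mag88

variable {S : Scheme.{u}} {M : Type} [AddCommGroup M] [AddGroup.FG M] {X U : Over S}
  (aX : MonAct (AMonS S M) X) (aU : MonAct (AMonS S M) U) (f : U ⟶ X) [Etale f.left]
  (hf : IsEquivariant aU aX f)

theorem isPullback_attrFace_of_faceLift {N Q : AddSubmonoid M} (hQ : IsFace N Q)
    (hlift : ∀ T, FaceLiftAt aX aU f hf hQ T) :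
    IsPullback (eqvHom.postcomp (subAct S M N) f hf) (attrFace aU hQ) (attrFace aX hQ)
      (eqvHom.postcomp (subAct S M Q) f hf) := by
  refine IsPullback.of_forall_isPullback_app fun T => ?_
  rw [Types.isPullback_iff]
  refine ⟨?_, fun φ φ' hh => faceLift_unique aX aU f hf hQ (T := T.unop) φ φ' hh.1 hh.2,
    fun y ψ hh => hlift T.unop y ψ hh⟩
  exact ConcreteCategory.hom_ext _ _ fun φ => Subtype.ext (Category.assoc _ _ _).symm

variable (Z : AddSubgroup M)

/-- The action restricted to `D(M/Z)`. -/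
abbrev qAct {Y : Over S} (a : MonAct (AMonS S M) Y) : MonAct (AMonS S (M ⧸ Z)) Y :=
  a.restrict (AMonS.map S (QuotientAddGroup.mk' Z))

/-- The fixed points of `D(M/Z)` in a relatively affine scheme are a closed subscheme. -/
theorem exists_fixed_closed [IsAffineHom U.hom] :
    ∃ (W' : Over S) (i' : W' ⟶ U) (e' : (fixedPsh (qAct Z aU)).RepresentableBy W'),
      IsClosedImmersion i'.left ∧
        ∀ (T : Over S) (w : T ⟶ W'), (fixedPshι (qAct Z aU)).app (op T) (e'.homEquiv w) = w ≫ i' := by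
  obtain ⟨e, he⟩ := exists_attr_iso_fixedPsh Z aU
  obtain ⟨W', i', eA, hi, hA⟩ := exists_representableBy_attr aU Z.toAddSubmonoid
  refine ⟨W', i', eA.ofIso e, hi, fun T w => ?_⟩
  exact (congr($(NatTrans.congr_app he (op T)) (eA.homEquiv w))).trans (hA T w)

/-- The base of an atlas: the attractor of the unit face. -/
theorem exists_atlas_base [Surjective f.left] (hfZ : IsEquivariant (qAct Z aU) (qAct Z aX) f)
    (hfpr : IsPullback (fixedPsh.map f hfZ) (fixedPshι (qAct Z aU)) (fixedPshι (qAct Z aX)) (yoneda.map f))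
    (hU : ∃ (W' : Over S) (i' : W' ⟶ U) (e' : (fixedPsh (qAct Z aU)).RepresentableBy W'),
      IsClosedImmersion i'.left ∧
        ∀ (T : Over S) (w : T ⟶ W'), (fixedPshι (qAct Z aU)).app (op T) (e'.homEquiv w) = w ≫ i') :
    ∃ (Zs W : Over S) (i : Zs ⟶ X) (i' : W ⟶ U) (c : W ⟶ Zs)
      (es : (attr aX Z.toAddSubmonoid).RepresentableBy Zs) (eW : (attr aU Z.toAddSubmonoid).RepresentableBy W),
      IsClosedImmersion i.left ∧ IsClosedImmersion i'.left ∧ IsPullback c i' i f ∧
      (∀ (T : Over S) (z : T ⟶ Zs), (attrToX aX Z.toAddSubmonoid).app (op T) (es.homEquiv z) = z ≫ i) ∧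
      (∀ (T : Over S) (z : T ⟶ W), (attrToX aU Z.toAddSubmonoid).app (op T) (eW.homEquiv z) = z ≫ i') ∧
      ∀ (T : Over S) (z : T ⟶ W),
        (eqvHom.postcomp (subAct S M Z.toAddSubmonoid) f hf).app (op T) (eW.homEquiv z) = es.homEquiv (z ≫ c) := by
  obtain ⟨Zs, i, es₀, hi, hes⟩ := FixedDescent.exists_closed_fixed (qAct Z aX) (qAct Z aU) f hfZ hfpr hU
  obtain ⟨W, i', eW₀, hi', heW⟩ := hU
  obtain ⟨eX, heX⟩ := exists_attr_iso_fixedPsh Z aX
  obtain ⟨eU, heU⟩ := exists_attr_iso_fixedPsh Z aU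
  have hinvX : ∀ (T : Over S) x, (attrToX aX Z.toAddSubmonoid).app (op T) (eX.inv.app (op T) x) =
      (fixedPshι (qAct Z aX)).app (op T) x := fun T x => by
    have := congr($(NatTrans.congr_app ((Iso.inv_comp_eq eX).2 heX.symm) (op T)) x)
    exact this
  have hinvU : ∀ (T : Over S) x, (attrToX aU Z.toAddSubmonoid).app (op T) (eU.inv.app (op T) x) =
      (fixedPshι (qAct Z aU)).app (op T) x := fun T x => by
    have := congr($(NatTrans.congr_app ((Iso.inv_comp_eq eU).2 heU.symm) (op T)) x)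
    exact this
  let c : W ⟶ Zs := es₀.homEquiv.symm ((fixedPsh.map f hfZ).app (op W) (eW₀.homEquiv (𝟙 W)))
  have hc : c ≫ i = i' ≫ f := by
    rw [← hes, Equiv.apply_symm_apply]
    exact congrArg (· ≫ f) ((heW W (𝟙 W)).trans (Category.id_comp _))
  haveI : Mono ((Over.forget S).map i) := inferInstanceAs (Mono i.left)
  haveI : Mono i := (Over.forget S).mono_of_mono_map this
  haveI : Mono ((Over.forget S).map i') := inferInstanceAs (Mono i'.left)
  haveI : Mono i' := (Over.forget S).mono_of_mono_map this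
  have hpb : IsPullback c i' i f := by
    have hex : ∀ s : PullbackCone i f, ∃ w : s.pt ⟶ W, w ≫ i' = s.snd := fun s => by
      obtain ⟨p, -, hp⟩ := ((Types.isPullback_iff _ _ _ _).1 (hfpr.app (op s.pt))).2.2 (es₀.homEquiv s.fst) s.snd
        ((hes _ _).trans s.condition)
      exact ⟨eW₀.homEquiv.symm p, by rw [← heW, Equiv.apply_symm_apply]; exact hp⟩
    choose w hw using hex
    refine ⟨⟨hc⟩, ⟨PullbackCone.IsLimit.mk _ w (fun s => ?_) hw fun s m _ hm => ?_⟩⟩
    · rw [← cancel_mono i, Category.assoc, hc, ← Category.assoc, hw, s.condition]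
    · rw [← cancel_mono i', hw, hm]
  refine ⟨Zs, W, i, i', c, es₀.ofIso eX.symm, eW₀.ofIso eU.symm, hi, hi', hpb,
    fun T z => (hinvX T _).trans (hes T z), fun T z => (hinvU T _).trans (heW T z), fun T z => ?_⟩
  have hinj : ∀ x y : (attr aX Z.toAddSubmonoid).obj (op T),
      (attrToX aX Z.toAddSubmonoid).app (op T) x = (attrToX aX Z.toAddSubmonoid).app (op T) y → x = y := fun x y h => by
    have h' : (fixedPshι (qAct Z aX)).app (op T) (eX.hom.app (op T) x) =
        (fixedPshι (qAct Z aX)).app (op T) (eX.hom.app (op T) y) :=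
      (congr($(NatTrans.congr_app heX (op T)) x)).trans (h.trans (congr($(NatTrans.congr_app heX (op T)) y)).symm)
    exact (eX.app (op T)).toEquiv.injective (Subtype.ext h')
  refine hinj _ _ ?_
  refine Eq.trans ?_ ((hinvX T _).trans (hes T (z ≫ c))).symm
  change lift (toUnit T ≫ η[AMonS S Z.toAddSubmonoid]) (𝟙 T) ≫ ((eU.inv.app (op T) (eW₀.homEquiv z)).1 ≫ f) = _
  rw [← Category.assoc, show lift (toUnit T ≫ η[AMonS S Z.toAddSubmonoid]) (𝟙 T) ≫ (eU.inv.app (op T) (eW₀.homEquiv z)).1 =
    z ≫ i' from (hinvU T _).trans (heW T z), Category.assoc, Category.assoc, hc]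

/-- The attractor of a magnet along an atlas. -/
theorem exists_atlas_attr {N Q : AddSubmonoid M} (hQ : IsFace N Q) (hlift : ∀ T, FaceLiftAt aX aU f hf hQ T)
    {Zs W V : Over S} (c : W ⟶ Zs) (hc : Groth.Agent.SpFP87.fppfSurj c.left) (es : (attr aX Q).RepresentableBy Zs)
    (eW : (attr aU Q).RepresentableBy W)
    (hcomp : ∀ (T : Over S) (z : T ⟶ W), (eqvHom.postcomp (subAct S M Q) f hf).app (op T) (eW.homEquiv z) =
      es.homEquiv (z ≫ c))
    (eV : (attr aU N).RepresentableBy V) (s : V ⟶ W) [IsAffineHom s.left]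
    (hs : ∀ (T : Over S) (z : T ⟶ V), eW.homEquiv (z ≫ s) = (attrFace aU hQ).app (op T) (eV.homEquiv z)) :
    ∃ (ZN : Over S) (j : ZN ⟶ Zs) (eN : (attr aX N).RepresentableBy ZN), IsAffineHom j.left ∧
      ∀ (T : Over S) (z : T ⟶ ZN), es.homEquiv (z ≫ j) = (attrFace aX hQ).app (op T) (eN.homEquiv z) := by
  let es' := Functor.representableByEquiv es
  let eW' := Functor.representableByEquiv eW
  let eV' := Functor.representableByEquiv eV
  have hsq : IsPullback (eV'.hom ≫ eqvHom.postcomp (subAct S M N) f hf) (yoneda.map s) (attrFace aX hQ ≫ es'.inv)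
      (yoneda.map c) := by
    refine IsPullback.of_iso (isPullback_attrFace_of_faceLift aX aU f hf hQ hlift) eV'.symm (Iso.refl _) eW'.symm es'.symm
      ?_ ?_ ?_ ?_
    · simp
    · rw [← cancel_epi eV'.hom, Iso.symm_hom, Iso.symm_hom, Iso.hom_inv_id_assoc, ← Category.assoc,
        Iso.comp_inv_eq]
      ext T z
      exact (hs T.unop z).symm
    · simp
    · rw [Iso.symm_hom, Iso.symm_hom, ← cancel_epi eW'.hom, Iso.hom_inv_id_assoc, ← Category.assoc,
        Iso.comp_inv_eq]
      ext T z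
      exact hcomp T.unop z
  obtain ⟨ZN, j, eN, hj, hjN⟩ := exists_representableBy_of_affine_cover (attr aX N)
    (isSheaf_eqvHom (AlgSp.J S) (subAct S M N) aX) (attrFace aX hQ ≫ es'.inv) c hc s _ hsq inferInstance
  refine ⟨ZN, j, eN, hj, fun T z => ?_⟩
  rw [← hjN]
  exact es.homEquiv.apply_symm_apply _

/-- The attractor maps of a relatively affine scheme are affine. -/
theorem exists_affine_attr_map [IsAffineHom U.hom] {N Q : AddSubmonoid M} (hQ : IsFace N Q) {W : Over S} (i' : W ⟶ U)
    [IsClosedImmersion i'.left] (eW : (attr aU Q).RepresentableBy W) :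
    ∃ (V : Over S) (iV : V ⟶ U) (eV : (attr aU N).RepresentableBy V) (s : V ⟶ W), IsClosedImmersion iV.left ∧
      (∀ (T : Over S) (z : T ⟶ V), (attrToX aU N).app (op T) (eV.homEquiv z) = z ≫ iV) ∧ IsAffineHom s.left ∧
      ∀ (T : Over S) (z : T ⟶ V), eW.homEquiv (z ≫ s) = (attrFace aU hQ).app (op T) (eV.homEquiv z) := by
  obtain ⟨V, iV, eV, hiV, hV⟩ := exists_representableBy_attr aU N
  let s : V ⟶ W := eW.homEquiv.symm ((attrFace aU hQ).app (op V) (eV.homEquiv (𝟙 V)))
  refine ⟨V, iV, eV, s, hiV, hV, ?_, fun T z => ?_⟩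
  · haveI : IsAffineHom (s.left ≫ W.hom) := by rw [Over.w s, ← Over.w iV]; infer_instance
    haveI : IsSeparated W.hom := by rw [← Over.w i']; infer_instance
    exact MorphismProperty.of_postcomp (W := @IsAffineHom) (W' := @IsSeparated) s.left W.hom inferInstance inferInstance
  · rw [eW.homEquiv_comp, Equiv.apply_symm_apply, ← nat_app (attrFace aU hQ) z, ← eV.homEquiv_comp,
      Category.comp_id]

theorem fppfSurj_of_isPullback [Surjective f.left] {Zs W : Over S} {i : Zs ⟶ X} {i' : W ⟶ U} {c : W ⟶ Zs}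
    (h : IsPullback c i' i f) : Groth.Agent.SpFP87.fppfSurj c.left := by
  haveI : Smooth f.left := inferInstance
  refine MorphismProperty.of_isPullback (P := Groth.Agent.SpFP87.fppfSurj) (h.map (Over.forget S)).flip ?_
  exact (Groth.Agent.SpFP87.fppfSurj_iff f.left).2 ⟨inferInstance, inferInstance, inferInstance⟩

end Groth.Agent.Mag88
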