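import Groth.Agent.Mag88.Atlas
import Groth.Agent.Mag88.Affine4

/-! Images of attractors along fixed-point-reflecting atlases. -/

universe u

set_option maxHeartbeats 400000
set_option backward.isDefEq.respectTransparency false
set_option backward.isDefEq.respectTransparency.types false
set_option linter.style.haveILetI false
set_option linter.unusedVariables false
set_option linter.unusedSectionVars false

open CategoryTheory CategoryTheory.Limits MonoidalCategory CartesianMonoidalCategory MonObj AlgebraicGeometry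
open Opposite Magnet Magnet.MonAct

noncomputable section

namespace Groth.Agent.Mag88

variable {S : Scheme.{u}} {M : Type} [AddCommGroup M] [AddGroup.FG M] {X U : Over S}
  (aX : MonAct (AMonS S M) X) (aU : MonAct (AMonS S M) U) (f : U ⟶ X) [Etale f.left]
  (hf : IsEquivariant aU aX f)

/-- The subgroup underlying the unit face. -/
def unitSubgroup (N : AddSubmonoid M) : AddSubgroup M :=
  { __ := unitFace N
    neg_mem' := fun {x} hx => by
      obtain ⟨hxN, y, hy, hxy⟩ := hx
      rw [show -x = y from neg_eq_of_add_eq_zero_right hxy]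
      exact ⟨hy, x, hxN, by rw [add_comm]; exact hxy⟩ }

theorem eq_unitFace {N : AddSubmonoid M} {Z : AddSubgroup M} (hZ : ∀ m, m ∈ Z ↔ (m ∈ N ∧ -m ∈ N)) :
    Z.toAddSubmonoid = unitFace N := by
  ext m
  refine (hZ m).trans ⟨fun h => ⟨h.1, -m, h.2, add_neg_cancel m⟩, fun h => ?_⟩
  obtain ⟨hm, y, hy, hxy⟩ := h
  exact ⟨hm, by rwa [show -m = y from neg_eq_of_add_eq_zero_right hxy]⟩

include hf in
/-- A point of an attractor lifts to the atlas over an fppf cover. -/
theorem exists_lift_attr [IsAffineHom U.hom] [Surjective f.left] (Z : AddSubgroup M)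
    (hfZ : IsEquivariant (qAct Z aU) (qAct Z aX) f)
    (hfpr : IsPullback (fixedPsh.map f hfZ) (fixedPshι (qAct Z aU)) (fixedPshι (qAct Z aX)) (yoneda.map f))
    {N : AddSubmonoid M} (hQ : IsFace N Z.toAddSubmonoid)
    (h : N.FG ∨ (IsSeparated X.hom ∧ LocallyOfFinitePresentation X.hom)) (T : Over S)
    (y : (attr aX N).obj (op T)) :
    ∃ (T' : Over S) (π : T' ⟶ T) (φ : (attr aU N).obj (op T')), Groth.Agent.SpFP87.fppfSurj π.left ∧
      (eqvHom.postcomp (subAct S M N) f hf).app (op T') φ = (attr aX N).map π.op y := by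
  obtain ⟨Zs, W, i, i', c, es, eW, -, -, hpb, -, -, hcomp⟩ :=
    exists_atlas_base aX aU f hf Z hfZ hfpr (exists_fixed_closed aU Z)
  let z0 : T ⟶ Zs := es.homEquiv.symm ((attrFace aX hQ).app (op T) y)
  refine ⟨pullback z0 c, pullback.fst z0 c, ?_⟩
  obtain ⟨φ, hφ, -⟩ := faceLiftAt aX aU f hf hQ h (pullback z0 c) ((attr aX N).map (pullback.fst z0 c).op y)
    (eW.homEquiv (pullback.snd z0 c)) (by
      rw [hcomp, nat_app (attrFace aX hQ), ← pullback.condition, es.homEquiv_comp, Equiv.apply_symm_apply])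
  exact ⟨φ, MorphismProperty.of_isPullback (P := Groth.Agent.SpFP87.fppfSurj)
    ((IsPullback.of_hasPullback z0 c).map (Over.forget S)).flip (fppfSurj_of_isPullback f hpb), hφ⟩

/-- Membership of the image of a magnet attractor is fppf local. -/
theorem mem_range_of_fppf [IsSeparated X.hom] (L : AddSubmonoid M) {T T' : Over S} (π : T' ⟶ T)
    (hπ : Groth.Agent.SpFP87.fppfSurj π.left) (x : T ⟶ X) (φ : (attr aX L).obj (op T'))
    (hφ : (attrToX aX L).app (op T') φ = π ≫ x) : ∃ ψ, (attrToX aX L).app (op T) ψ = x := by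
  have hR := Groth.Agent.SpFP87.generate_singleton_mem π hπ
  have hinj : ∀ (V : Over S), Function.Injective ((attrToX aX L).app (op V)) := fun V φ φ' e =>
    attrToX_injective aX L φ φ' e
  have hsh : ∀ (R : Sieve T), R ∈ AlgSp.J S T → Presieve.IsSheafFor (attr aX L) R.arrows := fun R hR =>
    (isSheaf_iff_isSheaf_of_type _ _).1 (isSheaf_eqvHom (AlgSp.J S) (subAct S M L) aX) R hR
  have hyon : ∀ (R : Sieve T), R ∈ AlgSp.J S T → Presieve.IsSheafFor (yoneda.obj X) R.arrows :=
    isSheaf_yoneda' (AlgSp.J S) X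
  let R : Sieve T := Sieve.generate (Presieve.singleton π)
  have hex : ∀ ⦃V : Over S⦄ (g : V ⟶ T), R g → ∃ φ, (attrToX aX L).app (op V) φ = g ≫ x := by
    rintro V g ⟨_, t, _, ⟨⟩, rfl⟩
    exact ⟨(attr aX L).map t.op φ,
      (nat_app (attrToX aX L) t φ).trans ((congrArg (t ≫ ·) hφ).trans (Category.assoc _ _ _).symm)⟩
  choose fam hfam using hex
  have hc : Presieve.FamilyOfElements.Compatible (P := attr aX L) (R := R.arrows) fam := by
    intro V₁ V₂ W g₁ g₂ f₁ f₂ h₁ h₂ e
    refine hinj W ((nat_app (attrToX aX L) g₁ _).trans ((congrArg (g₁ ≫ ·) (hfam f₁ h₁)).trans ?_))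
    refine Eq.trans ?_ ((congrArg (g₂ ≫ ·) (hfam f₂ h₂)).symm.trans (nat_app (attrToX aX L) g₂ _).symm)
    rw [← Category.assoc, ← Category.assoc, e]
  obtain ⟨ψ, hψ, -⟩ := hsh R hR fam hc
  refine ⟨ψ, (hyon R hR).isSeparatedFor.ext fun V g hg => ?_⟩
  exact (nat_app (attrToX aX L) g ψ).symm.trans
    ((congrArg ((attrToX aX L).app (op V)) (hψ g hg)).trans (hfam g hg))

include hf in
/-- Inclusions of images of attractors descend from the atlas. -/
theorem range_subset_of_atlas [IsAffineHom U.hom] [Surjective f.left] [IsSeparated X.hom]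
    [LocallyOfFinitePresentation X.hom] (N L : AddSubmonoid M) (Z : AddSubgroup M)
    (hZ : Z.toAddSubmonoid = unitFace N) (hfZ : IsEquivariant (qAct Z aU) (qAct Z aX) f)
    (hfpr : IsPullback (fixedPsh.map f hfZ) (fixedPshι (qAct Z aU)) (fixedPshι (qAct Z aX)) (yoneda.map f))
    (hU : ∀ T : Over S, Set.range (fun φ => (attrToX aU N).app (op T) φ) ⊆
      Set.range (fun φ => (attrToX aU L).app (op T) φ)) (T : Over S) :
    Set.range (fun φ => (attrToX aX N).app (op T) φ) ⊆ Set.range (fun φ => (attrToX aX L).app (op T) φ) := by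
  rintro _ ⟨y, rfl⟩
  obtain ⟨T', π, φ, hπ, hφ⟩ := exists_lift_attr aX aU f hf Z hfZ hfpr (hZ ▸ isFace_unitFace N)
    (Or.inr ⟨inferInstance, inferInstance⟩) T y
  obtain ⟨φL, hφL⟩ := hU T' ⟨φ, rfl⟩
  refine mem_range_of_fppf aX L π hπ _ ((eqvHom.postcomp (subAct S M L) f hf).app (op T') φL) ?_
  have key : ∀ (P : AddSubmonoid M) (χ : (attr aU P).obj (op T')),
      (attrToX aX P).app (op T') ((eqvHom.postcomp (subAct S M P) f hf).app (op T') χ) =
        (attrToX aU P).app (op T') χ ≫ f := fun P χ =>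
    (Category.assoc (lift (toUnit T' ≫ η[AMonS S P]) (𝟙 T')) χ.1 f).symm
  refine ((key L φL).trans ((congrArg (· ≫ f) hφL).trans (key N φ).symm)).trans ?_
  exact (congrArg ((attrToX aX N).app (op T')) hφ).trans (nat_app (attrToX aX N) π y)

theorem attrToX_attrMap {N L : AddSubmonoid M} (h : L ≤ N) (T : Over S) (φ : (attr aX L).obj (op T)) :
    (attrToX aX N).app (op T) ((attrMap aX h).app (op T) φ) = (attrToX aX L).app (op T) φ := by
  change lift (toUnit T ≫ η[AMonS S N]) (𝟙 T) ≫ (AMonS.map S (AddSubmonoid.inclusion h) ▷ T) ≫ φ.1 = _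
  rw [lift_whiskerRight_assoc, Category.assoc, IsMonHom.one_hom]
  rfl

end Groth.Agent.Mag88

namespace Groth.Agent.Mag88

open CategoryTheory CategoryTheory.Limits MonoidalCategory CartesianMonoidalCategory MonObj AlgebraicGeometry
open Opposite Magnet Magnet.MonAct

variable {S : Scheme.{u}} {M : Type} [AddCommGroup M] [AddGroup.FG M] {X U : Over S}
  (aX : MonAct (AMonS S M) X) (aU : MonAct (AMonS S M) U) (f : U ⟶ X) [Etale f.left]
  (hf : IsEquivariant aU aX f) [IsAffineHom U.hom] [Surjective f.left] [IsSeparated X.hom]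
  [LocallyOfFinitePresentation X.hom]

include hf in
/-- Finitely many weights govern the attractors of a scheme with an atlas. -/
theorem exists_weights_atlas [CompactSpace S] : ∃ D : Set M, D.Finite ∧ ∀ (N L : AddSubmonoid M) (Z : AddSubgroup M),
    Z.toAddSubmonoid = unitFace N → L ≤ N → AddSubmonoid.closure ((N : Set M) ∩ D) ≤ L →
    ∀ (hfZ : IsEquivariant (qAct Z aU) (qAct Z aX) f),
    IsPullback (fixedPsh.map f hfZ) (fixedPshι (qAct Z aU)) (fixedPshι (qAct Z aX)) (yoneda.map f) →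
    ∀ T : Over S, Set.range (fun φ => (attrToX aX N).app (op T) φ) =
      Set.range (fun φ => (attrToX aX L).app (op T) φ) := by
  haveI : LocallyOfFiniteType U.hom := by
    haveI : Smooth f.left := inferInstance
    rw [← Over.w f]
    infer_instance
  obtain ⟨D, hDf, hD⟩ := exists_weights aU
  refine ⟨D, hDf, fun N L Z hZ hLN hL hfZ hfpr T => Set.Subset.antisymm
    (range_subset_of_atlas aX aU f hf N L Z hZ hfZ hfpr (fun T' => ?_) T) ?_⟩
  · rw [range_attrToX_eq, range_attrToX_eq]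
    exact fun x hx => cond_mono aU hL ((hD N T' x).1 hx)
  · rintro _ ⟨φ, rfl⟩
    exact ⟨(attrMap aX hLN).app (op T) φ, attrToX_attrMap aX hLN T φ⟩

include hf in
theorem exists_fg_isIso_attrMap [CompactSpace S] (N : AddSubmonoid M) (Z : AddSubgroup M)
    (hZ : Z.toAddSubmonoid = unitFace N) (hfZ : IsEquivariant (qAct Z aU) (qAct Z aX) f)
    (hfpr : IsPullback (fixedPsh.map f hfZ) (fixedPshι (qAct Z aU)) (fixedPshι (qAct Z aX)) (yoneda.map f)) :
    ∃ (Nc : AddSubmonoid M) (h : Nc ≤ N), Nc.FG ∧ (∀ m : M, (m ∈ Nc ∧ -m ∈ Nc) ↔ (m ∈ N ∧ -m ∈ N)) ∧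
      IsIso (attrMap aX h) := by
  obtain ⟨D, hDf, hD⟩ := exists_weights_atlas aX aU f hf
  let L := AddSubmonoid.closure ((N : Set M) ∩ D) ⊔ Z.toAddSubmonoid
  have hLN : L ≤ N := sup_le (AddSubmonoid.closure_le.2 Set.inter_subset_left) (hZ ▸ (isFace_unitFace N).le)
  refine ⟨L, hLN, ?_, fun m => ⟨fun h => ⟨hLN h.1, hLN h.2⟩, fun h => ?_⟩, ?_⟩
  · refine AddSubmonoid.FG.sup ⟨(hDf.subset Set.inter_subset_right).toFinset, by rw [Set.Finite.coe_toFinset]⟩ ?_
    haveI : IsNoetherian ℤ M :=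
      haveI : Module.Finite ℤ M := Module.Finite.iff_addGroup_fg.2 inferInstance
      isNoetherian_of_isNoetherianRing_of_finite ℤ M
    have hfg : Z.FG := (Submodule.fg_iff_addSubgroup_fg _).1 (IsNoetherian.noetherian Z.toIntSubmodule)
    exact (AddSubgroup.fg_iff_addSubmonoid_fg Z).1 hfg
  · have hm : m ∈ Z.toAddSubmonoid := by rw [hZ]; exact ⟨h.1, -m, h.2, add_neg_cancel m⟩
    exact ⟨AddSubmonoid.mem_sup_right hm, AddSubmonoid.mem_sup_right (Z.neg_mem hm)⟩
  · rw [NatTrans.isIso_iff_isIso_app]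
    intro T
    rw [isIso_iff_bijective]
    refine ⟨attrMap_injective X aX hLN T.unop, fun y => ?_⟩
    have hr := hD N L Z hZ hLN le_sup_left hfZ hfpr T.unop
    obtain ⟨ψ, hψ⟩ : (attrToX aX N).app T y ∈ Set.range (fun φ => (attrToX aX L).app (op T.unop) φ) :=
      hr ▸ ⟨y, rfl⟩
    exact ⟨ψ, attrToX_injective aX N _ _ ((attrToX_attrMap aX hLN T.unop ψ).trans hψ)⟩

end Groth.Agent.Mag88
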