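import Groth.Agent.Mag88.Retract

/-! The fibres of a face projection of attractors are connected. -/

universe u

set_option backward.isDefEq.respectTransparency false
set_option backward.isDefEq.respectTransparency.types false
set_option linter.style.haveILetI false

open CategoryTheory CategoryTheory.Limits MonoidalCategory CartesianMonoidalCategory MonObj AlgebraicGeometry
open Opposite Magnet Magnet.MonAct

noncomputable section

namespace Groth.Agent.Mag88

variable {S : Scheme.{u}} {M : Type} [AddCommGroup M] [AddGroup.FG M] {N F : AddSubmonoid M} {X : Over S}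
  (a : MonAct (AMonS S M) X) {ZN Z0 : Over S} (eN : (attr a N).RepresentableBy ZN)
  (e0 : (attr a F).RepresentableBy Z0) (j : ZN ⟶ Z0) (hN : N.FG) (hF : IsFace N F)
  (hj : ∀ (T : Over S) (z : T ⟶ ZN), e0.homEquiv (z ≫ j) = (attrFace a hF).app (op T) (eN.homEquiv z))

include hj

/-- The section of the face projection. -/
theorem exists_attr_section : ∃ σ : Z0 ⟶ ZN, σ ≫ j = 𝟙 Z0 ∧
    ∀ (T : Over S) (z : T ⟶ Z0), eN.homEquiv (z ≫ σ) = (attrMap a hF.le).app (op T) (e0.homEquiv z) := by
  let σ : Z0 ⟶ ZN := eN.homEquiv.symm ((attrMap a hF.le).app (op Z0) (e0.homEquiv (𝟙 Z0)))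
  refine ⟨σ, e0.homEquiv.injective ?_, fun T z => ?_⟩
  · rw [hj, Equiv.apply_symm_apply]
    exact congr($(NatTrans.congr_app (attrMap_comp_attrFace a hF) (op Z0)) (e0.homEquiv (𝟙 Z0)))
  · rw [eN.homEquiv_comp, Equiv.apply_symm_apply, e0.homEquiv_eq z]
    exact (congr($((attrMap a hF.le).naturality z.op) (e0.homEquiv (𝟙 Z0)))).symm

include hN in
theorem connectedSpace_fibre (σ : Z0 ⟶ ZN) (hσ : σ ≫ j = 𝟙 Z0)
    (hσe : ∀ (T : Over S) (z : T ⟶ Z0), eN.homEquiv (z ≫ σ) = (attrMap a hF.le).app (op T) (e0.homEquiv z))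
    (K : Type u) [Field K] (k : Spec (CommRingCat.of K) ⟶ Z0.left) : ConnectedSpace ↥(pullback j.left k) := by
  obtain ⟨δ, hδn, hδ0, hδ1, -, hδr, -⟩ := exists_deformation' a hN hF
  let P := pullback j.left k
  have hσl : σ.left ≫ j.left = 𝟙 _ := congrArg CommaMorphism.left hσ
  let s0 : Spec (CommRingCat.of K) ⟶ P := pullback.lift (k ≫ σ.left) (𝟙 _) (by rw [Category.assoc, hσl]; simp)
  obtain ⟨κ⟩ : Nonempty (Spec (CommRingCat.of K) : Scheme.{u}) := inferInstanceAs (Nonempty (PrimeSpectrum K))
  have hsub : Subsingleton (Spec (CommRingCat.of K) : Scheme.{u}) := inferInstanceAs (Subsingleton (PrimeSpectrum K))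
  refine connectedSpace_iff_connectedComponent.2 ⟨s0 κ, Set.eq_univ_of_forall fun p => ?_⟩
  let L := P.residueField p
  let q : Spec L ⟶ P := P.fromSpecResidueField p
  obtain ⟨pt⟩ : Nonempty (Spec L : Scheme.{u}) := inferInstanceAs (Nonempty (PrimeSpectrum L))
  let A : CommRingCat.{u} := CommRingCat.of (Polynomial L)
  let C : L ⟶ A := CommRingCat.ofHom Polynomial.C
  let T : Over S := Over.mk ((q ≫ pullback.fst j.left k) ≫ ZN.hom)
  let z : T ⟶ ZN := Over.homMk (q ≫ pullback.fst j.left k) rfl
  let T' : Over S := Over.mk (Spec.map C ≫ T.hom)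
  let t : T' ⟶ T := Over.homMk (Spec.map C) rfl
  let c : Γ(T'.left, ⊤) := (Scheme.ΓSpecIso A).inv Polynomial.X
  let h : T' ⟶ ZN := eN.homEquiv.symm (δ T' ((attr a N).map t.op (eN.homEquiv z)) c)
  have hhj : h ≫ j = t ≫ z ≫ j := e0.homEquiv.injective (by
    rw [hj, Equiv.apply_symm_apply, hδr, ← eN.homEquiv_comp, ← hj, Category.assoc])
  let ev : L → (A ⟶ L) := fun r => CommRingCat.ofHom (Polynomial.evalRingHom r)
  have hev : ∀ r, C ≫ ev r = 𝟙 L := fun r => CommRingCat.hom_ext (RingHom.ext fun x => (Polynomial.eval_C : Polynomial.eval r (Polynomial.C x) = x))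
  let sec : L → (T ⟶ T') := fun r => Over.homMk (Spec.map (ev r)) (by
    change Spec.map (ev r) ≫ Spec.map C ≫ T.hom = T.hom
    rw [← Spec.map_comp_assoc, hev, Spec.map_id, Category.id_comp])
  have hst : ∀ r, sec r ≫ t = 𝟙 T := fun r => Over.OverMorphism.ext <| by
    change Spec.map (ev r) ≫ Spec.map C = 𝟙 _
    rw [← Spec.map_comp, hev, Spec.map_id]
  have hc : ∀ r, (sec r).left.appTop c = (Scheme.ΓSpecIso L).inv r := fun r => by
    refine Eq.trans ?_ (congrArg (Scheme.ΓSpecIso L).inv (Polynomial.eval_X (x := r)))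
    exact (congr($(Scheme.ΓSpecIso_inv_naturality (ev r)) (Polynomial.X : Polynomial L))).symm
  have hsec : ∀ r, eN.homEquiv (sec r ≫ h) = δ T (eN.homEquiv z) ((Scheme.ΓSpecIso L).inv r) := fun r => by
    rw [eN.homEquiv_comp, Equiv.apply_symm_apply, ← hδn, hc, ← eN.homEquiv_comp t, ← eN.homEquiv_comp,
      ← Category.assoc, hst, Category.id_comp]
  have h1 : sec 1 ≫ h = z := eN.homEquiv.injective (by rw [hsec, map_one, hδ1])
  have h0 : sec 0 ≫ h = z ≫ j ≫ σ := eN.homEquiv.injective (by
    rw [hsec, map_zero, hδ0, ← hj, ← hσe, Category.assoc])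
  have hqk : (q ≫ pullback.fst j.left k) ≫ j.left = (q ≫ pullback.snd j.left k) ≫ k := by
    rw [Category.assoc, Category.assoc, pullback.condition]
  let H : Spec A ⟶ P := pullback.lift h.left (Spec.map C ≫ q ≫ pullback.snd j.left k) (by
    have := congrArg CommaMorphism.left hhj
    change h.left ≫ j.left = Spec.map C ≫ (q ≫ pullback.fst j.left k) ≫ j.left at this
    rw [this, hqk, Category.assoc, Category.assoc, Category.assoc])
  have hH1 : Spec.map (ev 1) ≫ H = q := by
    apply pullback.hom_ext
    · rw [Category.assoc, pullback.lift_fst]; exact congrArg CommaMorphism.left h1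
    · rw [Category.assoc, pullback.lift_snd, ← Spec.map_comp_assoc, hev, Spec.map_id, Category.id_comp]
  have hH0 : Spec.map (ev 0) ≫ H = (q ≫ pullback.snd j.left k) ≫ s0 := by
    apply pullback.hom_ext
    · rw [Category.assoc, pullback.lift_fst, Category.assoc, pullback.lift_fst]
      refine (congrArg CommaMorphism.left h0).trans ?_
      change (q ≫ pullback.fst j.left k) ≫ j.left ≫ σ.left = _
      rw [← Category.assoc, hqk]
      simp only [Category.assoc]
    · rw [Category.assoc, pullback.lift_snd, ← Spec.map_comp_assoc, hev, Spec.map_id, Category.id_comp,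
        Category.assoc, pullback.lift_snd, Category.comp_id]
  haveI : PreconnectedSpace (Spec A : Scheme.{u}) :=
    inferInstanceAs (PreconnectedSpace (PrimeSpectrum (Polynomial L)))
  have hp1 : H (Spec.map (ev 1) pt) = p := by
    rw [← Scheme.Hom.comp_apply, hH1]; exact Scheme.fromSpecResidueField_apply _ _
  have hp0 : H (Spec.map (ev 0) pt) = s0 κ := by
    rw [← Scheme.Hom.comp_apply, hH0, Scheme.Hom.comp_apply]
    exact congrArg _ (hsub.elim _ _)
  exact ((isPreconnected_range H.continuous).subset_connectedComponent ⟨_, hp0⟩) ⟨_, hp1⟩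

include hN in
theorem connectedComponents_bijective :
    Function.Bijective (Continuous.connectedComponentsMap j.left.continuous) := by
  obtain ⟨σ, hσ, hσe⟩ := exists_attr_section a eN e0 j hF hj
  have hjs : ∀ y : Z0.left, j.left (σ.left y) = y := fun y => by
    rw [← Scheme.Hom.comp_apply, ← Over.comp_left, hσ]; rfl
  constructor
  · refine Function.LeftInverse.injective (g := Continuous.connectedComponentsMap σ.left.continuous) fun x => ?_
    obtain ⟨x, rfl⟩ := ConnectedComponents.surjective_coe x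
    refine ConnectedComponents.coe_eq_coe'.2 ?_
    let k := Z0.left.fromSpecResidueField (j.left x)
    obtain ⟨κ⟩ : Nonempty (Spec (Z0.left.residueField (j.left x)) : Scheme.{u}) :=
      inferInstanceAs (Nonempty (PrimeSpectrum (Z0.left.residueField (j.left x))))
    haveI := connectedSpace_fibre a eN e0 j hN hF hj σ hσ hσe (Z0.left.residueField (j.left x)) k
    obtain ⟨u₁, hu₁, -⟩ := Scheme.Pullback.exists_preimage_pullback (f := j.left) (g := k) x κ
      (Scheme.fromSpecResidueField_apply _ _).symm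
    obtain ⟨u₂, hu₂, -⟩ := Scheme.Pullback.exists_preimage_pullback (f := j.left) (g := k) (σ.left (j.left x)) κ
      ((hjs _).trans (Scheme.fromSpecResidueField_apply _ _).symm)
    exact (isPreconnected_range (pullback.fst j.left k).continuous).subset_connectedComponent
      ⟨u₁, hu₁⟩ ⟨u₂, hu₂⟩
  · intro y
    obtain ⟨y, rfl⟩ := ConnectedComponents.surjective_coe y
    exact ⟨ConnectedComponents.mk (σ.left y), congrArg ConnectedComponents.mk (hjs y)⟩

end Groth.Agent.Mag88
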