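import Groth.Agent.Mag88.InfApps
import Groth.Agent.LimTop61.LfpCrit

/-! Attractors preserve morphisms locally of finite presentation and smooth morphisms. -/

universe u

set_option maxHeartbeats 1000000
set_option backward.isDefEq.respectTransparency false
set_option backward.isDefEq.respectTransparency.types false
set_option linter.style.haveILetI false

open CategoryTheory CategoryTheory.Limits MonoidalCategory CartesianMonoidalCategory MonObj AlgebraicGeometry
open Opposite Magnet Magnet.MonAct

noncomputable section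

namespace Groth.Agent.Mag88

variable {S : Scheme.{u}} {I : Type u} [SmallCategory I] [IsCofiltered I] (D : I ⥤ Over S) (c : Cone D)

/-- A product with a fixed object of a cofiltered limit. -/
def isLimitTensor (B : Over S) (hc : IsLimit ((Over.forget S).mapCone c)) :
    IsLimit ((Over.forget S).mapCone ((tensorLeft B).mapCone c)) := by
  haveI : IsConnected I := IsCofiltered.isConnected I
  let i₀ : I := Classical.arbitrary I
  let m := fun (s : Cone ((D ⋙ tensorLeft B) ⋙ Over.forget S)) =>
    hc.lift ⟨s.pt, { app := fun i => s.π.app i ≫ (snd B (D.obj i)).left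
                     naturality := fun i i' φ => by
                       have h1 := s.w φ
                       have h2 := congrArg CommaMorphism.left (whiskerLeft_snd B (D.map φ))
                       simp only [Over.comp_left] at h2
                       change 𝟙 _ ≫ _ = (_ ≫ _) ≫ _
                       rw [Category.id_comp, ← h1, Category.assoc, Category.assoc]
                       exact congrArg (s.π.app i ≫ ·) h2 }⟩
  have hm : ∀ s i, m s ≫ (c.π.app i).left = s.π.app i ≫ (snd B (D.obj i)).left := fun s i => hc.fac _ i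
  have hconst : ∀ (s : Cone ((D ⋙ tensorLeft B) ⋙ Over.forget S)) (i : I),
      s.π.app i ≫ (fst B (D.obj i)).left = s.π.app i₀ ≫ (fst B (D.obj i₀)).left := fun s i => by
    refine constant_of_preserves_morphisms (fun i => s.π.app i ≫ (fst B (D.obj i)).left) (fun i i' φ => ?_) i i₀
    have h1 := s.w φ
    have h2 := congrArg CommaMorphism.left (whiskerLeft_fst B (D.map φ))
    simp only [Over.comp_left] at h2
    rw [← h1, Category.assoc]
    exact congrArg (s.π.app i ≫ ·) h2.symm
  have hcond : ∀ s : Cone ((D ⋙ tensorLeft B) ⋙ Over.forget S),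
      (s.π.app i₀ ≫ (fst B (D.obj i₀)).left) ≫ B.hom = m s ≫ c.pt.hom := fun s => by
    refine (Category.assoc _ _ _).trans ?_
    refine (congrArg (s.π.app i₀ ≫ ·) ((Over.w (fst B (D.obj i₀))).trans (Over.w (snd B (D.obj i₀))).symm)).trans ?_
    refine (Category.assoc _ _ _).symm.trans ?_
    refine (congrArg (· ≫ (D.obj i₀).hom) (hm s i₀)).symm.trans ?_
    exact (Category.assoc _ _ _).trans (congrArg (m s ≫ ·) (Over.w (c.π.app i₀)))
  refine ⟨fun s => pullback.lift _ (m s) (hcond s), fun s i => ?_, fun s n hn => ?_⟩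
  · apply pullback.hom_ext
    · have h2 := congrArg CommaMorphism.left (whiskerLeft_fst B (c.π.app i))
      simp only [Over.comp_left] at h2
      change (_ ≫ (B ◁ c.π.app i).left) ≫ (fst B (D.obj i)).left = _
      refine ((Category.assoc _ _ _).trans (congrArg _ h2)).trans ?_
      exact (pullback.lift_fst _ _ _).trans (hconst s i).symm
    · have h2 := congrArg CommaMorphism.left (whiskerLeft_snd B (c.π.app i))
      simp only [Over.comp_left] at h2
      change (_ ≫ (B ◁ c.π.app i).left) ≫ (snd B (D.obj i)).left = _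
      refine ((Category.assoc _ _ _).trans (congrArg _ h2)).trans ?_
      exact (pullback.lift_snd_assoc _ _ _ _).trans (hm s i)
  · apply pullback.hom_ext
    · rw [pullback.lift_fst, ← hn i₀]
      have h2 := congrArg CommaMorphism.left (whiskerLeft_fst B (c.π.app i₀))
      simp only [Over.comp_left] at h2
      change _ = (n ≫ (B ◁ c.π.app i₀).left) ≫ _
      exact ((Category.assoc _ _ _).trans (congrArg _ h2)).symm
    · rw [pullback.lift_snd]
      refine hc.hom_ext fun i => ?_
      change _ = m s ≫ (c.π.app i).left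
      rw [hm, ← hn i]
      have h2 := congrArg CommaMorphism.left (whiskerLeft_snd B (c.π.app i))
      simp only [Over.comp_left] at h2
      change _ = (n ≫ (B ◁ c.π.app i).left) ≫ _
      exact (Category.assoc _ _ _).trans ((Category.assoc _ _ _).trans (congrArg _ h2)).symm

variable {M : Type} [AddCommMonoid M] {X Y : Over S} (aX : MonAct (AMonS S M) X) (aY : MonAct (AMonS S M) Y)

/-- Points of attractors descend through cofiltered limits of affine schemes. -/
theorem attr_descend [∀ i, IsAffine (D.obj i).left] (hc : IsLimit ((Over.forget S).mapCone c))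
    (f : X ⟶ Y) (hf : IsEquivariant aX aY f) [LocallyOfFinitePresentation f.left] (N : AddSubmonoid M)
    (φ : (attr aX N).obj (op c.pt)) (y : ∀ i, (attr aY N).obj (op (D.obj i)))
    (hy : ∀ {i i'} (t : i ⟶ i'), (AMonS S N ◁ D.map t) ≫ (y i').1 = (y i).1)
    (hφ : ∀ i, φ.1 ≫ f = (AMonS S N ◁ c.π.app i) ≫ (y i).1) :
    ∃ (i : I) (ψ : (attr aX N).obj (op (D.obj i))),
      (AMonS S N ◁ c.π.app i) ≫ ψ.1 = φ.1 ∧ ψ.1 ≫ f = (y i).1 := by
  let B := AMonS S ↥N
  let G := AMonS S M
  let E := (D ⋙ tensorLeft B) ⋙ Over.forget S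
  let tE : E ⟶ (Functor.const I).obj Y.left :=
    { app := fun i => (y i).1.left
      naturality := fun i i' φ => by
        simp only [Functor.const_obj_map, Category.comp_id]
        exact congrArg CommaMorphism.left (hy φ) }
  let E₂ := ((D ⋙ tensorLeft B) ⋙ tensorLeft G) ⋙ Over.forget S
  let tE₂ : E₂ ⟶ (Functor.const I).obj Y.left :=
    { app := fun i => (((subAct S M N).prod (trivial G (D.obj i))).act ≫ (y i).1).left
      naturality := fun i i' φ => by
        simp only [Functor.const_obj_map, Category.comp_id]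
        exact congrArg CommaMorphism.left ((prod_trivial_act_whiskerLeft_assoc (subAct S M N) (D.map φ) _).symm.trans
          (congrArg (_ ≫ ·) (hy φ))) }
  haveI hA : ∀ i, IsAffine (E.obj i) := fun i => isAffine_amonS_tensor _ _
  haveI hA₂ : ∀ i, IsAffine (E₂.obj i) := fun i => by
    haveI : IsAffine ((D ⋙ tensorLeft B).obj i).left := hA i
    exact isAffine_amonS_tensor _ _
  haveI : ∀ i, CompactSpace (E.obj i) := fun i => by haveI := hA i; infer_instance
  haveI : ∀ i, QuasiSeparatedSpace (E.obj i) := fun i => by haveI := hA i; infer_instance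
  haveI : ∀ i, CompactSpace (E₂.obj i) := fun i => by haveI := hA₂ i; infer_instance
  haveI : ∀ {i i'} (φ : i ⟶ i'), IsAffineHom (E.map φ) := fun {i i'} φ => by
    haveI := hA i; haveI := hA i'; infer_instance
  haveI : ∀ {i i'} (φ : i ⟶ i'), IsAffineHom (E₂.map φ) := fun {i i'} φ => by
    haveI := hA₂ i; haveI := hA₂ i'; infer_instance
  obtain ⟨i, g, hg, hgf⟩ := Scheme.exists_π_app_comp_eq_of_locallyOfFinitePresentation E tE f.left
    ((Over.forget S).mapCone ((tensorLeft B).mapCone c)) (isLimitTensor D c B hc) φ.1.left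
    (by ext i : 2; exact (congrArg CommaMorphism.left (hφ i)).symm)
  let ψ : B ⊗ D.obj i ⟶ X := Over.homMk g (by
    rw [← Over.w f, reassoc_of% hgf]; exact Over.w (y i).1)
  have hψ : (B ◁ c.π.app i) ≫ ψ = φ.1 := Over.OverMorphism.ext hg
  have hψf : ψ ≫ f = (y i).1 := Over.OverMorphism.ext hgf
  let u : G ⊗ (B ⊗ D.obj i) ⟶ X := ((subAct S M N).prod (trivial G (D.obj i))).act ≫ ψ
  let v : G ⊗ (B ⊗ D.obj i) ⟶ X := (G ◁ ψ) ≫ aX.act
  have huv : (G ◁ (B ◁ c.π.app i)) ≫ u = (G ◁ (B ◁ c.π.app i)) ≫ v := by
    refine (prod_trivial_act_whiskerLeft_assoc (subAct S M N) (c.π.app i) ψ).symm.trans ?_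
    refine (congrArg (_ ≫ ·) hψ).trans (φ.2.trans ?_)
    exact (congrArg (fun z => (G ◁ z) ≫ aX.act) hψ.symm).trans (MonoidalCategory.whiskerLeft_comp_assoc _ _ _ _)
  have hu : u ≫ f = ((subAct S M N).prod (trivial G (D.obj i))).act ≫ (y i).1 := by
    rw [Category.assoc, hψf]
  have hv : v ≫ f = ((subAct S M N).prod (trivial G (D.obj i))).act ≫ (y i).1 := by
    rw [(y i).2, Category.assoc, hf, ← MonoidalCategory.whiskerLeft_comp_assoc, hψf]
  obtain ⟨k, t, ht⟩ := Scheme.exists_hom_comp_eq_comp_of_locallyOfFiniteType E₂ tE₂ f.left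
    ((Over.forget S).mapCone ((tensorLeft G).mapCone ((tensorLeft B).mapCone c)))
    (isLimitTensor (D ⋙ tensorLeft B) ((tensorLeft B).mapCone c) G (isLimitTensor D c B hc))
    u.left v.left (congrArg CommaMorphism.left hu).symm (congrArg CommaMorphism.left hv).symm
    (congrArg CommaMorphism.left huv)
  refine ⟨k, ⟨(B ◁ D.map t) ≫ ψ, ?_⟩, ?_, ?_⟩
  · unfold IsEquivariant
    rw [prod_trivial_act_whiskerLeft_assoc, MonoidalCategory.whiskerLeft_comp, Category.assoc]
    exact Over.OverMorphism.ext ht
  · rw [← MonoidalCategory.whiskerLeft_comp_assoc, c.w, hψ]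
  · rw [Category.assoc, hψf, hy]

section Smooth

omit [SmallCategory I] [IsCofiltered I]

variable {M : Type} [AddCommGroup M] {X Y : Over S} (aX : MonAct (AMonS S M) X) (aY : MonAct (AMonS S M) Y)
  (f : X ⟶ Y) (hf : IsEquivariant aX aY f) (N : AddSubmonoid M) {ZX ZY : Over S}
  (eX : (attr aX N).RepresentableBy ZX) (eY : (attr aY N).RepresentableBy ZY) (j : ZX ⟶ ZY)
  (hj : ∀ (T : Over S) (z : T ⟶ ZX), eY.homEquiv (z ≫ j) =
    (eqvHom.postcomp (subAct S M N) f hf).app (op T) (eX.homEquiv z))

include hj in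
theorem coe_comp_repr {T T' : Over S} (k : T' ⟶ T) (z : T ⟶ ZY) :
    (eY.homEquiv (k ≫ z)).1 = (AMonS S N ◁ k) ≫ (eY.homEquiv z).1 := by
  have _ := hj
  rw [eY.homEquiv_comp]
  rfl

include hj in
theorem locallyOfFinitePresentation_attrPostcomp [LocallyOfFinitePresentation f.left] :
    LocallyOfFinitePresentation j.left := by
  refine Groth.Agent.LimTop61.locallyOfFinitePresentation_of_lift j.left fun U hU J _ _ _ D t c hc hD g hg => ?_
  let DS : Jᵒᵖ ⥤ Over S :=
    { obj := fun i => Over.mk (t.app i ≫ U.ι ≫ ZY.hom)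
      map := fun {i i'} φ => Over.homMk (D.map φ) (by
        change D.map φ ≫ t.app i' ≫ _ = t.app i ≫ _
        rw [← Category.assoc, t.naturality]
        simp) }
  let cS : Cone DS :=
    { pt := Over.mk (g ≫ ZX.hom)
      π :=
        { app := fun i => Over.homMk (c.π.app i) (by
            change c.π.app i ≫ t.app i ≫ U.ι ≫ ZY.hom = g ≫ ZX.hom
            rw [← Over.w j, ← Category.assoc g, hg i]
            simp [Category.assoc])
          naturality := fun i i' φ => Over.OverMorphism.ext (c.π.naturality φ) } }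
  haveI : ∀ i, IsAffine (DS.obj i).left := hD
  have hcS : IsLimit ((Over.forget S).mapCone cS) := hc
  let zY : ∀ i, DS.obj i ⟶ ZY := fun i => Over.homMk (t.app i ≫ U.ι) (Category.assoc _ _ _)
  let z : cS.pt ⟶ ZX := Over.homMk g rfl
  obtain ⟨i, ψ, hψ, hψf⟩ := attr_descend DS cS aX aY hcS f hf N (eX.homEquiv z) (fun i => eY.homEquiv (zY i))
    (fun {i i'} φ => by
      rw [← coe_comp_repr aX aY f hf N eX eY j hj]
      congr 2
      apply Over.OverMorphism.ext
      change D.map φ ≫ t.app i' ≫ U.ι = t.app i ≫ U.ι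
      rw [← Category.assoc, t.naturality]
      simp)
    (fun i => by
      rw [← coe_comp_repr aX aY f hf N eX eY j hj]
      refine (congrArg Subtype.val (hj _ z)).symm.trans ?_
      congr 2
      exact Over.OverMorphism.ext (hg i))
  refine ⟨i, (eX.homEquiv.symm ψ).left, ?_, ?_⟩
  · have : eX.homEquiv.symm ψ ≫ j = zY i := eY.homEquiv.injective (by
      rw [hj, Equiv.apply_symm_apply]
      exact Subtype.ext hψf)
    exact congrArg CommaMorphism.left this
  · have : cS.π.app i ≫ eX.homEquiv.symm ψ = z := eX.homEquiv.injective (by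
      rw [eX.homEquiv_comp, Equiv.apply_symm_apply]
      exact Subtype.ext hψ)
    exact congrArg CommaMorphism.left this

include hj in
theorem smooth_attrPostcomp [Smooth f.left] : Smooth j.left := by
  obtain ⟨hlfp, hfs⟩ := (Groth.Agent.S1488.result f.left).1 inferInstance
  refine (Groth.Agent.S1488.result j.left).2 ⟨locallyOfFinitePresentation_attrPostcomp aX aY f hf N eX eY j hj, ?_⟩
  intro A _ J hJ a b hab
  let str : Spec (CommRingCat.of A) ⟶ S := b ≫ ZY.hom
  let q : CommRingCat.of A ⟶ CommRingCat.of (A ⧸ J) := CommRingCat.ofHom (Ideal.Quotient.mk J)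
  let za : Over.mk (Spec.map q ≫ str) ⟶ ZX := Over.homMk a (by
    refine (congrArg (a ≫ ·) (Over.w j)).symm.trans ?_
    exact ((Category.assoc _ _ _).symm.trans (congrArg (· ≫ ZY.hom) hab.symm)).trans (Category.assoc _ _ _))
  let zb : Over.mk str ⟶ ZY := Over.homMk b rfl
  let sq : Over.mk (Spec.map q ≫ str) ⟶ Over.mk str := Over.homMk (Spec.map q) rfl
  have hz : za ≫ j = sq ≫ zb := Over.OverMorphism.ext hab.symm
  obtain ⟨l, hl₁, hl₂⟩ := attr_postcomp_hasLift aX aY f hf hfs N str q Ideal.Quotient.mk_surjective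
    (fun x y hx hy => by
      have h2 : x * y ∈ J * J := Ideal.mul_mem_mul (Ideal.Quotient.eq_zero_iff_mem.1 hx) (Ideal.Quotient.eq_zero_iff_mem.1 hy)
      rw [← pow_two, hJ] at h2
      exact h2)
    (eX.homEquiv za) (eY.homEquiv zb) (by
      refine (congrArg Subtype.val (hj _ za)).symm.trans ?_
      rw [hz, coe_comp_repr aX aY f hf N eX eY j hj])
  refine ⟨(eX.homEquiv.symm l).left, ?_, ?_⟩
  · have : sq ≫ eX.homEquiv.symm l = za := eX.homEquiv.injective (by
      rw [eX.homEquiv_comp, Equiv.apply_symm_apply]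
      exact Subtype.ext hl₁)
    exact congrArg CommaMorphism.left this
  · have : eX.homEquiv.symm l ≫ j = zb := eY.homEquiv.injective (by
      rw [hj, Equiv.apply_symm_apply]
      exact Subtype.ext hl₂)
    exact congrArg CommaMorphism.left this

end Smooth

end Groth.Agent.Mag88
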