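import Groth.Agent.Mag88.Unram
import Groth.Agent.S0433

/-! Averaging over a diagonalizable group of square-zero deformations of invariant maps. -/

universe u

set_option backward.isDefEq.respectTransparency false
set_option backward.isDefEq.respectTransparency.types false

open CategoryTheory CategoryTheory.Limits AlgebraicGeometry

noncomputable section

namespace Groth.Agent.Mag88

variable {R R₀ : CommRingCat.{u}} (q : R ⟶ R₀) (M : Type) [AddCommMonoid M]

local notation "AM" => MonoidAlgebra R (Multiplicative M)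

/-- The elements of `R[M]` whose coefficients outside degree zero lie in the kernel of `q`. -/
def avgRing : Subring (MonoidAlgebra R (Multiplicative M)) :=
  ((algebraMap R₀ (MonoidAlgebra R₀ (Multiplicative M))).range).comap
    (MonoidAlgebra.mapRingHom (Multiplicative M) q.hom)

variable {q M}

theorem coeff_algebraMap_of_ne {A : Type*} [CommRing A] (r : A) {m : Multiplicative M} (hm : m ≠ 1) :
    (algebraMap A (MonoidAlgebra A (Multiplicative M)) r).coeff m = 0 := by
  classical
  simp [MonoidAlgebra.coe_algebraMap, Finsupp.single_apply, Ne.symm hm]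

theorem coeff_algebraMap_one {A : Type*} [CommRing A] (r : A) :
    (algebraMap A (MonoidAlgebra A (Multiplicative M)) r).coeff 1 = r := by
  simp [MonoidAlgebra.coe_algebraMap]

theorem mem_avgRing {x : AM} : x ∈ avgRing q M ↔ ∀ m, m ≠ 1 → q (x.coeff m) = 0 := by
  classical
  constructor
  · rintro ⟨r, hr⟩ m hm
    have := congrArg (fun t => MonoidAlgebra.coeff t m) hr
    simp only [coeff_algebraMap_of_ne r hm, MonoidAlgebra.coeff_mapRingHom] at this
    exact this.symm
  · intro h
    refine ⟨q (x.coeff 1), MonoidAlgebra.ext (Finsupp.ext fun m => ?_)⟩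
    by_cases hm : m = 1
    · subst hm
      rw [coeff_algebraMap_one, MonoidAlgebra.coeff_mapRingHom]
    · rw [coeff_algebraMap_of_ne _ hm, MonoidAlgebra.coeff_mapRingHom]
      exact (h m hm).symm

theorem mapRingHom_eq_of_mem {x : AM} (hx : x ∈ avgRing q M) :
    MonoidAlgebra.mapRingHom (Multiplicative M) q.hom x = algebraMap R₀ _ (q (x.coeff 1)) := by
  obtain ⟨r, hr⟩ := hx
  rw [← hr]
  congr 1
  have := congrArg (fun t => MonoidAlgebra.coeff t 1) hr
  simpa [coeff_algebraMap_one] using this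

variable (q M)

/-- The coefficient at zero, a ring map on `avgRing` when `q` has square-zero kernel. -/
def avgProj (hsq : ∀ x y, q x = 0 → q y = 0 → x * y = 0) : avgRing q M →+* R where
  toFun c := c.1.coeff 1
  map_one' := MonoidAlgebra.coeff_one_one
  map_zero' := by simp
  map_add' x y := by simp
  map_mul' x y := by
    classical
    have hj : ∀ c : avgRing q M,
        MonoidAlgebra.mapRingHom (Multiplicative M) q.hom (c.1 - algebraMap R AM (c.1.coeff 1)) = 0 := fun c => by
      rw [map_sub, mapRingHom_eq_of_mem c.2, sub_eq_zero]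
      simp [MonoidAlgebra.coe_algebraMap]
    have h0 := mul_eq_zero_of_mapRingHom q M hsq _ _ (hj x) (hj y)
    have e : (x * y).1 = algebraMap R AM (x.1.coeff 1) * y.1 + algebraMap R AM (y.1.coeff 1) * x.1
        - algebraMap R AM (x.1.coeff 1) * algebraMap R AM (y.1.coeff 1) := by
      rw [← sub_eq_zero, ← h0, Subring.coe_mul]
      ring
    show (x * y).1.coeff 1 = _
    rw [e, ← map_mul]
    simp only [MonoidAlgebra.coeff_sub, MonoidAlgebra.coeff_add, Finsupp.sub_apply, Finsupp.add_apply,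
      coeff_algebraMap_one, ← Algebra.smul_def, MonoidAlgebra.coeff_smul, Finsupp.smul_apply, smul_eq_mul]
    ring

/-- `avgRing` as a ring. -/
abbrev avgObj : CommRingCat.{u} := CommRingCat.of (avgRing q M)

/-- The inclusion. -/
abbrev avgIncl : avgObj q M ⟶ CommRingCat.of AM := CommRingCat.ofHom (avgRing q M).subtype

/-- The constants. -/
abbrev avgConst : R ⟶ avgObj q M :=
  CommRingCat.ofHom ((algebraMap R AM).codRestrict (avgRing q M) fun r =>
    mem_avgRing.2 fun m hm => by rw [coeff_algebraMap_of_ne r hm, map_zero])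

/-- The reduction. -/
abbrev avgBase (hsq : ∀ x y, q x = 0 → q y = 0 → x * y = 0) : avgObj q M ⟶ R₀ :=
  CommRingCat.ofHom (avgProj q M hsq) ≫ q

/-- The reduced algebra map. -/
abbrev redIncl : R₀ ⟶ CommRingCat.of (MonoidAlgebra R₀ (Multiplicative M)) :=
  CommRingCat.ofHom (algebraMap R₀ _)

/-- Reduction of monoid algebras. -/
abbrev redMap : CommRingCat.of AM ⟶ CommRingCat.of (MonoidAlgebra R₀ (Multiplicative M)) :=
  CommRingCat.ofHom (MonoidAlgebra.mapRingHom (Multiplicative M) q.hom)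

variable (hqs : Function.Surjective q) (hsq : ∀ x y, q x = 0 → q y = 0 → x * y = 0)

theorem avgIncl_redMap : avgIncl q M ≫ redMap q M = avgBase q M hsq ≫ redIncl M := by
  refine CommRingCat.hom_ext (RingHom.ext fun c => ?_)
  exact mapRingHom_eq_of_mem c.2

include hqs in
theorem isPushout_avg :
    IsPushout (Spec.map (redMap q M)) (Spec.map (redIncl (R₀ := R₀) M)) (Spec.map (avgIncl q M))
      (Spec.map (avgBase q M hsq)) := by
  have hp : IsPullback (avgBase q M hsq) (avgIncl q M) (redIncl M) (redMap q M) := by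
    refine IsPullback.of_map (forget CommRingCat) (avgIncl_redMap q M hsq).symm
      ((Types.isPullback_iff _ _ _ _).2 ⟨?_, ?_, ?_⟩)
    · rw [← Functor.map_comp, ← avgIncl_redMap q M hsq, Functor.map_comp]
    · intro x y h
      exact Subtype.ext h.2
    · intro r x h
      have h' : algebraMap R₀ (MonoidAlgebra R₀ (Multiplicative M)) r =
          MonoidAlgebra.mapRingHom (Multiplicative M) q.hom x := h
      refine ⟨⟨x, r, h'⟩, ?_, rfl⟩
      have := congrArg (fun t => MonoidAlgebra.coeff t 1) h'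
      simp only [coeff_algebraMap_one, MonoidAlgebra.coeff_mapRingHom] at this
      exact this.symm
  refine IsPushout.of_iso (Groth.Agent.S0433.result (MonoidAlgebra.mapRingHom (Multiplicative M) q.hom)
    (mapRingHom_surjective q M hqs) (algebraMap R₀ (MonoidAlgebra R₀ (Multiplicative M)))) (Iso.refl _) (Iso.refl _)
      (Iso.refl _) (Scheme.Spec.mapIso hp.isoPullback.op) ?_ ?_ ?_ ?_
  · exact (Category.comp_id _).trans (Category.id_comp _).symm
  · exact (Category.comp_id _).trans (Category.id_comp _).symm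
  · show Spec.map _ ≫ Spec.map hp.isoPullback.hom = 𝟙 _ ≫ Spec.map _
    rw [Category.id_comp, ← Spec.map_comp, hp.isoPullback_hom_snd]
  · show Spec.map _ ≫ Spec.map hp.isoPullback.hom = 𝟙 _ ≫ Spec.map _
    rw [Category.id_comp, ← Spec.map_comp, hp.isoPullback_hom_fst]

variable {X Y : Scheme.{u}}

include hqs hsq in
theorem avg_ext {h₁ h₂ : Spec (avgObj q M) ⟶ X} (e : Spec.map (avgIncl q M) ≫ h₁ = Spec.map (avgIncl q M) ≫ h₂) :
    h₁ = h₂ := by
  refine (isPushout_avg q M hqs hsq).hom_ext e ?_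
  have hw : Spec.map (redMap q M) ≫ Spec.map (avgIncl q M) = Spec.map (redIncl (R₀ := R₀) M) ≫ Spec.map (avgBase q M hsq) :=
    (isPushout_avg q M hqs hsq).w
  let ε : CommRingCat.of (MonoidAlgebra R₀ (Multiplicative M)) ⟶ R₀ :=
    CommRingCat.ofHom (MonoidAlgebra.lift R₀ R₀ (Multiplicative M) 1).toRingHom
  have hε : Spec.map ε ≫ Spec.map (redIncl (R₀ := R₀) M) = 𝟙 _ := by
    rw [← Spec.map_comp, show redIncl (R₀ := R₀) M ≫ ε = 𝟙 _ from
      CommRingCat.hom_ext (RingHom.ext fun r => (MonoidAlgebra.lift R₀ R₀ (Multiplicative M) 1).commutes r), Spec.map_id]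
  rw [← Category.id_comp (Spec.map (avgBase q M hsq) ≫ h₁), ← hε, Category.assoc, ← reassoc_of% hw, e,
    reassoc_of% hw, reassoc_of% hε]

/-- `l` is the average of `h`. -/
def IsAvg (h : Spec (CommRingCat.of AM) ⟶ X) (l : Spec R ⟶ X) : Prop :=
  ∃ h' : Spec (avgObj q M) ⟶ X, Spec.map (avgIncl q M) ≫ h' = h ∧
    Spec.map (CommRingCat.ofHom (avgProj q M hsq)) ≫ h' = l

include hqs in
theorem exists_isAvg (h : Spec (CommRingCat.of AM) ⟶ X) (x₀ : Spec R₀ ⟶ X)
    (hh : Spec.map (redMap q M) ≫ h = Spec.map (redIncl M) ≫ x₀) : ∃ l, IsAvg q M hsq h l :=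
  ⟨_, (isPushout_avg q M hqs hsq).desc h x₀ hh, (isPushout_avg q M hqs hsq).inl_desc _ _ _, rfl⟩

variable {q M hsq}

include hqs in
theorem IsAvg.unique {h : Spec (CommRingCat.of AM) ⟶ X} {l₁ l₂ : Spec R ⟶ X} (h₁ : IsAvg q M hsq h l₁)
    (h₂ : IsAvg q M hsq h l₂) : l₁ = l₂ := by
  obtain ⟨a, ha, rfl⟩ := h₁
  obtain ⟨b, hb, rfl⟩ := h₂
  rw [avg_ext q M hqs hsq (ha.trans hb.symm)]

theorem IsAvg.comp {h : Spec (CommRingCat.of AM) ⟶ X} {l : Spec R ⟶ X} (H : IsAvg q M hsq h l) (k : X ⟶ Y) :
    IsAvg q M hsq (h ≫ k) (l ≫ k) := by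
  obtain ⟨a, rfl, rfl⟩ := H
  exact ⟨a ≫ k, (Category.assoc _ _ _).symm, (Category.assoc _ _ _).symm⟩

theorem IsAvg.const (hsq : ∀ x y, q x = 0 → q y = 0 → x * y = 0) (l : Spec R ⟶ X) :
    IsAvg q M hsq (Spec.map (CommRingCat.ofHom (algebraMap R AM)) ≫ l) l := by
  refine ⟨Spec.map (avgConst q M) ≫ l, ?_, ?_⟩
  · rw [← Spec.map_comp_assoc]
    rfl
  · rw [← Spec.map_comp_assoc, show avgConst q M ≫ CommRingCat.ofHom (avgProj q M hsq) = 𝟙 _ from
      CommRingCat.hom_ext (RingHom.ext fun r => coeff_algebraMap_one r), Spec.map_id]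
    exact Category.id_comp l

theorem IsAvg.baseChange {R' R₀' : CommRingCat.{u}} {q' : R' ⟶ R₀'} (hsq' : ∀ x y, q' x = 0 → q' y = 0 → x * y = 0)
    (φ : R ⟶ R') (φ₀ : R₀ ⟶ R₀') (hφ : φ ≫ q' = q ≫ φ₀)
    {h : Spec (CommRingCat.of AM) ⟶ X} {l : Spec R ⟶ X} (H : IsAvg q M hsq h l) :
    IsAvg q' M hsq' (Spec.map (CommRingCat.ofHom (MonoidAlgebra.mapRingHom (Multiplicative M) φ.hom)) ≫ h)
      (Spec.map φ ≫ l) := by
  obtain ⟨a, rfl, rfl⟩ := H
  let χ : avgObj q M ⟶ avgObj q' M := CommRingCat.ofHom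
    (((MonoidAlgebra.mapRingHom (Multiplicative M) φ.hom).comp (avgRing q M).subtype).codRestrict (avgRing q' M)
      fun c => mem_avgRing.2 fun m hm => by
        rw [RingHom.comp_apply, MonoidAlgebra.coeff_mapRingHom]
        change (φ ≫ q') _ = 0
        rw [hφ, CommRingCat.comp_apply]
        exact (congrArg φ₀ (mem_avgRing.1 c.2 m hm)).trans (map_zero _))
  refine ⟨Spec.map χ ≫ a, ?_, ?_⟩
  · rw [← Spec.map_comp_assoc, ← Spec.map_comp_assoc]
    rfl
  · rw [← Spec.map_comp_assoc, ← Spec.map_comp_assoc]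
    congr 2

/-- Rescaling of the monomials by a character. -/
def twist {A : Type*} [CommRing A] (c : Multiplicative M →* A) :
    MonoidAlgebra A (Multiplicative M) →+* MonoidAlgebra A (Multiplicative M) :=
  (MonoidAlgebra.lift A (MonoidAlgebra A (Multiplicative M)) (Multiplicative M)
    { toFun := fun m => MonoidAlgebra.single m (c m)
      map_one' := by rw [map_one, MonoidAlgebra.one_def]
      map_mul' := fun m m' => by rw [map_mul, MonoidAlgebra.single_mul_single] }).toRingHom

theorem coeff_twist {A : Type*} [CommRing A] (c : Multiplicative M →* A) (x : MonoidAlgebra A (Multiplicative M))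
    (m : Multiplicative M) : (twist c x).coeff m = c m * x.coeff m := by
  classical
  induction x using MonoidAlgebra.induction_linear with
  | zero => simp
  | add a b ha hb => rw [map_add, MonoidAlgebra.coeff_add, Finsupp.add_apply, ha, hb, MonoidAlgebra.coeff_add,
      Finsupp.add_apply, mul_add]
  | single n r =>
    simp only [twist, AlgHom.toRingHom_eq_coe, RingHom.coe_coe, MonoidAlgebra.lift_single, MonoidHom.coe_mk,
      OneHom.coe_mk, MonoidAlgebra.smul_single, MonoidAlgebra.coeff_single, Finsupp.single_apply, smul_eq_mul]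
    split_ifs with e
    · subst e; ring
    · simp

theorem IsAvg.twist (c : Multiplicative M →* R) {h : Spec (CommRingCat.of AM) ⟶ X} {l : Spec R ⟶ X}
    (H : IsAvg q M hsq h l) : IsAvg q M hsq (Spec.map (CommRingCat.ofHom (twist c)) ≫ h) l := by
  obtain ⟨a, rfl, rfl⟩ := H
  let χ : avgObj q M ⟶ avgObj q M := CommRingCat.ofHom
    (((Mag88.twist c).comp (avgRing q M).subtype).codRestrict (avgRing q M)
      fun x => mem_avgRing.2 fun m hm => by
        rw [RingHom.comp_apply, coeff_twist, map_mul]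
        exact (congrArg (_ * ·) (mem_avgRing.1 x.2 m hm)).trans (mul_zero _))
  refine ⟨Spec.map χ ≫ a, ?_, ?_⟩
  · rw [← Spec.map_comp_assoc, ← Spec.map_comp_assoc]
    rfl
  · rw [← Spec.map_comp_assoc]
    congr 2
    refine CommRingCat.hom_ext (RingHom.ext fun x => ?_)
    exact (coeff_twist c _ _).trans (by rw [map_one, one_mul]; rfl)

include hqs in
/-- Averages of two maps agreeing over a third scheme form the average of the pair. -/
theorem IsAvg.pullbackLift {Z : Scheme.{u}} {a : X ⟶ Z} {b : Y ⟶ Z} {h₁ : Spec (CommRingCat.of AM) ⟶ X}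
    {h₂ : Spec (CommRingCat.of AM) ⟶ Y} {l₁ : Spec R ⟶ X} {l₂ : Spec R ⟶ Y} (H₁ : IsAvg q M hsq h₁ l₁)
    (H₂ : IsAvg q M hsq h₂ l₂) (e : h₁ ≫ a = h₂ ≫ b) (e' : l₁ ≫ a = l₂ ≫ b) :
    IsAvg q M hsq (pullback.lift h₁ h₂ e) (pullback.lift l₁ l₂ e') := by
  obtain ⟨a₁, rfl, rfl⟩ := H₁
  obtain ⟨a₂, rfl, rfl⟩ := H₂
  refine ⟨pullback.lift a₁ a₂ (avg_ext q M hqs hsq (by simpa only [Category.assoc] using e)), ?_, ?_⟩
  · apply pullback.hom_ext <;> simp
  · apply pullback.hom_ext <;> simp

end Groth.Agent.Mag88
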