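import Groth.Agent.Mag88.Sep

/-! Attractors of closed subschemes. -/

universe u

set_option backward.isDefEq.respectTransparency false
set_option backward.isDefEq.respectTransparency.types false
set_option linter.style.haveILetI false

open CategoryTheory CategoryTheory.Limits MonoidalCategory CartesianMonoidalCategory MonObj AlgebraicGeometry
open Opposite Magnet Magnet.MonAct

noncomputable section

namespace Groth.Agent.Mag88

variable {S : Scheme.{u}} {M : Type} [AddCommMonoid M] {X Y : Over S}
  (aX : MonAct (AMonS S M) X) (aY : MonAct (AMonS S M) Y) (f : X ⟶ Y) (hf : IsEquivariant aX aY f)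

/-- The attractor of a closed stable subscheme is the preimage of the subscheme. -/
theorem isPullback_attrToX_of_closedImm [IsClosedImmersion f.left] (N : AddSubmonoid M) :
    IsPullback (eqvHom.postcomp (subAct S M N) f hf) (attrToX aX N) (attrToX aY N) (yoneda.map f) := by
  haveI : Mono ((Over.forget S).map f) := inferInstanceAs (Mono f.left)
  haveI : Mono f := (Over.forget S).mono_of_mono_map this
  refine IsPullback.of_forall_isPullback_app fun T => ?_
  rw [Types.isPullback_iff]
  refine ⟨ConcreteCategory.hom_ext _ _ fun φ =>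
      (Category.assoc (lift (toUnit (unop T) ≫ η[AMonS S N]) (𝟙 (unop T))) φ.1 f).symm,
    fun φ φ' hh => Subtype.ext ((cancel_mono f).1 (congrArg Subtype.val hh.1)), fun φ x hh => ?_⟩
  let Z := AMonS S N ⊗ unop T
  let π := AMonS.map S N.subtype ▷ unop T
  haveI : IsSchemeTheoreticallyDominant π.left := isSTD_subtype N _
  have ho : π ≫ φ.1 = ((AMonS S M ◁ x) ≫ aX.act) ≫ f := by
    refine (whiskerRight_comp_eqvHom (AMonS.map S N.subtype) aY φ).trans ?_
    change (AMonS S M ◁ (attrToX aY N).app T φ) ≫ aY.act = _
    rw [Category.assoc, hf, ← MonoidalCategory.whiskerLeft_comp_assoc]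
    exact congrArg (fun z => (AMonS S M ◁ z) ≫ aY.act) hh
  let e := pullback.fst φ.1.left f.left
  haveI : IsClosedImmersion e := MorphismProperty.pullback_fst (P := @IsClosedImmersion) _ _ inferInstance
  haveI : IsIso e := by
    refine IsClosedImmersion.isIso_iff_ker_eq_bot.2 (eq_bot_iff.2 ?_)
    rw [← π.left.ker_eq_bot,
      ← pullback.lift_fst π.left ((AMonS S M ◁ x) ≫ aX.act).left (congrArg CommaMorphism.left ho)]
    exact Scheme.Hom.le_ker_comp _ _
  let ψ : Z ⟶ X := Over.homMk (inv e ≫ pullback.snd φ.1.left f.left) (by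
    rw [← Over.w f, Category.assoc, ← pullback.condition_assoc, IsIso.inv_hom_id_assoc, Over.w])
  have hψ : ψ ≫ f = φ.1 := Over.OverMorphism.ext <| by
    change (inv e ≫ pullback.snd φ.1.left f.left) ≫ f.left = φ.1.left
    rw [Category.assoc, ← pullback.condition, IsIso.inv_hom_id_assoc]
  refine ⟨⟨ψ, ?_⟩, Subtype.ext hψ, ?_⟩
  · unfold IsEquivariant
    rw [← cancel_mono f, Category.assoc, Category.assoc, hψ, hf, ← MonoidalCategory.whiskerLeft_comp_assoc, hψ]
    exact φ.2
  · rw [← cancel_mono f]
    refine Eq.trans ?_ hh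
    change (lift (toUnit (unop T) ≫ η[AMonS S N]) (𝟙 (unop T)) ≫ ψ) ≫ f = _
    rw [Category.assoc, hψ]
    rfl

end Groth.Agent.Mag88
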