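import Mathlib

/-! Closed subschemes from a local condition on points with affine ideals. -/

set_option autoImplicit false
universe u

set_option backward.isDefEq.respectTransparency false
set_option backward.isDefEq.respectTransparency.types false
set_option linter.style.haveILetI false

open CategoryTheory CategoryTheory.Limits AlgebraicGeometry

namespace Groth.Agent.Mag88.ClosedRep

variable {S : Scheme.{u}} {X : Over S}

/-- The point of an algebra over an affine open. -/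
noncomputable abbrev pt (V : X.left.affineOpens) {R : CommRingCat.{u}} (q : Γ(X.left, V) ⟶ R) :
    Over.mk ((Spec.map q ≫ V.2.fromSpec) ≫ X.hom) ⟶ X := Over.homMk (Spec.map q ≫ V.2.fromSpec) rfl

theorem exists_closed (P : ∀ (T : Over S), (T ⟶ X) → Prop)
    (hcomp : ∀ (T T' : Over S) (t : T' ⟶ T) (x : T ⟶ X), P T x → P T' (t ≫ x))
    (hloc : ∀ (T : Over S) (x : T ⟶ X) (U : T.left → Over S) (j : ∀ i, U i ⟶ T),
      (∀ i, IsOpenImmersion (j i).left) → (∀ t : T.left, t ∈ Set.range (j t).left) → (∀ i, P _ (j i ≫ x)) → P T x)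
    (hI : ∀ V : X.left.affineOpens, ∃ I : Ideal Γ(X.left, V), ∀ (R : CommRingCat.{u}) (q : Γ(X.left, V) ⟶ R),
      P _ (pt V q) ↔ I ≤ RingHom.ker q.hom) :
    ∃ (Z : Over S) (i : Z ⟶ X), IsClosedImmersion i.left ∧ ∀ (T : Over S) (x : T ⟶ X), P T x ↔ ∃ z, z ≫ i = x := by
  choose I hI using hI
  have htr : ∀ {Z : Scheme.{u}} {s s' : Z ⟶ S} (x : Over.mk s ⟶ X) (x' : Over.mk s' ⟶ X), x'.left = x.left →
      P _ x → P _ x' := by
    intro Z s s' x x' e h
    obtain rfl : s' = s := by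
      have h1 : x.left ≫ X.hom = s := Over.w x
      have h2 : x'.left ≫ X.hom = s' := Over.w x'
      rw [← h1, ← h2, e]
    rwa [show x' = x from Over.OverMorphism.ext e]
  have hmap : ∀ (V : X.left.affineOpens) (f : Γ(X.left, V)),
      (I V).map (X.left.presheaf.map (homOfLE <| X.left.basicOpen_le f).op).hom = I (X.left.affineBasicOpen f) := fun V f => by
    let W := X.left.affineBasicOpen f
    let ρ : Γ(X.left, V) ⟶ Γ(X.left, W) := X.left.presheaf.map (homOfLE <| X.left.basicOpen_le f).op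
    have hρ : Spec.map ρ ≫ V.2.fromSpec = W.2.fromSpec := V.2.map_fromSpec W.2 _
    have key : ∀ (R : CommRingCat.{u}) (q : Γ(X.left, W) ⟶ R),
        I W ≤ RingHom.ker q.hom ↔ (I V).map ρ.hom ≤ RingHom.ker q.hom := fun R q => by
      rw [Ideal.map_le_iff_le_comap, RingHom.comap_ker, ← CommRingCat.hom_comp, ← hI, ← hI]
      have e : Spec.map (ρ ≫ q) ≫ V.2.fromSpec = Spec.map q ≫ W.2.fromSpec := by
        rw [Spec.map_comp, Category.assoc, hρ]
      exact ⟨htr _ _ e, htr _ _ e.symm⟩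
    refine le_antisymm ?_ ?_
    · exact ((key _ (CommRingCat.ofHom (Ideal.Quotient.mk (I W)))).1 (Ideal.mk_ker).ge).trans Ideal.mk_ker.le
    · exact ((key _ (CommRingCat.ofHom (Ideal.Quotient.mk ((I V).map ρ.hom)))).2 (Ideal.mk_ker).ge).trans Ideal.mk_ker.le
  let D : X.left.IdealSheafData := { ideal := I, map_ideal_basicOpen := hmap }
  have hrest : ∀ {T : Over S} (x : T ⟶ X) (V : X.left.affineOpens) (W : T.left.affineOpens) (e : W.1 ≤ x.left ⁻¹ᵁ V.1),
      P _ ((Over.homMk W.2.fromSpec rfl : Over.mk (W.2.fromSpec ≫ T.hom) ⟶ T) ≫ x) ↔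
        I V ≤ RingHom.ker (x.left.appLE V W e).hom := by
    intro T x V W e
    let q : Γ(X.left, V) ⟶ Γ(T.left, W) := x.left.appLE V W e
    have he : Spec.map q ≫ V.2.fromSpec = W.2.fromSpec ≫ x.left := V.2.SpecMap_appLE_fromSpec x.left W.2 e
    rw [← hI V _ q]
    exact ⟨htr _ _ he, htr _ _ he.symm⟩
  have hker : ∀ {T : Over S} (x : T ⟶ X), P T x ↔ D ≤ x.left.ker := by
    intro T x
    constructor
    · intro h
      refine Scheme.IdealSheafData.le_ofIdeals_iff.2 fun V s hs => ?_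
      rw [RingHom.mem_ker]
      have hcov : ∀ t : (x.left ⁻¹ᵁ V.1 : T.left.Opens), ∃ W : T.left.affineOpens, t.1 ∈ W.1 ∧ W.1 ≤ x.left ⁻¹ᵁ V.1 := fun t => by
        obtain ⟨W, hW, htW, hWV⟩ := exists_isAffineOpen_mem_and_subset t.2
        exact ⟨⟨W, hW⟩, htW, hWV⟩
      choose W hW hWV using hcov
      refine (T.left.sheaf.eq_of_locally_eq' (fun t => (W t).1) (x.left ⁻¹ᵁ V.1) (fun t => homOfLE (hWV t))
        (fun t ht => TopologicalSpace.Opens.mem_iSup.2 ⟨⟨t, ht⟩, hW ⟨t, ht⟩⟩) _ 0 fun t => ?_)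
      rw [map_zero]
      exact (hrest x V (W t) (hWV t)).1 (hcomp _ _ _ _ h) hs
    · intro h
      have hex : ∀ t : T.left, ∃ (V : X.left.affineOpens) (W : T.left.affineOpens), t ∈ W.1 ∧ W.1 ≤ x.left ⁻¹ᵁ V.1 := fun t => by
        obtain ⟨V, hV, hxV, -⟩ := exists_isAffineOpen_mem_and_subset (U := ⊤) (show x.left t ∈ (⊤ : X.left.Opens) from trivial)
        obtain ⟨W, hW, htW, hWV⟩ := exists_isAffineOpen_mem_and_subset (U := x.left ⁻¹ᵁ V) (show t ∈ x.left ⁻¹ᵁ V from hxV)
        exact ⟨⟨V, hV⟩, ⟨W, hW⟩, htW, hWV⟩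
      choose V W hW hWV using hex
      have hr : ∀ t, Set.range (W t).2.fromSpec = ((W t).1 : Set T.left) := fun t => IsAffineOpen.range_fromSpec (W t).2
      refine hloc T x (fun t => Over.mk ((W t).2.fromSpec ≫ T.hom)) (fun t => Over.homMk (W t).2.fromSpec rfl)
        (fun t => inferInstanceAs (IsOpenImmersion (W t).2.fromSpec))
        (fun t => show t ∈ Set.range (W t).2.fromSpec from (hr t).symm ▸ hW t)
        fun t => (hrest x (V t) (W t) (hWV t)).2 fun s hs => ?_
      have h0 : x.left.app (V t).1 s = 0 := Scheme.Hom.ideal_ker_le x.left (V t) (h (V t) hs)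
      change T.left.presheaf.map _ (x.left.app (V t).1 s) = 0
      rw [h0, map_zero]
  let i : Over.mk (D.subschemeι ≫ X.hom) ⟶ X := Over.homMk D.subschemeι rfl
  haveI : IsClosedImmersion i.left := inferInstanceAs (IsClosedImmersion D.subschemeι)
  refine ⟨_, i, inferInstance, fun T x => ⟨fun h => ?_, ?_⟩⟩
  · have hk : i.left.ker ≤ x.left.ker := le_of_eq_of_le D.ker_subschemeι ((hker x).1 h)
    refine ⟨Over.homMk (IsClosedImmersion.lift i.left x.left hk) ?_, Over.OverMorphism.ext (IsClosedImmersion.lift_fac _ _ hk)⟩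
    show _ ≫ i.left ≫ X.hom = T.hom
    rw [IsClosedImmersion.lift_fac_assoc, Over.w]
  · rintro ⟨z, rfl⟩
    exact hcomp _ _ z _ ((hker i).2 (le_of_eq D.ker_subschemeι.symm))

end Groth.Agent.Mag88.ClosedRep
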