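import Mathlib

/-! The orbit map of monoid algebras attached to a comap magnet is faithfully flat. -/

universe u

namespace Groth.Agent.Mag88

open MonoidAlgebra

variable (R : Type u) [CommRing R] {M Z : Type} [AddCommGroup M] [AddCommGroup Z] (f : M →+ Z) (Y : AddSubmonoid Z)

/-- `n ↦ (n, f n)`. -/
def orbitHom : Y.comap f →+ M × Y :=
  (Y.comap f).subtype.prod ((f.comp (Y.comap f).subtype).codRestrict Y (fun x => x.2))

/-- The induced map of monoid algebras. -/
noncomputable def orbitAlg : MonoidAlgebra R (Multiplicative (Y.comap f)) →+* MonoidAlgebra R (Multiplicative (M × Y)) :=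
  (mapDomainAlgHom R R (AddMonoidHom.toMultiplicative (orbitHom f Y))).toRingHom

theorem orbitAlg_single (n : Y.comap f) (r : R) :
    orbitAlg R f Y (single (Multiplicative.ofAdd n) r) = single (Multiplicative.ofAdd (orbitHom f Y n)) r := by
  simp [orbitAlg]

theorem faithfullyFlat_orbitAlg (hY : Y ≤ AddMonoidHom.mrange f) : (orbitAlg R f Y).FaithfullyFlat := by
  classical
  algebraize [orbitAlg R f Y]
  have hlift : ∀ y : Y, ∃ n : Y.comap f, f n = y := fun y => by
    obtain ⟨m, hm⟩ := hY y.2
    exact ⟨⟨m, by show f m ∈ Y; rw [hm]; exact y.2⟩, hm⟩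
  choose lift₀ hlift₀ using hlift
  let K := f.ker
  let σ : M ⧸ K → M := Quotient.out
  let cls : M × Y → M ⧸ K := fun p => QuotientAddGroup.mk (p.1 - lift₀ p.2)
  have hn : ∀ p : M × Y, f (p.1 - σ (cls p)) = p.2 := fun p => by
    have h0 : f (-σ (cls p) + (p.1 - lift₀ p.2)) = 0 :=
      QuotientAddGroup.eq.1 (QuotientAddGroup.out_eq' (cls p))
    rw [map_add, map_sub, hlift₀, map_neg] at h0
    rw [map_sub]
    calc f p.1 - f (σ (cls p)) = (-f (σ (cls p)) + (f p.1 - p.2)) + p.2 := by abel
      _ = p.2 := by rw [h0, zero_add]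
  let nOf : M × Y → Y.comap f := fun p => ⟨p.1 - σ (cls p), by show f _ ∈ Y; rw [hn]; exact p.2.2⟩
  have hcls : ∀ (n : Y.comap f) (q : M ⧸ K), cls (orbitHom f Y n + (σ q, 0)) = q := fun n q => by
    obtain ⟨y, hy⟩ : ∃ y, (orbitHom f Y n + (σ q, 0)).2 = y := ⟨_, rfl⟩
    change QuotientAddGroup.mk (((n : M) + σ q) - lift₀ (orbitHom f Y n + (σ q, 0)).2) = q
    refine Eq.trans ?_ (QuotientAddGroup.out_eq' q)
    rw [QuotientAddGroup.eq]
    change f (-((n : M) + σ q - lift₀ (orbitHom f Y n + (σ q, 0)).2) + σ q) = 0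
    have : f (lift₀ (orbitHom f Y n + (σ q, 0)).2) = f n := by
      rw [hlift₀]
      change f (n : M) + 0 = f n
      rw [add_zero]
    simp only [map_add, map_neg, map_sub, this]
    abel
  have hsplit : ∀ p : M × Y, orbitHom f Y (nOf p) + (σ (cls p), 0) = p := fun p => by
    refine Prod.ext ?_ (Subtype.ext ?_)
    · simp [orbitHom, nOf]
    · change f (p.1 - σ (cls p)) + 0 = (p.2 : Z)
      rw [add_zero, hn p]
  let Φ : (M ⧸ K →₀ MonoidAlgebra R (Multiplicative (Y.comap f))) →ₗ[MonoidAlgebra R (Multiplicative (Y.comap f))]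
      MonoidAlgebra R (Multiplicative (M × Y)) :=
    Finsupp.linearCombination _ (fun q => single (Multiplicative.ofAdd ((σ q, 0) : M × Y)) (1 : R))
  have hΦs : ∀ q (n : Y.comap f) (r : R), Φ (Finsupp.single q (single (Multiplicative.ofAdd n) r)) =
      single (Multiplicative.ofAdd (orbitHom f Y n + (σ q, 0))) r := fun q n r => by
    rw [Finsupp.linearCombination_single]
    change orbitAlg R f Y (single (Multiplicative.ofAdd n) r) * single _ 1 = _
    rw [orbitAlg_single, single_mul_single, mul_one, ofAdd_add]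
  let Ψ : MonoidAlgebra R (Multiplicative (M × Y)) →+ (M ⧸ K →₀ MonoidAlgebra R (Multiplicative (Y.comap f))) :=
    (Finsupp.liftAddHom (fun p => (Finsupp.singleAddHom (cls (Multiplicative.toAdd p))).comp
        (singleAddHom (Multiplicative.ofAdd (nOf (Multiplicative.toAdd p)))))).comp
      (coeffAddEquiv (R := R) (M := Multiplicative (M × Y))).toAddMonoidHom
  have hΨ : ∀ p r, Ψ (single (Multiplicative.ofAdd p) r) =
      Finsupp.single (cls p) (single (Multiplicative.ofAdd (nOf p)) r) := fun p r => by simp [Ψ]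
  have h1 : ∀ x, Ψ (Φ x) = x := fun x => by
    induction x using Finsupp.induction_linear with
    | zero => simp
    | add a b ha hb => rw [map_add, map_add, ha, hb]
    | single q x =>
      induction x using MonoidAlgebra.induction_linear with
      | zero => simp
      | add a b ha hb => rw [Finsupp.single_add, map_add, map_add, ha, hb]
      | single z r =>
        rw [← ofAdd_toAdd z, hΦs, hΨ, hcls]
        congr 3
        apply Subtype.ext
        change (orbitHom f Y (Multiplicative.toAdd z) + (σ q, 0)).1 - σ (cls _) = _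
        rw [hcls]
        simp [orbitHom]
  have h2 : ∀ y, Φ (Ψ y) = y := fun y => by
    induction y using MonoidAlgebra.induction_linear with
    | zero => simp
    | add a b ha hb => rw [map_add, map_add, ha, hb]
    | single m r => rw [← ofAdd_toAdd m, hΨ, hΦs, hsplit]
  let e : (M ⧸ K →₀ MonoidAlgebra R (Multiplicative (Y.comap f))) ≃ₗ[MonoidAlgebra R (Multiplicative (Y.comap f))]
      MonoidAlgebra R (Multiplicative (M × Y)) := LinearEquiv.ofBijective Φ
    ⟨Function.LeftInverse.injective h1, fun y => ⟨Ψ y, h2 y⟩⟩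
  exact Module.FaithfullyFlat.of_linearEquiv _ _ e.symm

end Groth.Agent.Mag88
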