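import Groth.Agent.Mag88.SpAlg
import Groth.Agent.Mag88.OpenPb
import Groth.Agent.Mag88.OverRep
import Groth.Agent.Mag88.Sheaf

/-! Gluing the Białynicki-Birula functor from stable affine opens. -/

universe u

set_option backward.isDefEq.respectTransparency false
set_option backward.isDefEq.respectTransparency.types false
set_option linter.style.haveILetI false

open CategoryTheory CategoryTheory.Limits MonoidalCategory CartesianMonoidalCategory MonObj AlgebraicGeometry
open Opposite Magnet Magnet.MonAct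

namespace Groth.Agent.Mag88

theorem exists_restrict_open {S : Scheme.{u}} {G X : Over S} [MonObj G] (a : MonAct G X) (U : X.left.Opens)
    (hU : (snd G X).left ⁻¹ᵁ U ≤ a.act.left ⁻¹ᵁ U) :
    ∃ aU : MonAct G (Over.mk (U.ι ≫ X.hom)),
      IsEquivariant aU a (Over.homMk U.ι rfl : Over.mk (U.ι ≫ X.hom) ⟶ X) := by
  let j : Over.mk (U.ι ≫ X.hom) ⟶ X := Over.homMk U.ι rfl
  haveI : Mono ((Over.forget S).map j) := inferInstanceAs (Mono U.ι)
  haveI : Mono j := (Over.forget S).mono_of_mono_map this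
  let h := (G ◁ j) ≫ a.act
  have hr : Set.range h.left ⊆ Set.range U.ι := by
    rintro _ ⟨p, rfl⟩
    rw [Scheme.Opens.range_ι]
    refine hU (?_ : (G ◁ j).left p ∈ (snd G X).left ⁻¹ᵁ U)
    change ((G ◁ j) ≫ snd G X).left p ∈ U
    rw [whiskerLeft_snd]
    exact (Scheme.Opens.range_ι U).le ⟨_, rfl⟩
  let act : G ⊗ Over.mk (U.ι ≫ X.hom) ⟶ Over.mk (U.ι ≫ X.hom) := Over.homMk (IsOpenImmersion.lift U.ι h.left hr) (by
    change IsOpenImmersion.lift U.ι h.left hr ≫ U.ι ≫ X.hom = _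
    rw [← Category.assoc, IsOpenImmersion.lift_fac, Over.w])
  have ha : act ≫ j = h := Over.OverMorphism.ext (IsOpenImmersion.lift_fac _ _ hr)
  refine ⟨MonAct.mk' act (fun T x => ?_) (fun T g g' x => ?_), ?_⟩
  · rw [← cancel_mono j, Category.assoc, ha, lift_whiskerLeft_assoc, a.lift_one_act]
  · rw [← cancel_mono j, Category.assoc, Category.assoc, ha, lift_whiskerLeft_assoc, lift_whiskerLeft_assoc,
      Category.assoc, ha, lift_whiskerLeft_assoc, a.lift_mul_act]
  · exact ha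

variable {k : Type u} [Field k]

theorem exists_representable_eqvHom {M G X : Over (Spec (CommRingCat.of k))} [MonObj M] [GrpObj G] [IsAffine M.left]
    [IsAffine G.left] (i : G ⟶ M) [IsMonHom i] [IsSchemeTheoreticallyDominant i.left]
    (o : 𝟙_ (Over (Spec (CommRingCat.of k))) ⟶ M)
    (ho : ∀ (T : Over (Spec (CommRingCat.of k))) (m : T ⟶ M), m * (toUnit T ≫ o) = toUnit T ≫ o)
    (hM : ∀ (T : Over (Spec (CommRingCat.of k))) (K : Type u) [Field K] (_ : T.left ≅ Spec (CommRingCat.of K))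
      (W : (M ⊗ T).left.Opens),
      (snd G (M ⊗ T)).left ⁻¹ᵁ W ≤ ((((regular M).restrict i).prod (MonAct.trivial G T)).act).left ⁻¹ᵁ W →
      (lift (toUnit T ≫ o) (𝟙 T)).left ⁻¹ᵁ W = ⊤ → W = ⊤)
    (a : MonAct G X)
    (hcov : ∀ (T : Over (Spec (CommRingCat.of k))) (x : (fixedPsh a).obj (op T)),
      ⨆ (U : X.left.Opens) (_ : IsAffineOpen U ∧ (snd G X).left ⁻¹ᵁ U ≤ a.act.left ⁻¹ᵁ U), x.1.left ⁻¹ᵁ U = ⊤) :
    ∃ Z : Over (Spec (CommRingCat.of k)), Nonempty ((eqvHom ((regular M).restrict i) a).RepresentableBy Z) := by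
  haveI : IsAffineHom i.left := inferInstance
  let ρ := (regular M).restrict i
  let J := {U : X.left.Opens // IsAffineOpen U ∧ (snd G X).left ⁻¹ᵁ U ≤ a.act.left ⁻¹ᵁ U}
  let XU : J → Over (Spec (CommRingCat.of k)) := fun U => Over.mk (U.1.ι ≫ X.hom)
  let jU : ∀ U, XU U ⟶ X := fun U => Over.homMk U.1.ι rfl
  choose aU haU using fun U : J => exists_restrict_open a U.1 U.2.2
  have hrep : ∀ U : J, ∃ Z : Over (Spec (CommRingCat.of k)), Nonempty ((eqvHom ρ (aU U)).RepresentableBy Z) := fun U => by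
    haveI : IsAffine (XU U).left := U.2.1
    obtain ⟨Z, -, e, -⟩ := SpAlg.exists_representableBy i (aU U)
    exact ⟨Z, ⟨e⟩⟩
  choose W eW using hrep
  let e : ∀ U : J, yoneda.obj (W U) ≅ eqvHom ρ (aU U) := fun U => Functor.representableByEquiv (eW U).some
  let E := eqvHom.evalAt ρ a o
  have hpb : ∀ U : J, IsPullback (eqvHom.postcomp ρ (jU U) (haU U)) (eqvHom.evalAt ρ (aU U) o) E (yoneda.map (jU U)) := fun U => by
    haveI : IsOpenImmersion (jU U).left := inferInstanceAs (IsOpenImmersion U.1.ι)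
    exact isPullback_evalAt_openImm ρ o hM (jU U) (haU U)
  have hmono : ∀ U, Mono (jU U) := fun U => by
    haveI : Mono ((Over.forget (Spec (CommRingCat.of k))).map (jU U)) := inferInstanceAs (Mono U.1.ι)
    exact (Over.forget _).mono_of_mono_map this
  have hsheaf : Presheaf.IsSheaf (Scheme.zariskiTopology.over (Spec (CommRingCat.of k))) (eqvHom ρ a) :=
    isSheaf_eqvHom _ ρ a
  refine OverRep.exists_representableBy (eqvHom ρ a) hsheaf W
    (fun U => (e U).hom ≫ eqvHom.postcomp ρ (jU U) (haU U)) (fun U T => ?_)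
    (fun T φ U => (E.app (op T) φ).left ⁻¹ᵁ U.1) (fun T T' φ t U => ?_) (fun T φ p => ?_)
  · intro z z' h
    haveI := hmono U
    have h1 : ((e U).hom.app (op T) z).1 ≫ jU U = ((e U).hom.app (op T) z').1 ≫ jU U := congrArg Subtype.val h
    have h2 : (e U).hom.app (op T) z = (e U).hom.app (op T) z' := Subtype.ext ((cancel_mono (jU U)).1 h1)
    exact ((e U).app (op T)).toEquiv.injective h2
  · have hnat : E.app (op T') ((eqvHom ρ a).map t.op φ) = t ≫ E.app (op T) φ := congr($(E.naturality t.op) φ)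
    constructor
    · rintro ⟨z, hz⟩
      rintro _ ⟨q, rfl⟩
      have h1 : t ≫ E.app (op T) φ = (eqvHom.evalAt ρ (aU U) o).app (op T') ((e U).hom.app (op T') z) ≫ jU U := by
        rw [← hnat, ← hz]
        change lift (toUnit T' ≫ o) (𝟙 T') ≫ (((e U).hom.app (op T') z).1 ≫ jU U) =
          (lift (toUnit T' ≫ o) (𝟙 T') ≫ ((e U).hom.app (op T') z).1) ≫ jU U
        simp only [Category.assoc]
      change (t ≫ E.app (op T) φ).left q ∈ U.1
      rw [h1]
      exact (Scheme.Opens.range_ι U.1).le ⟨_, rfl⟩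
    · intro hr
      have hr' : Set.range (E.app (op T') ((eqvHom ρ a).map t.op φ)).left ⊆ Set.range U.1.ι := by
        rintro _ ⟨q, rfl⟩
        rw [hnat, Scheme.Opens.range_ι]
        exact hr ⟨q, rfl⟩
      let z : T' ⟶ XU U := Over.homMk (IsOpenImmersion.lift U.1.ι _ hr') (by
        change IsOpenImmersion.lift U.1.ι _ hr' ≫ U.1.ι ≫ X.hom = _
        rw [← Category.assoc, IsOpenImmersion.lift_fac]
        exact Over.w _)
      have hz : z ≫ jU U = E.app (op T') ((eqvHom ρ a).map t.op φ) :=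
        Over.OverMorphism.ext (IsOpenImmersion.lift_fac _ _ hr')
      obtain ⟨ψ, h1, -⟩ := ((Types.isPullback_iff _ _ _ _).1 ((hpb U).app (op T'))).2.2
        ((eqvHom ρ a).map t.op φ) z hz.symm
      refine ⟨(e U).inv.app (op T') ψ, ?_⟩
      rw [NatTrans.comp_app_apply]
      exact (congrArg _ (((e U).app (op T')).toEquiv.apply_symm_apply ψ)).trans h1
  · have hfix : ∀ (T' : Over (Spec (CommRingCat.of k))) (t : T' ⟶ T) (g : T' ⟶ G),
        lift g (t ≫ E.app (op T) φ) ≫ a.act = t ≫ E.app (op T) φ := fun T' t g => by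
      have h := (mem_eqvHom_iff φ.1).1 φ.2 T' g (toUnit T' ≫ o) t
      rw [lift_restrict_act, lift_regular_act, ho] at h
      have e : t ≫ E.app (op T) φ = lift (toUnit T' ≫ o) t ≫ φ.1 := by
        change t ≫ lift (toUnit T ≫ o) (𝟙 T) ≫ φ.1 = _
        rw [comp_lift_assoc, ← Category.assoc, comp_toUnit, Category.comp_id]
      rw [e]
      exact h.symm
    have hp : p ∈ ⨆ (U : X.left.Opens) (_ : IsAffineOpen U ∧ (snd G X).left ⁻¹ᵁ U ≤ a.act.left ⁻¹ᵁ U),
        (E.app (op T) φ).left ⁻¹ᵁ U := by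
      rw [hcov T ⟨E.app (op T) φ, hfix⟩]; trivial
    simp only [TopologicalSpace.Opens.mem_iSup] at hp
    obtain ⟨U, hU, hpU⟩ := hp
    exact ⟨⟨U, hU⟩, hpU⟩

end Groth.Agent.Mag88
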