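import Groth.Agent.Mag88.Quot
import Groth.Agent.Mag88.ComapFlat

/-! Descent along faithfully flat maps of diagonalizable monoid schemes. -/

universe u

set_option backward.isDefEq.respectTransparency false
set_option backward.isDefEq.respectTransparency.types false

open CategoryTheory CategoryTheory.Limits MonoidalCategory CartesianMonoidalCategory MonObj AlgebraicGeometry
open Opposite Magnet Magnet.MonAct

namespace Groth.Agent.Mag88

variable {S : Scheme.{u}} {P N : Type} [AddCommMonoid P] [AddCommMonoid N] (φ : N →+ P)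

/-- Faithful flatness of the monoid algebra map, over the integers. -/
def IsFFlat : Prop :=
  (MonoidAlgebra.mapDomainAlgHom (ULift.{u} ℤ) (ULift.{u} ℤ) (AddMonoidHom.toMultiplicative φ)).toRingHom.FaithfullyFlat

variable {φ}

theorem props_ff (h : IsFFlat.{u} φ) (T : Over S) :
    Flat (AMonS.map S φ ▷ T).left ∧ Surjective (AMonS.map S φ ▷ T).left ∧ QuasiCompact (AMonS.map S φ ▷ T).left := by
  obtain ⟨h1, h2⟩ : Flat (AMon.map (ULift.{u} ℤ) φ).left ∧ Surjective (AMon.map (ULift.{u} ℤ) φ).left := by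
    rw [AMon.map_left]
    exact (flat_and_surjective_SpecMap_iff (CommRingCat.ofHom _)).2 h
  haveI : Flat (AMonS.map S φ).left :=
    MorphismProperty.of_isPullback (P := @Flat.{u}) (isPullback_bcMap _ _).flip h1
  haveI : Surjective (AMonS.map S φ).left :=
    MorphismProperty.of_isPullback (P := @Surjective.{u}) (isPullback_bcMap _ _).flip h2
  have sq := (isPullback_fst (AMonS.map S φ) T).map (Over.forget S)
  exact ⟨MorphismProperty.of_isPullback (P := @Flat.{u}) sq ‹Flat (AMonS.map S φ).left›,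
    MorphismProperty.of_isPullback (P := @Surjective.{u}) sq ‹Surjective (AMonS.map S φ).left›,
    quasiCompact_map_whisker φ T⟩

theorem epi_ff (h : IsFFlat.{u} φ) (T : Over S) : Epi (AMonS.map S φ ▷ T) := by
  obtain ⟨hf, hs, -⟩ := props_ff (S := S) h T
  haveI : Flat (AMonS.map S φ ▷ T).left := hf
  haveI : Surjective (AMonS.map S φ ▷ T).left := hs
  haveI he : Epi (AMonS.map S φ ▷ T).left := Flat.epi_of_flat_of_surjective _
  haveI : Epi ((Over.forget S).map (AMonS.map S φ ▷ T)) := he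
  exact (Over.forget S).epi_of_epi_map this

theorem epi_whiskerLeft_ff (h : IsFFlat.{u} φ) (A T : Over S) : Epi (A ◁ (AMonS.map S φ ▷ T)) := by
  obtain ⟨hf, hs, -⟩ := props_ff (S := S) h T
  haveI : Flat (A ◁ (AMonS.map S φ ▷ T)).left :=
    MorphismProperty.of_isPullback (P := @Flat.{u}) ((isPullback_whiskerLeft_snd _).map (Over.forget S)).flip hf
  haveI : Surjective (A ◁ (AMonS.map S φ ▷ T)).left :=
    MorphismProperty.of_isPullback (P := @Surjective.{u}) ((isPullback_whiskerLeft_snd _).map (Over.forget S)).flip hs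
  haveI he : Epi (A ◁ (AMonS.map S φ ▷ T)).left := Flat.epi_of_flat_of_surjective _
  haveI : Epi ((Over.forget S).map (A ◁ (AMonS.map S φ ▷ T))) := he
  exact (Over.forget S).epi_of_epi_map this

theorem exists_factor_ff (h : IsFFlat.{u} φ) {X T : Over S} (o : AMonS S P ⊗ T ⟶ X)
    (ho : ∀ (T' : Over S) (g₁ g₂ : T' ⟶ AMonS S P) (t : T' ⟶ T),
      (∀ n : N, aFn g₁ (φ n) = aFn g₂ (φ n)) → lift g₁ t ≫ o = lift g₂ t ≫ o) :
    ∃ ψ : AMonS S N ⊗ T ⟶ X, (AMonS.map S φ ▷ T) ≫ ψ = o := by
  let π := AMonS.map S φ ▷ T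
  obtain ⟨hf, hs, hq⟩ := props_ff (S := S) h T
  haveI : Flat π.left := hf
  haveI : Surjective π.left := hs
  haveI : QuasiCompact π.left := hq
  have hcond : ∀ {W : Scheme.{u}} (g₁ g₂ : W ⟶ (AMonS S P ⊗ T).left),
      g₁ ≫ π.left = g₂ ≫ π.left → g₁ ≫ o.left = g₂ ≫ o.left := fun {W} g₁ g₂ e => by
    have w : g₂ ≫ (AMonS S P ⊗ T).hom = g₁ ≫ (AMonS S P ⊗ T).hom := by
      rw [← Over.w π, ← Category.assoc, ← Category.assoc, e]
    let T' : Over S := Over.mk (g₁ ≫ (AMonS S P ⊗ T).hom)
    let a : T' ⟶ AMonS S P ⊗ T := Over.homMk g₁ rfl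
    let b : T' ⟶ AMonS S P ⊗ T := Over.homMk g₂ w
    have hab : a ≫ π = b ≫ π := Over.OverMorphism.ext e
    have ht : a ≫ snd _ _ = b ≫ snd _ _ := by
      have := congrArg (· ≫ snd _ _) hab
      simpa [π] using this
    have hz : ∀ n : N, aFn (a ≫ fst _ _) (φ n) = aFn (b ≫ fst _ _) (φ n) := fun n => by
      have := congrArg (fun q => aFn (q ≫ fst _ _) n) hab
      simp only [π, Category.assoc, whiskerRight_fst] at this
      rwa [← Category.assoc, ← Category.assoc, aFn_map, aFn_map] at this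
    have := ho T' (a ≫ fst _ _) (b ≫ fst _ _) (a ≫ snd _ _) hz
    rw [← comp_lift, lift_fst_snd, Category.comp_id, ht, ← comp_lift, lift_fst_snd, Category.comp_id] at this
    exact congrArg Over.Hom.left this
  let ψ₀ := EffectiveEpi.desc π.left o.left hcond
  refine ⟨Over.homMk ψ₀ ?_, Over.OverMorphism.ext (EffectiveEpi.fac π.left o.left hcond)⟩
  rw [← cancel_epi π.left, ← Category.assoc, EffectiveEpi.fac, Over.w, Over.w π]

section Comap

variable {M Z : Type} [AddCommGroup M] [AddCommGroup Z]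

theorem isFFlat_subtype (G : AddSubgroup M) : IsFFlat.{u} G.subtype := faithfullyFlat_incAlg G

theorem isFFlat_orbit (f : M →+ Z) (Y : AddSubmonoid Z) (hY : Y ≤ AddMonoidHom.mrange f) :
    IsFFlat.{u} (orbitHom f Y) := faithfullyFlat_orbitAlg _ f Y hY

end Comap

end Groth.Agent.Mag88
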