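import Groth.Agent.Mag88.FormalBB2

/-! `A(M)_T ⟶ A(N)_T` is scheme-theoretically dominant when `N ⟶ M` is injective. -/

universe u

set_option backward.isDefEq.respectTransparency false
set_option backward.isDefEq.respectTransparency.types false

open CategoryTheory CategoryTheory.Limits MonoidalCategory CartesianMonoidalCategory MonObj AlgebraicGeometry
open Opposite

namespace Groth.Agent.Mag88

variable {S : Scheme.{u}} {M N : Type} [AddCommMonoid M] [AddCommMonoid N]

section Affine

variable {R : CommRingCat.{u}} (p : Spec R ⟶ S)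

/-- The monoid algebra spectrum over an affine base, as an `S`-scheme. -/
noncomputable abbrev mQ (N : Type) [AddCommMonoid N] : Over S :=
  Over.mk (Spec.map (CommRingCat.ofHom (algebraMap R (MonoidAlgebra R (Multiplicative N)))) ≫ p)

/-- Its projection. -/
noncomputable def mProj (N : Type) [AddCommMonoid N] : mQ p N ⟶ Over.mk p :=
  Over.homMk (Spec.map (CommRingCat.ofHom (algebraMap R (MonoidAlgebra R (Multiplicative N))))) rfl

theorem exists_mCoord (N : Type) [AddCommMonoid N] : ∃ t : mQ p N ⟶ Magnet.AMonS S N, ∀ m, aFn t m =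
    (Scheme.ΓSpecIso (CommRingCat.of (MonoidAlgebra R (Multiplicative N)))).inv
      (MonoidAlgebra.single (Multiplicative.ofAdd m) 1) :=
  aFn_surjective (S := S) (X := mQ p N)
    ((Scheme.ΓSpecIso (CommRingCat.of (MonoidAlgebra R (Multiplicative N)))).inv.hom.toMonoidHom.comp
      (MonoidAlgebra.of R (Multiplicative N)))

/-- The comparison with the product. -/
noncomputable def mMap (N : Type) [AddCommMonoid N] : mQ p N ⟶ Magnet.AMonS S N ⊗ Over.mk p :=
  lift (exists_mCoord p N).choose (mProj p N)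

theorem aFn_comp_mMap_fst {T : Over S} (g : T ⟶ mQ p N) (m : N) :
    aFn (g ≫ mMap p N ≫ fst _ _) m = gFn g.left (MonoidAlgebra.single (Multiplicative.ofAdd m) 1) := by
  rw [mMap, lift_fst, aFn_comp, (exists_mCoord p N).choose_spec]
  rfl

instance isIso_mMap (N : Type) [AddCommMonoid N] : IsIso (mMap p N).left := by
  let Z := Magnet.AMonS S N ⊗ Over.mk p
  let ψ : CommRingCat.of (MonoidAlgebra R (Multiplicative N)) ⟶ Γ(Z.left, ⊤) :=
    CommRingCat.ofHom (MonoidAlgebra.liftNCRingHom (gFn (snd _ _ : Z ⟶ Over.mk p).left).hom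
      { toFun := fun m => aFn (fst _ _ : Z ⟶ Magnet.AMonS S N) (Multiplicative.toAdd m)
        map_one' := aFn_zero _
        map_mul' := fun _ _ => aFn_add _ _ _ }
      (fun _ _ => mul_comm _ _))
  have hψ₁ : ∀ r : R, ψ (algebraMap R (MonoidAlgebra R (Multiplicative N)) r) =
      gFn (snd _ _ : Z ⟶ Over.mk p).left r := fun r => by
    change MonoidAlgebra.liftNC _ _ (MonoidAlgebra.single 1 r) = _
    rw [MonoidAlgebra.liftNC_single]
    simp only [MonoidHom.coe_mk, OneHom.coe_mk, toAdd_one, aFn_zero, _root_.mul_one]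
    rfl
  have hψ₂ : ∀ m : N, ψ (MonoidAlgebra.single (Multiplicative.ofAdd m) 1) =
      aFn (fst _ _ : Z ⟶ Magnet.AMonS S N) m := fun m => by
    change MonoidAlgebra.liftNC _ _ (MonoidAlgebra.single (Multiplicative.ofAdd m) 1) = _
    rw [MonoidAlgebra.liftNC_single]
    simp
  have hd : (Z.left.toSpecΓ ≫ Spec.map ψ) ≫
      Spec.map (CommRingCat.ofHom (algebraMap R (MonoidAlgebra R (Multiplicative N)))) =
        (snd _ _ : Z ⟶ Over.mk p).left := by
    apply gFn_injective
    rw [gFn_specMap, gFn_toSpec]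
    ext r
    exact hψ₁ r
  let d : Z ⟶ mQ p N := Over.homMk (Z.left.toSpecΓ ≫ Spec.map ψ) (by
    change (Z.left.toSpecΓ ≫ Spec.map ψ) ≫ Spec.map _ ≫ p = Z.hom
    rw [← Category.assoc (Z.left.toSpecΓ ≫ Spec.map ψ), hd]
    exact Over.w (snd _ _ : Z ⟶ Over.mk p))
  have h1 : d ≫ mMap p N = 𝟙 Z := by
    apply CartesianMonoidalCategory.hom_ext
    · rw [Category.assoc, Category.id_comp]
      refine aFn_ext fun m => ?_
      rw [aFn_comp_mMap_fst]
      change gFn (Z.left.toSpecΓ ≫ Spec.map ψ) _ = _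
      rw [gFn_toSpec, hψ₂]
    · rw [Category.assoc, mMap, lift_snd, Category.id_comp]
      exact Over.OverMorphism.ext hd
  have h2 : mMap p N ≫ d = 𝟙 _ := by
    apply Over.OverMorphism.ext
    change (mMap p N).left ≫ Z.left.toSpecΓ ≫ Spec.map ψ = 𝟙 _
    apply gFn_injective
    rw [gFn_comp, gFn_toSpec]
    apply CommRingCat.hom_ext
    refine MonoidAlgebra.ringHom_ext (fun r => ?_) fun m => ?_
    · change (mMap p N).left.appTop.hom (ψ (algebraMap R (MonoidAlgebra R (Multiplicative N)) r)) = _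
      rw [hψ₁]
      have e : (mMap p N).left ≫ (snd _ _ : Z ⟶ Over.mk p).left = (mProj p N).left := by
        rw [← Over.comp_left, mMap, lift_snd]
      have e2 := congrArg gFn e
      rw [gFn_comp] at e2
      refine (congr($e2 r)).trans ?_
      change gFn (𝟙 (Spec (CommRingCat.of (MonoidAlgebra R (Multiplicative N)))) ≫ Spec.map _) r = _
      rw [gFn_specMap]
      rfl
    · change (mMap p N).left.appTop.hom (ψ (MonoidAlgebra.single (Multiplicative.ofAdd (Multiplicative.toAdd m)) 1)) = _
      rw [hψ₂]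
      refine ((aFn_comp (mMap p N) _ _).symm.trans ?_)
      rw [← Category.id_comp (mMap p N), Category.assoc, aFn_comp_mMap_fst]
      rfl
  exact ⟨⟨d.left, by rw [← Over.comp_left, h2]; rfl, by rw [← Over.comp_left, h1]; rfl⟩⟩

/-- The map of spectra induced by a monoid map. -/
noncomputable def mQmap (φ : N →+ M) : mQ p M ⟶ mQ p N :=
  Over.homMk (Spec.map (CommRingCat.ofHom (MonoidAlgebra.mapDomainAlgHom R R (AddMonoidHom.toMultiplicative φ)).toRingHom))
    (by
      change Spec.map _ ≫ Spec.map _ ≫ p = Spec.map _ ≫ p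
      rw [← Category.assoc, ← Spec.map_comp, ← CommRingCat.ofHom_comp]
      congr 3
      ext r
      simp)

theorem mMap_natural (φ : N →+ M) :
    mQmap p φ ≫ mMap p N = mMap p M ≫ (Magnet.AMonS.map S φ ▷ Over.mk p) := by
  apply CartesianMonoidalCategory.hom_ext
  · refine aFn_ext fun m => ?_
    rw [Category.assoc, aFn_comp_mMap_fst, Category.assoc, whiskerRight_fst, ← Category.assoc, aFn_map,
      ← Category.id_comp (mMap p M), Category.assoc, aFn_comp_mMap_fst]
    change gFn (𝟙 (Spec (CommRingCat.of (MonoidAlgebra R (Multiplicative M)))) ≫ Spec.map _) _ = _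
    rw [gFn_specMap]
    simp
  · rw [Category.assoc, Category.assoc, mMap, mMap, lift_snd, whiskerRight_snd, lift_snd]
    apply Over.OverMorphism.ext
    change Spec.map _ ≫ Spec.map _ = Spec.map _
    rw [← Spec.map_comp, ← CommRingCat.ofHom_comp]
    exact congrArg (fun q => Spec.map (CommRingCat.ofHom q))
      (MonoidAlgebra.mapDomainAlgHom R R (AddMonoidHom.toMultiplicative φ)).comp_algebraMap

theorem isSTD_map_affine (φ : N →+ M) (hφ : Function.Injective φ) :
    IsSchemeTheoreticallyDominant (Magnet.AMonS.map S φ ▷ Over.mk p).left := by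
  let σ := Spec.map (CommRingCat.ofHom
    (MonoidAlgebra.mapDomainAlgHom R R (AddMonoidHom.toMultiplicative φ)).toRingHom)
  have hσ : IsSchemeTheoreticallyDominant σ := by
    rw [isSchemeTheoreticallyDominant_iff, Scheme.ker_of_isAffine]
    have h0 : RingHom.ker σ.appTop.hom = ⊥ := by
      rw [← RingHom.injective_iff_ker_eq_bot]
      rw [show σ.appTop = _ from rfl]
      have hinj : Function.Injective (MonoidAlgebra.mapDomainAlgHom R R (AddMonoidHom.toMultiplicative φ)) :=
        MonoidAlgebra.mapDomain_injective (fun a b hab => Multiplicative.toAdd.injective (hφ (Multiplicative.ofAdd.injective hab)))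
      intro a b hab
      obtain ⟨a', rfl⟩ := (Scheme.ΓSpecIso _).commRingCatIsoToRingEquiv.symm.surjective a
      obtain ⟨b', rfl⟩ := (Scheme.ΓSpecIso _).commRingCatIsoToRingEquiv.symm.surjective b
      have e := Scheme.ΓSpecIso_inv_naturality (CommRingCat.ofHom
        (MonoidAlgebra.mapDomainAlgHom R R (AddMonoidHom.toMultiplicative φ)).toRingHom)
      exact congrArg _ (hinj ((Scheme.ΓSpecIso _).commRingCatIsoToRingEquiv.symm.injective
        ((congr($e a')).trans (hab.trans (congr($e b')).symm))))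
    rw [h0]
    exact Scheme.IdealSheafData.ext_of_isAffine (by simp)
  have e := congrArg Over.Hom.left (mMap_natural p φ)
  rw [Over.comp_left, Over.comp_left] at e
  have : (Magnet.AMonS.map S φ ▷ Over.mk p).left = inv (mMap p M).left ≫ σ ≫ (mMap p N).left := by
    rw [IsIso.eq_inv_comp]; exact e.symm
  rw [this]
  infer_instance

end Affine

theorem isPullback_whisker {A B T U : Over S} (ψ : A ⟶ B) (j : U ⟶ T) :
    IsPullback (ψ ▷ U) (A ◁ j) (B ◁ j) (ψ ▷ T) := by
  refine ⟨⟨(whisker_exchange ψ j).symm⟩, ⟨PullbackCone.IsLimit.mk _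
    (fun s => lift (s.snd ≫ fst _ _) (s.fst ≫ snd _ _)) (fun s => ?_) (fun s => ?_) (fun s m h₁ h₂ => ?_)⟩⟩
  · have h := congrArg (fun z => z ≫ fst _ _) s.condition
    simp only [Category.assoc, whiskerLeft_fst, whiskerRight_fst] at h
    apply CartesianMonoidalCategory.hom_ext
    · simp [h]
    · simp
  · have h := congrArg (fun z => z ≫ snd _ _) s.condition
    simp only [Category.assoc, whiskerLeft_snd, whiskerRight_snd] at h
    apply CartesianMonoidalCategory.hom_ext
    · simp
    · simp [← h]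
  · apply CartesianMonoidalCategory.hom_ext
    · simp [← h₂]
    · simp [← h₁]

theorem isSTD_of_cover {X Y : Scheme.{u}} (f : X ⟶ Y) [QuasiCompact f]
    (h : ∀ y : Y, ∃ (V U : Scheme.{u}) (iV : V ⟶ Y) (iU : U ⟶ X) (f' : U ⟶ V), IsOpenImmersion iV ∧
      y ∈ Set.range iV ∧ IsPullback f' iU iV f ∧ IsSchemeTheoreticallyDominant f') :
    IsSchemeTheoreticallyDominant f := by
  choose V U iV iU f' hi hy hsq hd using h
  rw [isSchemeTheoreticallyDominant_iff]
  have hW : ∀ y, ∃ W : (V y).affineOpens, y ∈ iV y ''ᵁ W.1 := fun y => by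
    obtain ⟨v, hv⟩ := hy y
    obtain ⟨W, hWa, hvW, -⟩ := exists_isAffineOpen_mem_and_subset (U := ⊤) (show v ∈ (⊤ : (V y).Opens) from trivial)
    exact ⟨⟨W, hWa⟩, v, hvW, hv⟩
  choose W hW using hW
  refine Scheme.IdealSheafData.ext_of_iSup_eq_top
    (fun y => ⟨iV y ''ᵁ (W y).1, (W y).2.image_of_isOpenImmersion _⟩) ?_ (fun y => ?_)
  · exact top_le_iff.1 fun y _ => TopologicalSpace.Opens.mem_iSup.2 ⟨y, hW y⟩
  · haveI := hi y
    have e := Scheme.ker_ideal_of_isPullback_of_isOpenImmersion f (f' y) (iU y) (iV y) (hsq y) (W y)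
    rw [(hd y).ker_eq_bot] at e
    simp only [Scheme.IdealSheafData.ideal_bot, Pi.bot_apply] at e ⊢
    rw [eq_bot_iff]
    intro x hx
    obtain ⟨x', rfl⟩ := (ConcreteCategory.bijective_of_isIso ((iV y).appIso (W y).1).inv).2 x
    have : x' ∈ (⊥ : Ideal _) := by rw [e]; exact hx
    rw [Submodule.mem_bot] at this ⊢
    rw [this, map_zero]

instance isAffineHom_AMonS (M : Type) [AddCommMonoid M] : IsAffineHom (Magnet.AMonS S M).hom := by
  haveI : IsAffine (Magnet.AMon (ULift.{u} ℤ) M).left :=
    inferInstanceAs (IsAffine (Spec (CommRingCat.of (MonoidAlgebra (ULift.{u} ℤ) (Multiplicative M)))))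
  haveI : IsAffineHom (Magnet.AMon (ULift.{u} ℤ) M).hom := inferInstance
  exact MorphismProperty.pullback_snd (P := @IsAffineHom.{u}) _ _ ‹_›

instance quasiCompact_map_whisker (φ : N →+ M) (T : Over S) :
    QuasiCompact (Magnet.AMonS.map S φ ▷ T).left := by
  haveI : IsAffineHom (snd (Magnet.AMonS S M) T).left := by
    rw [Over.snd_left]; exact MorphismProperty.pullback_snd (P := @IsAffineHom.{u}) _ _ (isAffineHom_AMonS M)
  haveI : IsAffineHom (snd (Magnet.AMonS S N) T).left := by
    rw [Over.snd_left]; exact MorphismProperty.pullback_snd (P := @IsAffineHom.{u}) _ _ (isAffineHom_AMonS N)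
  have h : IsAffineHom ((Magnet.AMonS.map S φ ▷ T).left ≫ (snd (Magnet.AMonS S N) T).left) := by
    rw [← Over.comp_left, whiskerRight_snd]; infer_instance
  haveI := IsAffineHom.of_comp (Magnet.AMonS.map S φ ▷ T).left (snd (Magnet.AMonS S N) T).left
  infer_instance

theorem isSTD_map (φ : N →+ M) (hφ : Function.Injective φ) (T : Over S) :
    IsSchemeTheoreticallyDominant (Magnet.AMonS.map S φ ▷ T).left := by
  refine isSTD_of_cover _ fun w => ?_
  let t := (snd (Magnet.AMonS S N) T).left w
  obtain ⟨U, hU, ht, -⟩ := exists_isAffineOpen_mem_and_subset (U := ⊤) (show t ∈ (⊤ : T.left.Opens) from trivial)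
  let j : Over.mk (hU.fromSpec ≫ T.hom) ⟶ T := Over.homMk hU.fromSpec rfl
  have sq := (isPullback_whisker (Magnet.AMonS.map S φ) j).map (Over.forget S)
  have sqN : IsPullback (snd (Magnet.AMonS S N) (Over.mk (hU.fromSpec ≫ T.hom))).left
      (Magnet.AMonS S N ◁ j).left hU.fromSpec (snd (Magnet.AMonS S N) T).left := by
    refine (IsPullback.mk ⟨(whiskerLeft_snd _ _).symm⟩ ⟨PullbackCone.IsLimit.mk
      ((whiskerLeft_snd (Magnet.AMonS S N) j).symm) (fun s => lift (s.snd ≫ fst _ _) s.fst)
      (fun s => ?_) (fun s => ?_) (fun s m h₁ h₂ => ?_)⟩ : IsPullback _ _ j _).map (Over.forget S)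
    · exact lift_snd _ _
    · apply CartesianMonoidalCategory.hom_ext
      · simp
      · simp [s.condition]
    · apply CartesianMonoidalCategory.hom_ext
      · simp [← h₂]
      · simp [← h₁]
  haveI : IsOpenImmersion (Magnet.AMonS S N ◁ j).left := MorphismProperty.of_isPullback sqN inferInstance
  refine ⟨_, _, _, _, _, inferInstanceAs (IsOpenImmersion (Magnet.AMonS S N ◁ j).left), ?_, sq,
    isSTD_map_affine (hU.fromSpec ≫ T.hom) φ hφ⟩
  obtain ⟨r, hr⟩ : t ∈ Set.range hU.fromSpec := by rw [hU.range_fromSpec]; exact ht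
  obtain ⟨v, hv⟩ := Scheme.Pullback.exists_preimage_pullback w r hr.symm
  refine ⟨sqN.flip.isoPullback.inv v, ?_⟩
  change (sqN.flip.isoPullback.inv ≫ (Magnet.AMonS S N ◁ j).left) v = w
  rw [IsPullback.isoPullback_inv_fst]
  exact hv.1

/-- Maps to a separated scheme are determined on a scheme-theoretically dense part. -/
theorem eq_of_isSTD {W W' X : Over S} [IsSeparated X.hom] (π : W' ⟶ W) [IsSchemeTheoreticallyDominant π.left]
    (f g : W ⟶ X) (h : π ≫ f = π ≫ g) : f = g := by
  haveI : IsClosedImmersion (equalizer.ι f g).left := inferInstance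
  have hle : (equalizer.ι f g).left.ker ≤ π.left.ker := by
    rw [← equalizer.lift_ι π h, Over.comp_left]
    exact Scheme.Hom.le_ker_comp _ _
  rw [π.left.ker_eq_bot, le_bot_iff] at hle
  haveI : IsIso (equalizer.ι f g).left := IsClosedImmersion.isIso_iff_ker_eq_bot.2 hle
  apply Over.OverMorphism.ext
  rw [← cancel_epi (equalizer.ι f g).left, ← Over.comp_left, ← Over.comp_left, equalizer.condition]

end Groth.Agent.Mag88
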