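import Groth.Agent.Mag88.FaceUnique

/-! Equivariant maps agreeing on a separating family of thickenings of a face are equal. -/

universe u

set_option maxHeartbeats 1000000
set_option backward.isDefEq.respectTransparency false
set_option backward.isDefEq.respectTransparency.types false
set_option linter.style.haveILetI false

open CategoryTheory CategoryTheory.Limits MonoidalCategory CartesianMonoidalCategory MonObj AlgebraicGeometry
open Opposite Magnet Magnet.MonAct

noncomputable section

namespace Groth.Agent.Mag88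

/-- A point of the image of a morphism, seen through a field-valued point. -/
theorem exists_field_point {A B C : Scheme.{u}} (e : A ⟶ C) (h : B ⟶ C) (a : A) (b : B) (hab : h b = e a) :
    ∃ (L : Scheme.{u}) (p : L ⟶ B) (q : L ⟶ A) (l : L), p ≫ h = q ≫ e ∧ p l = b := by
  obtain ⟨v, hv₁, -⟩ := Scheme.Pullback.exists_preimage_pullback b a hab
  exact ⟨_, pullback.fst h e, pullback.snd h e, v, pullback.condition, hv₁⟩

variable {S : Scheme.{u}} {M : Type} [AddCommGroup M] [AddGroup.FG M] {N Q : AddSubmonoid M}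
  {X : Over S} (aX : MonAct (AMonS S M) X)

theorem attr_ext_of_thickenings (hQ : IsFace N Q) {T : Over S} [IsAffine T.left] (y y' : (attr aX N).obj (op T))
    {ι' : Type*} (W : ι' → Over S) (k : ∀ i, W i ⟶ AMonS S N ⊗ T) (hk : ∀ i, k i ≫ y.1 = k i ≫ y'.1)
    (hface : (AMonS.faceMap S hQ ▷ T) ≫ y.1 = (AMonS.faceMap S hQ ▷ T) ≫ y'.1)
    (hinj : ∀ a : Γ((AMonS S N ⊗ T).left, ⊤), (∀ i, (k i).left.appTop a = 0) → a = 0) : y = y' := by
  let Z := AMonS S N ⊗ T
  let act := ((subAct S M N).prod (MonAct.trivial (AMonS S M) T)).act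
  let pr : Z.left ⟶ pullback X.hom X.hom :=
    pullback.lift y.1.left y'.1.left ((Over.w y.1).trans (Over.w y'.1).symm)
  let e := pullback.fst pr (pullback.diagonal X.hom)
  haveI : IsImmersion e := MorphismProperty.pullback_fst (P := @IsImmersion) pr (pullback.diagonal X.hom) inferInstance
  have hto : ∀ {V : Scheme.{u}} (p : V ⟶ Z.left), p ≫ y.1.left = p ≫ y'.1.left →
      ∃ q, q ≫ e = p := fun {V} p h =>
    ⟨pullback.lift p (p ≫ y.1.left) (by
      apply pullback.hom_ext
      · simp [pr]
      · simpa [pr] using h.symm), pullback.lift_fst _ _ _⟩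
  have hof : ∀ {V : Scheme.{u}} (q : V ⟶ pullback pr (pullback.diagonal X.hom)),
      (q ≫ e) ≫ y.1.left = (q ≫ e) ≫ y'.1.left := fun q => by
    have h := pullback.condition (f := pr) (g := pullback.diagonal X.hom)
    have h₁ := congrArg (· ≫ pullback.fst _ _) h
    have h₂ := congrArg (· ≫ pullback.snd _ _) h
    simp only [Category.assoc, pr, pullback.lift_fst, pullback.lift_snd, pullback.diagonal_fst,
      pullback.diagonal_snd, Category.comp_id] at h₁ h₂
    rw [Category.assoc, Category.assoc, h₁, h₂]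
  -- invariance
  have hinv : ∀ {V : Over S} (g : V ⟶ AMonS S M) (z : V ⟶ Z),
      z ≫ y.1 = z ≫ y'.1 ↔ (lift g z ≫ act) ≫ y.1 = (lift g z ≫ act) ≫ y'.1 := by
    intro V g z
    rw [Category.assoc, Category.assoc, y.2, y'.2, lift_whiskerLeft_assoc, lift_whiskerLeft_assoc]
    refine ⟨fun h => by rw [h], fun h => ?_⟩
    obtain ⟨gi, hgi⟩ := exists_inv g
    rw [← lift_inv_act aX hgi (z ≫ y.1), h, lift_inv_act aX hgi]
  have hrange : act.left ⁻¹' Set.range e = (snd (AMonS S M) Z).left ⁻¹' Set.range e := by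
    ext r
    constructor
    · rintro ⟨a, ha⟩
      obtain ⟨L, p, q, l, hpq, hl⟩ := exists_field_point e act.left a r ha.symm
      let V : Over S := Over.mk (p ≫ (AMonS S M ⊗ Z).hom)
      let P : V ⟶ AMonS S M ⊗ Z := Over.homMk p rfl
      have h1 : (P ≫ act) ≫ y.1 = (P ≫ act) ≫ y'.1 := Over.OverMorphism.ext <| by
        change (p ≫ act.left) ≫ _ = (p ≫ act.left) ≫ _
        rw [hpq]; exact hof q
      rw [← lift_comp_fst_snd P] at h1
      have h2 := (hinv _ _).2 h1
      obtain ⟨q', hq'⟩ := hto (p ≫ (snd (AMonS S M) Z).left) (congrArg CommaMorphism.left h2)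
      exact ⟨q' l, by rw [← Scheme.Hom.comp_apply, hq', Scheme.Hom.comp_apply, hl]⟩
    · rintro ⟨a, ha⟩
      obtain ⟨L, p, q, l, hpq, hl⟩ := exists_field_point e (snd (AMonS S M) Z).left a r ha.symm
      let V : Over S := Over.mk (p ≫ (AMonS S M ⊗ Z).hom)
      let P : V ⟶ AMonS S M ⊗ Z := Over.homMk p rfl
      have h1 : (P ≫ snd _ _) ≫ y.1 = (P ≫ snd _ _) ≫ y'.1 := Over.OverMorphism.ext <| by
        change (p ≫ (snd (AMonS S M) Z).left) ≫ _ = (p ≫ (snd (AMonS S M) Z).left) ≫ _
        rw [hpq]; exact hof q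
      have h2 := (hinv (P ≫ fst _ _) (P ≫ snd _ _)).1 h1
      rw [lift_comp_fst_snd] at h2
      obtain ⟨q', hq'⟩ := hto (p ≫ act.left) (congrArg CommaMorphism.left h2)
      exact ⟨q' l, by rw [← Scheme.Hom.comp_apply, hq', Scheme.Hom.comp_apply, hl]⟩
  -- the open where the equalizer is closed
  have hlc : IsLocallyClosed (Set.range e) := e.isLocallyClosed_range
  let O : Z.left.Opens := ⟨coborder (Set.range e), hlc.isOpen_coborder⟩
  have hO : O = ⊤ := by
    refine stable_open_eq_top_of_face hQ T O (fun r hr => ?_) (fun w => subset_coborder ?_)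
    · have e1 : act.left ⁻¹' coborder (Set.range e) = (snd (AMonS S M) Z).left ⁻¹' coborder (Set.range e) := by
        simp only [coborder, Set.preimage_compl, Set.preimage_sdiff]
        rw [(isOpenMap_act _).preimage_closure_eq_closure_preimage act.left.continuous,
          (isOpenMap_snd Z).preimage_closure_eq_closure_preimage (snd (AMonS S M) Z).left.continuous, hrange]
      have : r ∈ act.left ⁻¹' coborder (Set.range e) := by rw [e1]; exact hr
      exact this
    · obtain ⟨q, hq⟩ := hto (AMonS.faceMap S hQ ▷ T).left (congrArg CommaMorphism.left hface)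
      exact ⟨q w, by rw [← Scheme.Hom.comp_apply, hq]⟩
  have hcl : IsClosed (Set.range e) := coborder_eq_univ_iff.1 (congrArg (fun U : Z.left.Opens => (U : Set Z.left)) hO)
  haveI : IsClosedImmersion e := .of_isPreimmersion e hcl
  haveI : IsAffine Z.left := isAffine_amonS_tensor _ T
  haveI : IsAffine (pullback pr (pullback.diagonal X.hom)) := isAffine_of_isAffineHom e
  haveI : IsIso e := by
    refine IsClosedImmersion.isIso_iff_ker_eq_bot.2 (Scheme.IdealSheafData.ext_of_isAffine ?_)
    rw [Scheme.IdealSheafData.ideal_bot, Pi.bot_apply, eq_bot_iff, Scheme.Hom.ker_apply]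
    intro a ha
    refine Ideal.mem_bot.2 (hinj a fun i => ?_)
    obtain ⟨q, hq⟩ := hto (k i).left (congrArg CommaMorphism.left (hk i))
    rw [← hq, Scheme.Hom.comp_appTop, CommRingCat.comp_apply]
    exact (congrArg q.appTop (show e.appTop a = 0 from ha)).trans (map_zero _)
  apply Subtype.ext
  apply Over.OverMorphism.ext
  have := hof (inv e)
  rwa [IsIso.inv_hom_id, Category.id_comp, Category.id_comp] at this

end Groth.Agent.Mag88
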