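import Groth.Agent.Mag88.FaceTower

/-! Lifting equivariant maps from a face along étale morphisms from relatively affine schemes. -/

universe u

set_option maxHeartbeats 400000
set_option backward.isDefEq.respectTransparency false
set_option backward.isDefEq.respectTransparency.types false
set_option linter.style.haveILetI false
set_option linter.unusedVariables false
set_option linter.unusedSimpArgs false

open CategoryTheory CategoryTheory.Limits MonoidalCategory CartesianMonoidalCategory MonObj AlgebraicGeometry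
open Opposite Magnet Magnet.MonAct

noncomputable section

namespace Groth.Agent.Mag88

variable {S : Scheme.{u}} {M : Type} [AddCommGroup M] {N Q : AddSubmonoid M}
  {R : CommRingCat.{u}} (p : Spec R ⟶ S) (w : M →+ ℤ) (hw : ∀ n ∈ N, 0 ≤ w n ∧ (w n = 0 ↔ n ∈ Q))

variable [AddGroup.FG M] {X U : Over S} (aX : MonAct (AMonS S M) X) (aU : MonAct (AMonS S M) U)
  [IsAffineHom U.hom]

/-- An affine scheme over `U` and `Spec R` universal among such. -/
structure AffModel (p : Spec R ⟶ S) (U : Over S) where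
  /-- the ring -/
  B : CommRingCat.{u}
  /-- the structure map -/
  str : R ⟶ B
  /-- the point -/
  pt : Over.mk (Spec.map str ≫ p) ⟶ U
  ext : ∀ {Z : CommRingCat.{u}} (a b : B ⟶ Z), Spec.map a ≫ pt.left = Spec.map b ≫ pt.left →
    str ≫ a = str ≫ b → a = b
  exists_map : ∀ {Z : CommRingCat.{u}} (r : R ⟶ Z) (g : Spec Z ⟶ U.left), g ≫ U.hom = Spec.map r ≫ p →
    ∃ v : B ⟶ Z, Spec.map v ≫ pt.left = g ∧ str ≫ v = r

omit [AddGroup.FG M] in
theorem nonempty_affModel : Nonempty (AffModel p U) := by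
  let UT := pullback U.hom p
  haveI : IsAffineHom (pullback.snd U.hom p) :=
    MorphismProperty.pullback_snd (P := @IsAffineHom) U.hom p inferInstance
  haveI : IsAffine UT := isAffine_of_isAffineHom (pullback.snd U.hom p)
  let str : R ⟶ Γ(UT, ⊤) := Spec.preimage (UT.isoSpec.inv ≫ pullback.snd U.hom p)
  have hstr : Spec.map str = UT.isoSpec.inv ≫ pullback.snd U.hom p := Spec.map_preimage _
  refine ⟨{ B := Γ(UT, ⊤), str := str, pt := Over.homMk (UT.isoSpec.inv ≫ pullback.fst U.hom p) ?_,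
            ext := ?_, exists_map := ?_ }⟩
  · show _ = Spec.map str ≫ p
    rw [hstr, Category.assoc, Category.assoc, pullback.condition]
  · intro Z a b h₁ h₂
    change Spec.map a ≫ UT.isoSpec.inv ≫ pullback.fst U.hom p = Spec.map b ≫ UT.isoSpec.inv ≫ pullback.fst U.hom p at h₁
    refine Spec.map_injective ((cancel_mono UT.isoSpec.inv).1 (pullback.hom_ext ?_ ?_))
    · simpa only [Category.assoc] using h₁
    · rw [Category.assoc, Category.assoc, ← hstr, ← Spec.map_comp, ← Spec.map_comp, h₂]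
  · intro Z r g hg
    refine ⟨Spec.preimage (pullback.lift g (Spec.map r) hg ≫ UT.isoSpec.hom), ?_, ?_⟩
    · show _ ≫ UT.isoSpec.inv ≫ pullback.fst U.hom p = g
      rw [Spec.map_preimage, Category.assoc, Iso.hom_inv_id_assoc, pullback.lift_fst]
    · apply Spec.map_injective
      rw [Spec.map_comp, hstr, Spec.map_preimage, Category.assoc, Iso.hom_inv_id_assoc, pullback.lift_snd]

omit [AddGroup.FG M] [IsAffineHom U.hom] in
theorem mB_actPt {R' : CommRingCat.{u}} (q : Spec R ⟶ S) {q' : Spec R' ⟶ S} (φ : R ⟶ R') (e : Spec.map φ ≫ q = q')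
    (x : Over.mk q ⟶ U) :
    mB q φ e M ≫ lift (mg q M) (mProj q M ≫ x) ≫ aU.act =
      lift (mg q' M) (mProj q' M ≫ (Over.homMk (Spec.map φ) e : Over.mk q' ⟶ Over.mk q) ≫ x) ≫ aU.act := by
  rw [comp_lift_assoc, mB_mg, ← Category.assoc (mB _ _ _ _), mB_mProj, Category.assoc]

omit [AddGroup.FG M] [IsAffineHom U.hom] in
/-- The coaction on an affine model. -/
theorem exists_rho (L : AffModel p U) :
    ∃ ρ : L.B ⟶ CommRingCat.of (MonoidAlgebra L.B (Multiplicative M)),
      Spec.map ρ ≫ L.pt.left = (lift (mg (Spec.map L.str ≫ p) M) (mProj (Spec.map L.str ≫ p) M ≫ L.pt) ≫ aU.act).left ∧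
      L.str ≫ ρ = L.str ≫ CommRingCat.ofHom (algebraMap L.B _) := by
  obtain ⟨v, h₁, h₂⟩ := L.exists_map (Z := CommRingCat.of (MonoidAlgebra L.B (Multiplicative M)))
    (L.str ≫ CommRingCat.ofHom (algebraMap L.B _))
    (lift (mg (Spec.map L.str ≫ p) M) (mProj (Spec.map L.str ≫ p) M ≫ L.pt) ≫ aU.act).left (by
      rw [Over.w, Spec.map_comp, Category.assoc]
      rfl)
  exact ⟨v, h₁, h₂⟩

omit [IsAffineHom U.hom] in
theorem rho_comp (L : AffModel p U) (ρ : L.B ⟶ CommRingCat.of (MonoidAlgebra L.B (Multiplicative M)))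
    (hρ₁ : Spec.map ρ ≫ L.pt.left =
      (lift (mg (Spec.map L.str ≫ p) M) (mProj (Spec.map L.str ≫ p) M ≫ L.pt) ≫ aU.act).left)
    (hρ₂ : L.str ≫ ρ = L.str ≫ CommRingCat.ofHom (algebraMap L.B _))
    {Z : CommRingCat.{u}} (v : L.B ⟶ Z) (c : Z →+* MonoidAlgebra Z (Multiplicative M)) {pz : Spec Z ⟶ S}
    (hv : Spec.map v ≫ Spec.map L.str ≫ p = pz) (g : Over.mk pz ⟶ U) (hg : Spec.map v ≫ L.pt.left = g.left)
    (hc : Spec.map (CommRingCat.ofHom c) ≫ g.left = (lift (mg pz M) (mProj pz M ≫ g) ≫ aU.act).left)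
    (hcr : ∀ r, c ((L.str ≫ v) r) = algebraMap Z (MonoidAlgebra Z (Multiplicative M)) ((L.str ≫ v) r)) :
    ρ ≫ CommRingCat.ofHom (MonoidAlgebra.mapRingHom (Multiplicative M) v.hom) = v ≫ CommRingCat.ofHom c := by
  refine L.ext _ _ ?_ ?_
  · rw [Spec.map_comp, Spec.map_comp, Category.assoc, Category.assoc, hρ₁, hg, hc]
    have h1 := congrArg CommaMorphism.left (mB_actPt (M := M) aU (Spec.map L.str ≫ p) v hv L.pt)
    rw [show (Over.homMk (Spec.map v) hv : Over.mk pz ⟶ Over.mk (Spec.map L.str ≫ p)) ≫ L.pt = g from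
      Over.OverMorphism.ext hg] at h1
    exact h1
  · rw [← Category.assoc, hρ₂]
    refine CommRingCat.hom_ext (RingHom.ext fun r => ?_)
    exact (mapRingHom_algebraMap' v.hom (L.str r)).trans (hcr r).symm

/-- A compatible equivariant tower on the truncations comes from an equivariant map, for a relatively affine target. -/
theorem exists_algebraise (u : ∀ n, Over.mk (tp p w hw n) ⟶ U)
    (hju : ∀ n, tj p w hw n ≫ u (n + 1) = u n)
    (hEq : ∀ n, lift (mg (tp p w hw n) M) (mProj (tp p w hw n) M ≫ u n) ≫ aU.act = tD p w hw n ≫ u n) :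
    ∃ φ : (attr aU N).obj (op (Over.mk p)), ∀ n, tk p w hw n ≫ φ.1 = u n := by
  obtain ⟨L⟩ := nonempty_affModel p (U := U)
  obtain ⟨ρ, hρ₁, hρ₂⟩ := exists_rho p aU L
  let A : CommRingCat.{u} := CommRingCat.of (MonoidAlgebra R (Multiplicative ↥N))
  let aR : R ⟶ A := CommRingCat.ofHom (algebraMap R (MonoidAlgebra R (Multiplicative ↥N)))
  have hex : ∀ n, ∃ v : L.B ⟶ tr R w hw n, Spec.map v ≫ L.pt.left = (u n).left ∧ L.str ≫ v = aR ≫ trq R w hw n :=
    fun n => L.exists_map _ _ (by rw [Over.w (u n), Spec.map_comp, Category.assoc]; rfl)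
  choose v hv₁ hv₂ using hex
  have hvp : ∀ n, Spec.map (v n) ≫ Spec.map L.str ≫ p = tp p w hw n := fun n => by
    rw [← Spec.map_comp_assoc, hv₂, Spec.map_comp, Category.assoc]
    rfl
  have hvst : ∀ n, v (n + 1) ≫ trst R w hw n = v n := fun n => by
    refine L.ext _ _ ?_ ?_
    · rw [Spec.map_comp, Category.assoc, hv₁, hv₁]
      exact congrArg CommaMorphism.left (hju n)
    · rw [← Category.assoc, hv₂, hv₂, Category.assoc, trq_trst]
  have hρv := fun n =>
    rho_comp p aU L ρ hρ₁ hρ₂ (v n) (truncCoact R w hw n) (hvp n) (u n) (hv₁ n)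
      (congrArg CommaMorphism.left (hEq n)).symm (fun r => by rw [hv₂]; exact trq_algebraMap w hw n r)
  classical
  obtain ⟨vlim, hvlim⟩ := exists_ringHom_of_trunc w hw (fun n => (v n).hom) (fun n => congrArg CommRingCat.Hom.hom (hvst n))
    (fun b => (ρ b).coeff.support.image Multiplicative.toAdd) (fun b n x hx m hm hmE => by
      have h1 : MonoidAlgebra.mapRingHom (Multiplicative M) (v n).hom (ρ b) = truncCoact R w hw n (v n b) :=
        congr($(hρv n) b)
      have hx' : v n b = Ideal.Quotient.mk _ x := hx.symm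
      rw [hx', truncCoact, Ideal.Quotient.lift_mk, RingHom.comp_apply] at h1
      have h2 := congrArg (fun t => MonoidAlgebra.coeff t (Multiplicative.ofAdd (m : M))) h1
      simp only [MonoidAlgebra.coeff_mapRingHom] at h2
      have hρ0 : (ρ b).coeff (Multiplicative.ofAdd (m : M)) = 0 := by
        by_contra hne
        exact hmE (Finset.mem_image.2 ⟨_, Finsupp.mem_support_iff.2 hne, rfl⟩)
      rw [(coeff_coact x (m : M)).1 m.2, hρ0, map_zero] at h2
      have h3 := Ideal.Quotient.eq_zero_iff_mem.1 h2.symm m hm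
      simpa using h3)
  let vI : L.B ⟶ A := CommRingCat.ofHom vlim
  have hvI : ∀ n, vI ≫ trq R w hw n = v n := fun n => CommRingCat.hom_ext (hvlim n)
  have hsR : L.str ≫ vI = aR := by
    refine CommRingCat.hom_ext (RingHom.ext fun r => truncIdeal_ext w hw fun n => ?_)
    have := congr($(hv₂ n) r)
    rw [← hvI] at this
    exact this
  have hIp : Spec.map vI ≫ Spec.map L.str ≫ p = (mQ p ↥N).hom := by
    rw [← Spec.map_comp_assoc, hsR]
    rfl
  let uI : mQ p ↥N ⟶ U := (Over.homMk (Spec.map vI) hIp : mQ p ↥N ⟶ Over.mk (Spec.map L.str ≫ p)) ≫ L.pt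
  have huI : ∀ n, tκ p w hw n ≫ uI = u n := fun n => by
    apply Over.OverMorphism.ext
    change Spec.map (trq R w hw n) ≫ Spec.map vI ≫ L.pt.left = _
    rw [← Spec.map_comp_assoc, hvI, hv₁]
  have hρI : ρ ≫ CommRingCat.ofHom (MonoidAlgebra.mapRingHom (Multiplicative M) vI.hom) =
      vI ≫ CommRingCat.ofHom (coact R N) := by
    refine CommRingCat.hom_ext (RingHom.ext fun b => MonoidAlgebra.ext (Finsupp.ext fun m => truncIdeal_ext w hw fun n => ?_))
    have h1 : MonoidAlgebra.mapRingHom (Multiplicative M) (v n).hom (ρ b) = truncCoact R w hw n (v n b) :=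
      congr($(hρv n) b)
    have h2 := congrArg (fun t => MonoidAlgebra.coeff t m) h1
    have hvb : v n b = Ideal.Quotient.mk _ (vlim b) := (congr($(hvI n) b)).symm
    simp only [hvb, truncCoact, Ideal.Quotient.lift_mk, RingHom.comp_apply, MonoidAlgebra.coeff_mapRingHom] at h2
    change Ideal.Quotient.mk _ ((MonoidAlgebra.mapRingHom (Multiplicative M) vlim (ρ b)).coeff m) =
      Ideal.Quotient.mk _ ((coact R N (vlim b)).coeff m)
    rw [MonoidAlgebra.coeff_mapRingHom, ← h2, ← hvI n]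
    rfl
  have hEqI : lift (mg (mQ p ↥N).hom M) (mProj (mQ p ↥N).hom M ≫ uI) ≫ aU.act = mQcoact p M N ≫ uI := by
    refine (mB_actPt (M := M) aU (Spec.map L.str ≫ p) vI hIp L.pt).symm.trans ?_
    apply Over.OverMorphism.ext
    change Spec.map _ ≫ (lift (mg (Spec.map L.str ≫ p) M) (mProj (Spec.map L.str ≫ p) M ≫ L.pt) ≫ aU.act).left =
      Spec.map _ ≫ Spec.map vI ≫ L.pt.left
    rw [← hρ₁, ← Spec.map_comp_assoc, ← Spec.map_comp_assoc, hρI]
  haveI : IsIso (mMap p ↥N) := isIso_mMap' p ↥N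
  haveI : IsIso (mMap (mQ p ↥N).hom M) := isIso_mMap' (mQ p ↥N).hom M
  let φ : AMonS S N ⊗ Over.mk p ⟶ U := inv (mMap p ↥N) ≫ uI
  have hφe : mMap p ↥N ≫ φ = uI := IsIso.hom_inv_id_assoc _ _
  have hφ : IsEquivariant ((subAct S M N).prod (MonAct.trivial (AMonS S M) (Over.mk p))) aU φ := by
    unfold IsEquivariant
    have key : lift (mg (mQ p ↥N).hom M) (mProj (mQ p ↥N).hom M ≫ mMap p ↥N) ≫
        ((subAct S M N).prod (MonAct.trivial (AMonS S M) (Over.mk p))).act ≫ φ =
        lift (mg (mQ p ↥N).hom M) (mProj (mQ p ↥N).hom M ≫ mMap p ↥N) ≫ (AMonS S M ◁ φ) ≫ aU.act := by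
      rw [← reassoc_of% (mQcoact_mMap (M := M) (N := N) p), hφe, lift_whiskerLeft_assoc, Category.assoc, hφe]
      exact hEqI.symm
    have e1 : lift (mg (mQ p ↥N).hom M) (mProj (mQ p ↥N).hom M ≫ mMap p ↥N) =
        mMap (mQ p ↥N).hom M ≫ (AMonS S M ◁ mMap p ↥N) := by
      rw [mMap_eq_lift (mQ p ↥N).hom, lift_whiskerLeft]
    rw [e1] at key
    exact (cancel_epi (mMap (mQ p ↥N).hom M ≫ (AMonS S M ◁ mMap p ↥N))).1 key
  refine ⟨⟨φ, hφ⟩, fun n => ?_⟩
  change tk p w hw n ≫ φ = u n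
  rw [tk, Category.assoc, hφe, huI]

variable (f : U ⟶ X) [Etale f.left] (hf : IsEquivariant aU aX f)

include hf in
/-- Lifting from a face along an étale morphism from a relatively affine scheme. -/
theorem exists_face_lift_affine (hQ : IsFace N Q) (hN : N.FG) (y : (attr aX N).obj (op (Over.mk p)))
    (ψ : (attr aU Q).obj (op (Over.mk p))) (h : (AMonS.faceMap S hQ ▷ Over.mk p) ≫ y.1 = ψ.1 ≫ f) :
    ∃ φ : (attr aU N).obj (op (Over.mk p)), φ.1 ≫ f = y.1 ∧ (AMonS.faceMap S hQ ▷ Over.mk p) ≫ φ.1 = ψ.1 := by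
  obtain ⟨w, hw⟩ := exists_weight_fg hN hQ
  obtain ⟨u, hu, hju, hEq, hu0⟩ := exists_tower p w hw aX aU f hf hQ y ψ h
  obtain ⟨φ, hφ⟩ := exists_algebraise p w hw aU u hju hEq
  have hface : (AMonS.faceMap S hQ ▷ Over.mk p) ≫ φ.1 = ψ.1 :=
    cancel_tσ p w hw hQ (by rw [← Category.assoc, tσ_tk, hφ, hu0])
  refine ⟨φ, ?_, hface⟩
  haveI : IsAffine (Over.mk p).left := inferInstanceAs (IsAffine (Spec R))
  let y' : (attr aX N).obj (op (Over.mk p)) := ⟨φ.1 ≫ f, IsEquivariant.comp φ.2 hf⟩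
  refine congrArg Subtype.val (attr_ext_of_thickenings aX hQ y' y (fun n => Over.mk (tp p w hw n))
    (tk p w hw) (fun n => ?_) ?_ (tk_separating p w hw))
  · change tk p w hw n ≫ φ.1 ≫ f = tk p w hw n ≫ y.1
    rw [← Category.assoc, hφ, hu]
  · change (AMonS.faceMap S hQ ▷ Over.mk p) ≫ φ.1 ≫ f = _
    rw [← Category.assoc, hface, h]

end Groth.Agent.Mag88
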