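import Groth.Agent.Mag88.FacePushout

/-! The cartesian square of attractors attached to `N' = L' \ (L \ N)`. -/

universe u

set_option backward.isDefEq.respectTransparency false
set_option backward.isDefEq.respectTransparency.types false

open CategoryTheory CategoryTheory.Limits MonoidalCategory CartesianMonoidalCategory MonObj AlgebraicGeometry
open Opposite Magnet Magnet.MonAct

noncomputable section

namespace Groth.Agent.Mag88

variable {S : Scheme.{u}} {M : Type} [AddCommMonoid M] {X : Over S} (a : MonAct (AMonS S M) X)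
  {N N' L L' : AddSubmonoid M} (hNL : N ≤ L) (hN'L' : N' ≤ L') (hL : IsFace L' L) (hN : IsFace N' N)
  (hdiff : (N' : Set M) = (L' : Set M) \ ((L : Set M) \ (N : Set M)))

/-- An equivariant morphism times an object with trivial action is equivariant. -/
theorem isEquivariant_whiskerRight_trivial {A B B' : Over S} [MonObj A] (ρ : MonAct A B) (ρ' : MonAct A B') {k : B ⟶ B'}
    (hk : IsEquivariant ρ ρ' k) (T : Over S) :
    IsEquivariant (ρ.prod (trivial A T)) (ρ'.prod (trivial A T)) (k ▷ T) := by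
  rw [isEquivariant_iff] at hk ⊢
  intro T' g z
  rw [← lift_comp_fst_snd z, lift_prod_act_assoc, lift_whiskerRight, lift_whiskerRight, lift_prod_act,
    Category.assoc, hk, lift_trivial_act]

include hdiff in
theorem isPullback_attrMap_attrFace :
    IsPullback (attrMap a hN'L') (attrFace a hN) (attrFace a hL) (attrMap a hNL) := by
  refine IsPullback.of_forall_isPullback_app fun T => ?_
  obtain ⟨T⟩ := T
  have hpo := isPushout_faceMap_whiskerRight S hNL hN'L' hL hN hdiff T
  refine (Types.isPullback_iff _ _ _ _).2 ⟨?_, ?_, ?_⟩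
  · refine ConcreteCategory.hom_ext _ _ fun φ => Subtype.ext ?_
    change (AMonS.faceMap S hL ▷ T) ≫ (AMonS.map S (AddSubmonoid.inclusion hN'L') ▷ T) ≫ φ.1 =
      (AMonS.map S (AddSubmonoid.inclusion hNL) ▷ T) ≫ (AMonS.faceMap S hN ▷ T) ≫ φ.1
    rw [← Category.assoc, hpo.w, Category.assoc]
  · rintro φ ψ ⟨h₁, h₂⟩
    exact Subtype.ext (hpo.hom_ext (congrArg Subtype.val h₁) (congrArg Subtype.val h₂))
  · intro φ₁ φ₂ h
    have h' : (AMonS.faceMap S hL ▷ T) ≫ φ₁.1 = (AMonS.map S (AddSubmonoid.inclusion hNL) ▷ T) ≫ φ₂.1 :=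
      congrArg Subtype.val h
    let φ := hpo.desc φ₁.1 φ₂.1 h'
    have h1 : (AMonS.map S (AddSubmonoid.inclusion hN'L') ▷ T) ≫ φ = φ₁.1 := hpo.inl_desc _ _ _
    have h2 : (AMonS.faceMap S hN ▷ T) ≫ φ = φ₂.1 := hpo.inr_desc _ _ _
    refine ⟨⟨φ, ?_⟩, Subtype.ext h1, Subtype.ext h2⟩
    -- equivariance may be tested after composing with the two legs of the pushout
    have hq := isPushout_faceMap_whiskerRight S hNL hN'L' hL hN hdiff (AMonS S M ⊗ T)
    let σ := fun (B : Over S) =>
      (lift (snd _ _ ≫ fst _ _) (lift (fst _ _) (snd _ _ ≫ snd _ _)) : AMonS S M ⊗ (B ⊗ T) ⟶ B ⊗ (AMonS S M ⊗ T))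
    let σ' := fun (B : Over S) =>
      (lift (snd _ _ ≫ fst _ _) (lift (fst _ _) (snd _ _ ≫ snd _ _)) : B ⊗ (AMonS S M ⊗ T) ⟶ AMonS S M ⊗ (B ⊗ T))
    have hinv : ∀ B, σ B ≫ σ' B = 𝟙 _ := by
      intro B
      apply CartesianMonoidalCategory.hom_ext
      · simp [σ, σ']
      · apply CartesianMonoidalCategory.hom_ext <;> simp [σ, σ']
    have hnat : ∀ {B B' : Over S} (k : B ⟶ B'), (k ▷ (AMonS S M ⊗ T)) ≫ σ' B' = σ' B ≫ (AMonS S M ◁ (k ▷ T)) := by
      intro B B' k
      apply CartesianMonoidalCategory.hom_ext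
      · simp [σ']
      · apply CartesianMonoidalCategory.hom_ext <;> simp [σ']
    unfold IsEquivariant
    rw [← cancel_epi (𝟙 _), ← hinv, Category.assoc, Category.assoc]
    congr 1
    have e₁ : IsEquivariant ((subAct S M L').prod (trivial (AMonS S M) T)) ((subAct S M N').prod (trivial (AMonS S M) T))
        (AMonS.map S (AddSubmonoid.inclusion hN'L') ▷ T) :=
      isEquivariant_whiskerRight_trivial _ _ (isEquivariant_restrict_regular _ _ _ (by rw [← AMonS.map_comp]; rfl)) T
    have e₂ : IsEquivariant ((subAct S M N).prod (trivial (AMonS S M) T)) ((subAct S M N').prod (trivial (AMonS S M) T))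
        (AMonS.faceMap S hN ▷ T) :=
      isEquivariant_whiskerRight_trivial _ _ (isEquivariant_faceMapS S hN) T
    refine hq.hom_ext ?_ ?_
    · rw [reassoc_of% (hnat (AMonS.map S (AddSubmonoid.inclusion hN'L'))),
        reassoc_of% (hnat (AMonS.map S (AddSubmonoid.inclusion hN'L')))]
      congr 1
      rw [← MonoidalCategory.whiskerLeft_comp_assoc, h1, ← φ₁.2, ← Category.assoc, ← e₁, Category.assoc, h1]
    · rw [reassoc_of% (hnat (AMonS.faceMap S hN)), reassoc_of% (hnat (AMonS.faceMap S hN))]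
      congr 1
      rw [← MonoidalCategory.whiskerLeft_comp_assoc, h2, ← φ₂.2, ← Category.assoc, ← e₂, Category.assoc, h2]

end Groth.Agent.Mag88
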