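import Groth.Agent.Pinch2.Milnor
import Groth.Agent.Pinch2.Pairs
import Groth.Agent.S0433
import Groth.Prelude.Def_Magnet4

/-! The square of face morphisms attached to `N' = L' \ (L \ N)` is a pushout, universally in the base. -/

universe u

set_option backward.isDefEq.respectTransparency false
set_option backward.isDefEq.respectTransparency.types false
set_option linter.style.haveILetI false

open CategoryTheory CategoryTheory.Limits MonoidalCategory CartesianMonoidalCategory MonObj AlgebraicGeometry
open Opposite Magnet Magnet.MonAct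

noncomputable section

namespace Groth.Agent.Mag88

section Alg

variable (R : Type u) [CommRing R] {M : Type} [AddCommMonoid M] {N N' L L' : AddSubmonoid M}

/-- The inclusion of monoid algebras of nested submonoids. -/
abbrev inclAlg {A B : AddSubmonoid M} (h : A ≤ B) :
    MonoidAlgebra R (Multiplicative ↥A) →ₐ[R] MonoidAlgebra R (Multiplicative ↥B) :=
  (MonoidAlgebra.mapDomainBialgHom R (AddMonoidHom.toMultiplicative (AddSubmonoid.inclusion h))).toAlgHom

theorem inclAlg_single {A B : AddSubmonoid M} (h : A ≤ B) (n : ↥A) (r : R) :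
    inclAlg R h (MonoidAlgebra.single (Multiplicative.ofAdd n) r) =
      MonoidAlgebra.single (Multiplicative.ofAdd (⟨n, h n.2⟩ : ↥B)) r := by
  rw [inclAlg, BialgHom.coe_toAlgHom, MonoidAlgebra.mapDomainBialgHom_single]
  rfl

theorem coeff_inclAlg {A B : AddSubmonoid M} (h : A ≤ B) (x : MonoidAlgebra R (Multiplicative ↥A)) (m : ↥B) :
    (∀ hm : (m : M) ∈ A, (inclAlg R h x).coeff (Multiplicative.ofAdd m) = x.coeff (Multiplicative.ofAdd ⟨m, hm⟩)) ∧
      ((m : M) ∉ A → (inclAlg R h x).coeff (Multiplicative.ofAdd m) = 0) := by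
  classical
  induction x using MonoidAlgebra.induction_linear with
  | zero => simp
  | add a b ha hb =>
    refine ⟨fun hm => ?_, fun hm => ?_⟩
    · rw [map_add, MonoidAlgebra.coeff_add, Finsupp.add_apply, ha.1 hm, hb.1 hm, MonoidAlgebra.coeff_add,
        Finsupp.add_apply]
    · rw [map_add, MonoidAlgebra.coeff_add, Finsupp.add_apply, ha.2 hm, hb.2 hm, add_zero]
  | single n r =>
    obtain ⟨n, rfl⟩ := Multiplicative.ofAdd.surjective n
    rw [inclAlg_single]
    refine ⟨fun hm => ?_, fun hm => ?_⟩
    · simp only [MonoidAlgebra.coeff_single, Finsupp.single_apply]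
      refine if_congr ?_ rfl rfl
      simp [Subtype.ext_iff]
    · simp only [MonoidAlgebra.coeff_single, Finsupp.single_apply]
      rw [if_neg]
      intro e
      exact hm (by rw [← Multiplicative.ofAdd.injective e]; exact n.2)

theorem coeff_faceAlgHom {A F : AddSubmonoid M} (hF : IsFace A F) (x : MonoidAlgebra R (Multiplicative ↥A)) (f : ↥F) :
    (faceAlgHom R hF x).coeff (Multiplicative.ofAdd f) = x.coeff (Multiplicative.ofAdd ⟨f, hF.le f.2⟩) := by
  classical
  induction x using MonoidAlgebra.induction_linear with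
  | zero => simp
  | add a b ha hb =>
    rw [map_add, MonoidAlgebra.coeff_add, Finsupp.add_apply, ha, hb, MonoidAlgebra.coeff_add, Finsupp.add_apply]
  | single n r =>
    obtain ⟨n, rfl⟩ := Multiplicative.ofAdd.surjective n
    by_cases hn : (n : M) ∈ F
    · rw [faceAlgHom_single_of_mem R hF n hn]
      simp only [MonoidAlgebra.coeff_single, Finsupp.single_apply]
      refine if_congr ?_ rfl rfl
      simp [Subtype.ext_iff]
    · rw [faceAlgHom_single_of_not_mem R hF n hn]
      simp only [MonoidAlgebra.coeff_single, MonoidAlgebra.coeff_zero, Finsupp.single_apply, Finsupp.coe_zero,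
        Pi.zero_apply]
      rw [if_neg]
      intro e
      exact hn (by rw [Multiplicative.ofAdd.injective e]; exact f.2)

theorem inclAlg_injective {A B : AddSubmonoid M} (h : A ≤ B) : Function.Injective (inclAlg R h) := by
  intro x y e
  refine MonoidAlgebra.ext (Finsupp.ext fun n => ?_)
  obtain ⟨n, rfl⟩ := Multiplicative.ofAdd.surjective n
  rw [← (coeff_inclAlg R h x ⟨n, h n.2⟩).1 n.2, e, (coeff_inclAlg R h y ⟨n, h n.2⟩).1 n.2]

theorem faceAlgHom_surjective {A F : AddSubmonoid M} (hF : IsFace A F) : Function.Surjective (faceAlgHom R hF) :=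
  fun x => ⟨inclAlg R hF.le x, DFunLike.congr_fun (faceAlgHom_comp_mapDomain R hF) x⟩

variable (hNL : N ≤ L) (hN'L' : N' ≤ L') (hL : IsFace L' L) (hN : IsFace N' N)
  (hdiff : (N' : Set M) = (L' : Set M) \ ((L : Set M) \ (N : Set M)))

include hdiff in
theorem faceAlgHom_inclAlg :
    (faceAlgHom R hL).comp (inclAlg R hN'L') = (inclAlg R hNL).comp (faceAlgHom R hN) := by
  refine AlgHom.ext fun x => MonoidAlgebra.ext (Finsupp.ext fun l => ?_)
  obtain ⟨l, rfl⟩ := Multiplicative.ofAdd.surjective l
  rw [AlgHom.comp_apply, AlgHom.comp_apply, coeff_faceAlgHom]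
  by_cases hl : (l : M) ∈ N
  · rw [(coeff_inclAlg R hN'L' x _).1 (hN.le hl), (coeff_inclAlg R hNL _ l).1 hl, coeff_faceAlgHom]
  · rw [(coeff_inclAlg R hNL _ l).2 hl, (coeff_inclAlg R hN'L' x _).2]
    intro h
    have h' : (l : M) ∈ (N' : Set M) := h
    rw [hdiff] at h'
    exact h'.2 ⟨l.2, hl⟩

include hNL hdiff in
theorem exists_fibre (x : MonoidAlgebra R (Multiplicative ↥L')) (y : MonoidAlgebra R (Multiplicative ↥N))
    (h : faceAlgHom R hL x = inclAlg R hNL y) :
    ∃ z, inclAlg R hN'L' z = x ∧ faceAlgHom R hN z = y := by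
  classical
  let e : Multiplicative ↥N' → Multiplicative ↥L' := fun n =>
    Multiplicative.ofAdd ⟨((Multiplicative.toAdd n : ↥N') : M), hN'L' (Multiplicative.toAdd n).2⟩
  have he : Function.Injective e := by
    intro a b hab
    exact Multiplicative.toAdd.injective (Subtype.ext (congrArg (fun t : Multiplicative ↥L' =>
      ((Multiplicative.toAdd t : ↥L') : M)) hab))
  let z : MonoidAlgebra R (Multiplicative ↥N') := MonoidAlgebra.comapDomain e he x
  have hz : inclAlg R hN'L' z = x := by
    refine MonoidAlgebra.ext (Finsupp.ext fun m => ?_)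
    obtain ⟨m, rfl⟩ := Multiplicative.ofAdd.surjective m
    by_cases hm : (m : M) ∈ N'
    · rw [(coeff_inclAlg R hN'L' z m).1 hm, MonoidAlgebra.coeff_comapDomain, Finsupp.comapDomain_apply]
      rfl
    · rw [(coeff_inclAlg R hN'L' z m).2 hm]
      have hm' : (m : M) ∈ (L : Set M) \ (N : Set M) := by
        by_contra hc
        exact hm (show (m : M) ∈ (N' : Set M) by rw [hdiff]; exact ⟨m.2, hc⟩)
      have := congrArg (fun t => MonoidAlgebra.coeff t (Multiplicative.ofAdd ⟨(m : M), hm'.1⟩)) h
      simp only [coeff_faceAlgHom] at this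
      rw [(coeff_inclAlg R hNL y _).2 hm'.2] at this
      exact this.symm
  refine ⟨z, hz, inclAlg_injective R hNL ?_⟩
  rw [← AlgHom.comp_apply, ← faceAlgHom_inclAlg R hNL hN'L' hL hN hdiff, AlgHom.comp_apply, hz, h]

include hdiff in
theorem isPullback_faceRings :
    IsPullback (CommRingCat.ofHom (faceAlgHom R hN).toRingHom) (CommRingCat.ofHom (inclAlg R hN'L').toRingHom)
      (CommRingCat.ofHom (inclAlg R hNL).toRingHom) (CommRingCat.ofHom (faceAlgHom R hL).toRingHom) := by
  have w : CommRingCat.ofHom (faceAlgHom R hN).toRingHom ≫ CommRingCat.ofHom (inclAlg R hNL).toRingHom =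
      CommRingCat.ofHom (inclAlg R hN'L').toRingHom ≫ CommRingCat.ofHom (faceAlgHom R hL).toRingHom :=
    CommRingCat.hom_ext (RingHom.ext fun x => (DFunLike.congr_fun (faceAlgHom_inclAlg R hNL hN'L' hL hN hdiff) x).symm)
  refine IsPullback.of_map (forget CommRingCat) w ((Types.isPullback_iff _ _ _ _).2 ⟨?_, ?_, ?_⟩)
  · rw [← Functor.map_comp, w, Functor.map_comp]
  · intro x y h
    exact inclAlg_injective R hN'L' h.2
  · intro y x h
    obtain ⟨z, h₁, h₂⟩ := exists_fibre R hNL hN'L' hL hN hdiff x y h.symm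
    exact ⟨z, h₂, h₁⟩

include hdiff in
/-- The pushout of affine schemes. -/
theorem isPushout_faceMap_spec :
    IsPushout (AMon.faceMap R hL).left (AMon.map R (AddSubmonoid.inclusion hNL)).left
      (AMon.map R (AddSubmonoid.inclusion hN'L')).left (AMon.faceMap R hN).left := by
  have hp := isPullback_faceRings R hNL hN'L' hL hN hdiff
  refine IsPushout.of_iso (Groth.Agent.S0433.result (faceAlgHom R hL).toRingHom (faceAlgHom_surjective R hL)
      (inclAlg R hNL).toRingHom) (Iso.refl _) (Iso.refl _) (Iso.refl _)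
      (Scheme.Spec.mapIso hp.isoPullback.op) ?_ ?_ ?_ ?_
  · exact (Category.comp_id _).trans (Category.id_comp _).symm
  · exact (Category.comp_id _).trans (Category.id_comp _).symm
  · show Spec.map _ ≫ Spec.map hp.isoPullback.hom = 𝟙 _ ≫ Spec.map _
    rw [Category.id_comp, ← Spec.map_comp, hp.isoPullback_hom_snd]
    rfl
  · show Spec.map _ ≫ Spec.map hp.isoPullback.hom = 𝟙 _ ≫ Spec.map _
    rw [Category.id_comp, ← Spec.map_comp, hp.isoPullback_hom_fst]
    rfl

end Alg

section Geometry

variable {S : Scheme.{u}}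

theorem isPullback_whiskerRight_fst {A B : Over S} (k : A ⟶ B) (T : Over S) :
    IsPullback (fst A T).left (k ▷ T).left k.left (fst B T).left := by
  refine Pinch2.isPullback_of_lift (Over.w k) T.hom (k ▷ T).left ?_ ?_
  · exact congrArg CommaMorphism.left (whiskerRight_fst k T)
  · exact congrArg CommaMorphism.left (whiskerRight_snd k T)

/-- A pushout along a closed immersion with flat glued locus stays a pushout after a product with any object. -/
theorem isPushout_whiskerRight {Z X Y P : Over S} {i : Z ⟶ X} {j : Z ⟶ Y} {a : X ⟶ P} {b : Y ⟶ P}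
    [IsClosedImmersion i.left] [IsAffineHom a.left] [IsAffineHom b.left]
    (hpo : IsPushout i.left j.left a.left b.left) [Flat Z.hom] (T : Over S) :
    IsPushout (i ▷ T) (j ▷ T) (a ▷ T) (b ▷ T) := by
  have w : i ≫ a = j ≫ b := Over.OverMorphism.ext hpo.w
  have hT : IsPushout (i ▷ T).left (j ▷ T).left (a ▷ T).left (b ▷ T).left := by
    refine Pinch2.isPushout_baseChange_of_flat (r := P.hom) (g := T.hom) (IsPullback.of_hasPullback P.hom T.hom)
      (isPullback_whiskerRight_fst a T) (isPullback_whiskerRight_fst b T) (isPullback_whiskerRight_fst i T) ?_ ?_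
      (Pinch2.hasPairs_of_cover hpo.w) hpo (Or.inr ?_)
    · exact congrArg CommaMorphism.left (whiskerRight_fst j T)
    · rw [← Over.comp_left, ← Over.comp_left, ← comp_whiskerRight, ← comp_whiskerRight, w]
    · rw [Over.w a, Over.w i]
      infer_instance
  exact IsPushout.of_map (Over.forget S) (by rw [← comp_whiskerRight, ← comp_whiskerRight, w]) hT

variable (S) in
theorem isPullback_bcMapLeft {S₀ : Scheme.{u}} (f : S ⟶ S₀) {A B : Over S₀} (k : A ⟶ B) :
    IsPullback (pullback.fst A.hom f) ((Over.pullback f).map k).left k.left (pullback.fst B.hom f) := by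
  refine Pinch2.isPullback_of_lift (Over.w k) f ((Over.pullback f).map k).left ?_ ?_
  · simp [Over.pullback]
  · exact Over.w ((Over.pullback f).map k)

variable {M : Type} [AddCommMonoid M] {N N' L L' : AddSubmonoid M}

instance isAffine_AMon_left {M' : Type} [AddCommMonoid M'] :
    IsAffine (AMon (ULift.{u} ℤ) M').left := inferInstanceAs (IsAffine (Spec _))

instance flat_AMon_hom {M' : Type} [AddCommMonoid M'] : Flat (AMon (ULift.{u} ℤ) M').hom := by
  show Flat (Spec.map (CommRingCat.ofHom (algebraMap (ULift.{u} ℤ) (MonoidAlgebra (ULift.{u} ℤ) (Multiplicative M')))))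
  rw [HasRingHomProperty.Spec_iff (P := @Flat)]
  exact RingHom.flat_algebraMap_iff.2 inferInstance

instance flat_AMonS_hom {M' : Type} [AddCommMonoid M'] : Flat (AMonS S M').hom :=
  MorphismProperty.of_isPullback (IsPullback.of_hasPullback (AMon (ULift.{u} ℤ) M').hom _) inferInstance

theorem isAffineHom_map_left {A B : Type} [AddCommMonoid A] [AddCommMonoid B] (φ : A →+ B) :
    IsAffineHom (AMonS.map S φ).left := by
  haveI : IsAffineHom (AMon.map (ULift.{u} ℤ) φ).left := inferInstance
  exact MorphismProperty.of_isPullback (isPullback_bcMapLeft S _ (AMon.map (ULift.{u} ℤ) φ)) this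

theorem isClosedImmersion_faceMap_left {A F : AddSubmonoid M} (hF : IsFace A F) :
    IsClosedImmersion (AMonS.faceMap S hF).left := by
  haveI : IsClosedImmersion (AMon.faceMap (ULift.{u} ℤ) hF).left :=
    IsClosedImmersion.spec_of_surjective _ (faceAlgHom_surjective _ hF)
  exact MorphismProperty.of_isPullback (isPullback_bcMapLeft S _ (AMon.faceMap (ULift.{u} ℤ) hF)) this

variable (S) (hNL : N ≤ L) (hN'L' : N' ≤ L') (hL : IsFace L' L) (hN : IsFace N' N)
  (hdiff : (N' : Set M) = (L' : Set M) \ ((L : Set M) \ (N : Set M)))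

include hdiff in
theorem faceMap_comm : AMonS.faceMap S hL ≫ AMonS.map S (AddSubmonoid.inclusion hN'L') =
    AMonS.map S (AddSubmonoid.inclusion hNL) ≫ AMonS.faceMap S hN := by
  rw [AMonS.faceMap, AMonS.faceMap, AMonS.map, AMonS.map, ← Functor.map_comp, ← Functor.map_comp]
  exact congrArg _ (Over.OverMorphism.ext (isPushout_faceMap_spec _ hNL hN'L' hL hN hdiff).w)

include hdiff in
theorem isPushout_faceMap_left :
    IsPushout (AMonS.faceMap S hL).left (AMonS.map S (AddSubmonoid.inclusion hNL)).left
      (AMonS.map S (AddSubmonoid.inclusion hN'L')).left (AMonS.faceMap S hN).left := by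
  have h0 := isPushout_faceMap_spec (ULift.{u} ℤ) hNL hN'L' hL hN hdiff
  haveI : IsClosedImmersion (AMon.faceMap (ULift.{u} ℤ) hL).left :=
    IsClosedImmersion.spec_of_surjective _ (faceAlgHom_surjective _ hL)
  let f₀ := Limits.IsTerminal.from specULiftZIsTerminal S
  refine Pinch2.isPushout_baseChange_of_flat (r := (AMon (ULift.{u} ℤ) ↥N').hom) (g := f₀)
    (IsPullback.of_hasPullback (AMon (ULift.{u} ℤ) ↥N').hom f₀) (isPullback_bcMapLeft S f₀ _) (isPullback_bcMapLeft S f₀ _)
    (isPullback_bcMapLeft S f₀ _) ?_ ?_ (Pinch2.hasPairs_of_cover h0.w) h0 (Or.inr ?_)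
  · exact (isPullback_bcMapLeft S f₀ (AMon.map (ULift.{u} ℤ) (AddSubmonoid.inclusion hNL))).w.symm
  · exact congrArg CommaMorphism.left (faceMap_comm S hNL hN'L' hL hN hdiff)
  · rw [Over.w (AMon.map (ULift.{u} ℤ) (AddSubmonoid.inclusion hN'L')), Over.w (AMon.faceMap (ULift.{u} ℤ) hL)]
    infer_instance

include hdiff in
theorem isPushout_faceMap :
    IsPushout (AMonS.faceMap S hL) (AMonS.map S (AddSubmonoid.inclusion hNL))
      (AMonS.map S (AddSubmonoid.inclusion hN'L')) (AMonS.faceMap S hN) :=
  IsPushout.of_map (Over.forget S) (faceMap_comm S hNL hN'L' hL hN hdiff) (isPushout_faceMap_left S hNL hN'L' hL hN hdiff)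

include hdiff in
theorem isPushout_faceMap_whiskerRight (T : Over S) :
    IsPushout (AMonS.faceMap S hL ▷ T) (AMonS.map S (AddSubmonoid.inclusion hNL) ▷ T)
      (AMonS.map S (AddSubmonoid.inclusion hN'L') ▷ T) (AMonS.faceMap S hN ▷ T) := by
  haveI := isClosedImmersion_faceMap_left (S := S) hL
  haveI := isAffineHom_map_left (S := S) (AddSubmonoid.inclusion hN'L')
  haveI := isClosedImmersion_faceMap_left (S := S) hN
  exact isPushout_whiskerRight (isPushout_faceMap_left S hNL hN'L' hL hN hdiff) T

end Geometry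

end Groth.Agent.Mag88
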