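import Groth.Agent.Mag88.AttrLfp
import Groth.Agent.SchBasics.FPCancel

/-! Face projections of attractors of smooth schemes are smooth. -/

universe u

set_option maxHeartbeats 1000000
set_option backward.isDefEq.respectTransparency false
set_option backward.isDefEq.respectTransparency.types false
set_option linter.style.haveILetI false

open CategoryTheory CategoryTheory.Limits MonoidalCategory CartesianMonoidalCategory MonObj AlgebraicGeometry
open Opposite Magnet Magnet.MonAct

noncomputable section

namespace Groth.Agent.Mag88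

variable {S : Scheme.{u}} {M : Type} [AddCommGroup M]

/-- The attractor of the base is the base. -/
def attrTerminal (N : AddSubmonoid M) :
    (attr (trivial (AMonS S M) (Over.mk (𝟙 S))) N).RepresentableBy (Over.mk (𝟙 S)) where
  homEquiv :=
    { toFun := fun _ => ⟨Over.mkIdTerminal.from _, Over.mkIdTerminal.hom_ext _ _⟩
      invFun := fun _ => Over.mkIdTerminal.from _
      left_inv := fun _ => Over.mkIdTerminal.hom_ext _ _
      right_inv := fun _ => Subtype.ext (Over.mkIdTerminal.hom_ext _ _) }
  homEquiv_comp _ _ := Subtype.ext (Over.mkIdTerminal.hom_ext _ _)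

variable {X : Over S} (a : MonAct (AMonS S M) X)

/-- Attractors of schemes locally of finite presentation are locally of finite presentation. -/
theorem locallyOfFinitePresentation_attr [LocallyOfFinitePresentation X.hom] (N : AddSubmonoid M) {Z : Over S}
    (e : (attr a N).RepresentableBy Z) : LocallyOfFinitePresentation Z.hom := by
  have hX : (Over.mkIdTerminal.from X).left = X.hom := by simp
  have hZ : (Over.mkIdTerminal.from Z).left = Z.hom := by simp
  haveI : LocallyOfFinitePresentation (Over.mkIdTerminal.from X).left := by rw [hX]; infer_instance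
  rw [← hZ]
  exact locallyOfFinitePresentation_attrPostcomp a (trivial (AMonS S M) (Over.mk (𝟙 S))) (Over.mkIdTerminal.from X)
    (Over.mkIdTerminal.hom_ext _ _) N e (attrTerminal N) (Over.mkIdTerminal.from Z)
    (fun T z => Subtype.ext (Over.mkIdTerminal.hom_ext _ _))

variable {N F : AddSubmonoid M} (hF : IsFace N F) {ZN ZF : Over S} (eN : (attr a N).RepresentableBy ZN)
  (eF : (attr a F).RepresentableBy ZF) (j : ZN ⟶ ZF)
  (hj : ∀ (T : Over S) (z : T ⟶ ZN), eF.homEquiv (z ≫ j) = (attrFace a hF).app (op T) (eN.homEquiv z))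

include hj in
theorem smooth_attrFace [Smooth X.hom] : Smooth j.left := by
  obtain ⟨hlfp, hfs⟩ := (Groth.Agent.S1488.result X.hom).1 inferInstance
  haveI := hlfp
  haveI hN := locallyOfFinitePresentation_attr a N eN
  haveI hF' := locallyOfFinitePresentation_attr a F eF
  haveI : LocallyOfFinitePresentation (j.left ≫ ZF.hom) := by rw [Over.w j]; exact hN
  haveI : LocallyOfFiniteType ZF.hom := inferInstance
  refine (Groth.Agent.S1488.result j.left).2 ⟨SchBasics.locallyOfFinitePresentation_of_comp j.left ZF.hom, ?_⟩
  intro A _ J hJ x y hxy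
  let str : Spec (CommRingCat.of A) ⟶ S := y ≫ ZF.hom
  let q : CommRingCat.of A ⟶ CommRingCat.of (A ⧸ J) := CommRingCat.ofHom (Ideal.Quotient.mk J)
  let zx : Over.mk (Spec.map q ≫ str) ⟶ ZN := Over.homMk x (by
    refine (congrArg (x ≫ ·) (Over.w j)).symm.trans ?_
    exact ((Category.assoc _ _ _).symm.trans (congrArg (· ≫ ZF.hom) hxy.symm)).trans (Category.assoc _ _ _))
  let zy : Over.mk str ⟶ ZF := Over.homMk y rfl
  let sq : Over.mk (Spec.map q ≫ str) ⟶ Over.mk str := Over.homMk (Spec.map q) rfl
  have hz : zx ≫ j = sq ≫ zy := Over.OverMorphism.ext hxy.symm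
  obtain ⟨l, hl₁, hl₂⟩ := attrFace_hasLift a hF hfs str q Ideal.Quotient.mk_surjective
    (fun x y hx hy => by
      have h2 : x * y ∈ J * J := Ideal.mul_mem_mul (Ideal.Quotient.eq_zero_iff_mem.1 hx) (Ideal.Quotient.eq_zero_iff_mem.1 hy)
      rw [← pow_two, hJ] at h2
      exact h2)
    (eN.homEquiv zx) (eF.homEquiv zy) (by
      refine (congrArg Subtype.val (hj _ zx)).symm.trans ?_
      rw [hz, eF.homEquiv_comp]
      rfl)
  refine ⟨(eN.homEquiv.symm l).left, ?_, ?_⟩
  · have : sq ≫ eN.homEquiv.symm l = zx := eN.homEquiv.injective (by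
      rw [eN.homEquiv_comp, Equiv.apply_symm_apply]
      exact Subtype.ext hl₁)
    exact congrArg CommaMorphism.left this
  · have : eN.homEquiv.symm l ≫ j = zy := eF.homEquiv.injective (by
      rw [hj, Equiv.apply_symm_apply]
      exact Subtype.ext hl₂)
    exact congrArg CommaMorphism.left this

end Groth.Agent.Mag88
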