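import Groth.Agent.Mag88.FaceTrunc
import Groth.Agent.Mag88.FaceAgree

/-! The tower of truncations of `A(N) × T` along a face, for an affine base. -/

universe u

set_option maxHeartbeats 400000
set_option backward.isDefEq.respectTransparency false
set_option backward.isDefEq.respectTransparency.types false
set_option linter.style.haveILetI false
set_option linter.unusedVariables false
set_option linter.unusedSimpArgs false

open CategoryTheory CategoryTheory.Limits MonoidalCategory CartesianMonoidalCategory MonObj AlgebraicGeometry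
open Opposite Magnet Magnet.MonAct

noncomputable section

namespace Groth.Agent.Mag88

variable {S : Scheme.{u}}

/-- Lifting along a formally smooth morphism. -/
theorem exists_lift_sqzero {X Y : Over S} (f : X ⟶ Y) (hsm : MoreMor.IsFormallySmoothHom f.left)
    {R R₀ : CommRingCat.{u}} (p : Spec R ⟶ S) (q : R ⟶ R₀) (hqs : Function.Surjective q)
    (hsq : ∀ x y, q x = 0 → q y = 0 → x * y = 0) {p₀ : Spec R₀ ⟶ S} (hp₀ : Spec.map q ≫ p = p₀)
    (x : Over.mk p₀ ⟶ X) (y : Over.mk p ⟶ Y)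
    (hxy : x ≫ f = (Over.homMk (Spec.map q) hp₀ : Over.mk p₀ ⟶ Over.mk p) ≫ y) :
    ∃ l : Over.mk p ⟶ X, (Over.homMk (Spec.map q) hp₀ : Over.mk p₀ ⟶ Over.mk p) ≫ l = x ∧ l ≫ f = y := by
  let I := RingHom.ker q.hom
  have hI : I ^ 2 = ⊥ := by
    rw [pow_two, eq_bot_iff, Ideal.mul_le]
    intro a ha b hb
    rw [Ideal.mem_bot]
    exact hsq a b ha hb
  let e : CommRingCat.of (R ⧸ I) ≅ R₀ := (RingHom.quotientKerEquivOfSurjective hqs).toCommRingCatIso
  have he : CommRingCat.ofHom (Ideal.Quotient.mk I) ≫ e.hom = q := by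
    refine CommRingCat.hom_ext (RingHom.ext fun r => ?_)
    exact RingHom.quotientKerEquivOfSurjective_apply_mk hqs r
  have he' : CommRingCat.ofHom (Ideal.Quotient.mk I) = q ≫ e.inv := by
    rw [← he, Category.assoc, e.hom_inv_id, Category.comp_id]
  have hc : Spec.map (CommRingCat.ofHom (Ideal.Quotient.mk I)) ≫ y.left = (Spec.map e.inv ≫ x.left) ≫ f.left := by
    rw [Category.assoc, ← Over.comp_left, hxy, Over.comp_left, ← Category.assoc, he', Spec.map_comp]
    rfl
  obtain ⟨l, hl₁, hl₂⟩ := hsm R I hI (Spec.map e.inv ≫ x.left) y.left hc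
  refine ⟨Over.homMk l (by rw [← Over.w f, reassoc_of% hl₂]; exact Over.w y), ?_, Over.OverMorphism.ext hl₂⟩
  apply Over.OverMorphism.ext
  show Spec.map q ≫ l = x.left
  rw [← he, Spec.map_comp, Category.assoc, hl₁, ← Category.assoc, ← Spec.map_comp, e.inv_hom_id, Spec.map_id,
    Category.id_comp]

variable {M : Type} [AddCommGroup M] {N Q : AddSubmonoid M}

theorem truncIdeal_ext (w : M →+ ℤ) (hw : ∀ n ∈ N, 0 ≤ w n ∧ (w n = 0 ↔ n ∈ Q)) {R : Type u} [CommRing R]
    {y z : MonoidAlgebra R (Multiplicative ↥N)}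
    (h : ∀ n, Ideal.Quotient.mk (truncIdeal w hw (n + 1)) y = Ideal.Quotient.mk (truncIdeal w hw (n + 1)) z) :
    y = z :=
  sub_eq_zero.1 (truncIdeal_eq_zero w hw fun n => Ideal.Quotient.eq.1 (h n))

theorem truncCoact_comp_truncStep {R : Type u} [CommRing R] (w : M →+ ℤ) (hw : ∀ n ∈ N, 0 ≤ w n ∧ (w n = 0 ↔ n ∈ Q))
    (n : ℕ) : (truncCoact R w hw n).comp (truncStep R w hw n) =
      (MonoidAlgebra.mapRingHom (Multiplicative M) (truncStep R w hw n)).comp (truncCoact R w hw (n + 1)) := by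
  refine Ideal.Quotient.ringHom_ext (RingHom.ext fun x => ?_)
  simp only [RingHom.comp_apply, truncStep, Ideal.Quotient.factor_mk, truncCoact, Ideal.Quotient.lift_mk]
  refine MonoidAlgebra.ext (Finsupp.ext fun m => ?_)
  simp only [MonoidAlgebra.coeff_mapRingHom, RingHom.comp_apply, Ideal.Quotient.factor_mk]

theorem coact_algebraMap {R : Type u} [CommRing R] (r : R) :
    coact R N (algebraMap R (MonoidAlgebra R (Multiplicative ↥N)) r) =
      algebraMap (MonoidAlgebra R (Multiplicative ↥N)) (MonoidAlgebra (MonoidAlgebra R (Multiplicative ↥N)) (Multiplicative M))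
        (algebraMap R _ r) := by
  have h : algebraMap R (MonoidAlgebra R (Multiplicative ↥N)) r = MonoidAlgebra.single (Multiplicative.ofAdd 0) r := by
    simp [MonoidAlgebra.coe_algebraMap]
  rw [h, coact_single]
  simp [MonoidAlgebra.coe_algebraMap]

theorem mapRingHom_algebraMap' {G : Type} [AddCommMonoid G] {A A' : Type u} [CommRing A] [CommRing A'] (g : A →+* A') (a : A) :
    MonoidAlgebra.mapRingHom (Multiplicative G) g (algebraMap A (MonoidAlgebra A (Multiplicative G)) a) =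
      algebraMap A' (MonoidAlgebra A' (Multiplicative G)) (g a) := by
  simp only [MonoidAlgebra.coe_algebraMap, Function.comp_apply, Algebra.algebraMap_self, RingHom.id_apply,
    MonoidAlgebra.mapRingHom_single]

variable {R : CommRingCat.{u}} (p : Spec R ⟶ S)

/-- The face morphism of monoid algebras over an affine base. -/
def mQface (hQ : IsFace N Q) : mQ p ↥Q ⟶ mQ p ↥N :=
  Over.homMk (Spec.map (CommRingCat.ofHom (faceAlgHom R hQ).toRingHom)) (by
    change Spec.map _ ≫ Spec.map _ ≫ p = Spec.map _ ≫ p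
    rw [← Category.assoc, ← Spec.map_comp, ← CommRingCat.ofHom_comp]
    exact congrArg (fun q => Spec.map (CommRingCat.ofHom q) ≫ p) (faceAlgHom R hQ).comp_algebraMap)

theorem mQface_mMap (hQ : IsFace N Q) :
    mQface p hQ ≫ mMap p ↥N = mMap p ↥Q ≫ (AMonS.faceMap S hQ ▷ Over.mk p) := by
  apply CartesianMonoidalCategory.hom_ext
  · refine aFn_ext fun m => ?_
    rw [Category.assoc, aFn_comp_mMap_fst, Category.assoc, whiskerRight_fst, ← Category.assoc, aFn_comp_faceMap]
    change gFn (𝟙 (Spec (CommRingCat.of (MonoidAlgebra R (Multiplicative ↥Q)))) ≫ Spec.map _) _ = _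
    rw [gFn_specMap, CommRingCat.comp_apply]
    by_cases hm : (m : M) ∈ Q
    · rw [dif_pos hm, ← Category.id_comp (mMap p ↥Q), Category.assoc, aFn_comp_mMap_fst]
      exact congrArg (gFn _) (faceAlgHom_single_of_mem R hQ m hm 1)
    · rw [dif_neg hm]
      exact (congrArg (gFn _) (faceAlgHom_single_of_not_mem R hQ m hm 1)).trans (map_zero _)
  · rw [Category.assoc, Category.assoc, mMap, mMap, lift_snd, whiskerRight_snd, lift_snd]
    apply Over.OverMorphism.ext
    change Spec.map _ ≫ Spec.map _ = Spec.map _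
    rw [← Spec.map_comp, ← CommRingCat.ofHom_comp]
    exact congrArg (fun q => Spec.map (CommRingCat.ofHom q)) (faceAlgHom R hQ).comp_algebraMap

/-- The action on `Spec R[N]` given by the coaction. -/
def mQcoact (M : Type) [AddCommGroup M] (N : AddSubmonoid M) : mQ (mQ p ↥N).hom M ⟶ mQ p ↥N :=
  Over.homMk (Spec.map (CommRingCat.ofHom (coact R N))) (by
    change Spec.map _ ≫ Spec.map _ ≫ p = Spec.map _ ≫ Spec.map _ ≫ p
    rw [← Category.assoc, ← Category.assoc, ← Spec.map_comp, ← Spec.map_comp]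
    congr 2
    exact CommRingCat.hom_ext (RingHom.ext fun r => coact_algebraMap r))

theorem mQcoact_mMap : mQcoact p M N ≫ mMap p ↥N =
    lift (mg (mQ p ↥N).hom M) (mProj (mQ p ↥N).hom M ≫ mMap p ↥N) ≫
      ((subAct S M N).prod (MonAct.trivial (AMonS S M) (Over.mk p))).act := by
  conv_rhs => rw [← lift_comp_fst_snd (mProj (mQ p ↥N).hom M ≫ mMap p ↥N), lift_prod_act, lift_trivial_act,
    lift_subAct_map]
  apply CartesianMonoidalCategory.hom_ext
  · rw [lift_fst]
    refine aFn_ext fun m => ?_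
    rw [Category.assoc, aFn_comp_mMap_fst, aFn_mul, aFn_map, Category.assoc, aFn_comp_mMap_fst,
      ← Category.id_comp (mg (mQ p ↥N).hom M), aFn_comp_mg]
    change gFn (𝟙 (Spec _) ≫ Spec.map _) _ = gFn (𝟙 (Spec _)) _ * gFn (𝟙 (Spec _) ≫ Spec.map _) _
    rw [gFn_specMap, gFn_specMap, CommRingCat.comp_apply, CommRingCat.comp_apply, ← map_mul]
    refine congrArg _ ?_
    refine (coact_single m 1).trans ?_
    simp [MonoidAlgebra.coe_algebraMap, MonoidAlgebra.single_mul_single]
  · rw [lift_snd, Category.assoc, Category.assoc, mMap, lift_snd]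
    apply Over.OverMorphism.ext
    change Spec.map _ ≫ Spec.map _ = Spec.map _ ≫ Spec.map _
    rw [← Spec.map_comp, ← Spec.map_comp]
    congr 1
    exact CommRingCat.hom_ext (RingHom.ext fun r => coact_algebraMap r)

variable (w : M →+ ℤ) (hw : ∀ n ∈ N, 0 ≤ w n ∧ (w n = 0 ↔ n ∈ Q))

variable (R) in
/-- The truncated ring. -/
abbrev tr (n : ℕ) : CommRingCat.{u} := CommRingCat.of (TruncRing R w hw n)

variable (R) in
/-- The quotient map. -/
def trq (n : ℕ) : CommRingCat.of (MonoidAlgebra R (Multiplicative ↥N)) ⟶ tr R w hw n :=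
  CommRingCat.ofHom (Ideal.Quotient.mk (truncIdeal w hw (n + 1)))

variable (R) in
/-- The transition map. -/
def trst (n : ℕ) : tr R w hw (n + 1) ⟶ tr R w hw n := CommRingCat.ofHom (truncStep R w hw n)

theorem trq_trst (n : ℕ) : trq R w hw (n + 1) ≫ trst R w hw n = trq R w hw n :=
  CommRingCat.hom_ext (Ideal.Quotient.factor_comp_mk (truncIdeal_antitone (R := R) w hw (Nat.le_succ (n + 1))))

/-- The structure map of a truncation. -/
abbrev tp (n : ℕ) : Spec (tr R w hw n) ⟶ S := Spec.map (trq R w hw n) ≫ (mQ p ↥N).hom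

theorem trst_tp (n : ℕ) : Spec.map (trst R w hw n) ≫ tp p w hw (n + 1) = tp p w hw n := by
  simp only [tp, ← Spec.map_comp_assoc, trq_trst]

/-- The inclusion of a truncation into the next. -/
def tj (n : ℕ) : Over.mk (tp p w hw n) ⟶ Over.mk (tp p w hw (n + 1)) :=
  Over.homMk (Spec.map (trst R w hw n)) (trst_tp p w hw n)

/-- The inclusion of a truncation into `Spec R[N]`. -/
def tκ (n : ℕ) : Over.mk (tp p w hw n) ⟶ mQ p ↥N := Over.homMk (Spec.map (trq R w hw n)) rfl

/-- The inclusion of a truncation into `A(N) × T`. -/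
def tk (n : ℕ) : Over.mk (tp p w hw n) ⟶ AMonS S N ⊗ Over.mk p := tκ p w hw n ≫ mMap p ↥N

theorem tj_tk (n : ℕ) : tj p w hw n ≫ tk p w hw (n + 1) = tk p w hw n := by
  rw [tk, tk, ← Category.assoc]
  congr 1
  apply Over.OverMorphism.ext
  change Spec.map _ ≫ Spec.map _ = Spec.map _
  rw [← Spec.map_comp, trq_trst]

theorem trq_algebraMap (n : ℕ) (r : R) :
    truncCoact R w hw n (trq R w hw n (algebraMap R (MonoidAlgebra R (Multiplicative ↥N)) r)) =
      algebraMap (TruncRing R w hw n) (MonoidAlgebra (TruncRing R w hw n) (Multiplicative M))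
        (trq R w hw n (algebraMap R (MonoidAlgebra R (Multiplicative ↥N)) r)) := by
  refine (Ideal.Quotient.lift_mk _ _ _).trans ?_
  rw [RingHom.comp_apply, coact_algebraMap, mapRingHom_algebraMap']
  rfl

/-- The action on a truncation. -/
def tD (n : ℕ) : mQ (tp p w hw n) M ⟶ Over.mk (tp p w hw n) :=
  Over.homMk (Spec.map (CommRingCat.ofHom (truncCoact R w hw n))) (by
    change Spec.map _ ≫ Spec.map _ ≫ Spec.map _ ≫ p = Spec.map _ ≫ Spec.map _ ≫ Spec.map _ ≫ p
    simp only [← Category.assoc, ← Spec.map_comp]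
    congr 2
    exact CommRingCat.hom_ext (RingHom.ext fun r => trq_algebraMap w hw n r))

theorem tD_tκ (n : ℕ) : tD p w hw n ≫ tκ p w hw n =
    mB (mQ p ↥N).hom (trq R w hw n) rfl M ≫ mQcoact p M N := by
  apply Over.OverMorphism.ext
  change Spec.map _ ≫ Spec.map _ = Spec.map _ ≫ Spec.map _
  rw [← Spec.map_comp, ← Spec.map_comp]
  rfl

theorem tD_tk (n : ℕ) : tD p w hw n ≫ tk p w hw n =
    lift (mg (tp p w hw n) M) (mProj (tp p w hw n) M ≫ tk p w hw n) ≫
      ((subAct S M N).prod (MonAct.trivial (AMonS S M) (Over.mk p))).act := by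
  rw [tk, ← Category.assoc, tD_tκ, Category.assoc, mQcoact_mMap, comp_lift_assoc, mB_mg,
    ← Category.assoc (mB _ _ _ _), mB_mProj, Category.assoc]
  rfl

theorem mB_tD (n : ℕ) : mB (tp p w hw (n + 1)) (trst R w hw n) (trst_tp p w hw n) M ≫ tD p w hw (n + 1) =
    tD p w hw n ≫ tj p w hw n := by
  apply Over.OverMorphism.ext
  change Spec.map _ ≫ Spec.map _ = Spec.map _ ≫ Spec.map _
  rw [← Spec.map_comp, ← Spec.map_comp]
  congr 1
  exact CommRingCat.hom_ext (truncCoact_comp_truncStep w hw n).symm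

variable (R) in
/-- The map from `R[Q]` to the first truncation. -/
def tρ (hQ : IsFace N Q) : CommRingCat.of (MonoidAlgebra R (Multiplicative ↥Q)) ⟶ tr R w hw 0 :=
  CommRingCat.ofHom ((Ideal.Quotient.mk (truncIdeal w hw 1)).comp (inclAlg R hQ.le).toRingHom)

theorem face_tρ (hQ : IsFace N Q) :
    CommRingCat.ofHom (faceAlgHom R hQ).toRingHom ≫ tρ R w hw hQ = trq R w hw 0 := by
  refine CommRingCat.hom_ext (RingHom.ext fun x => ?_)
  refine Ideal.Quotient.eq.2 ((mem_truncIdeal_one w hw hQ).2 ?_)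
  rw [map_sub, sub_eq_zero]
  exact DFunLike.congr_fun (faceAlgHom_comp_mapDomain R hQ) _

/-- The first truncation over `Spec R[Q]`. -/
def tσ (hQ : IsFace N Q) : Over.mk (tp p w hw 0) ⟶ mQ p ↥Q := Over.homMk (Spec.map (tρ R w hw hQ)) (by
  have hc : CommRingCat.ofHom (algebraMap R (MonoidAlgebra R (Multiplicative ↥Q))) =
      CommRingCat.ofHom (algebraMap R (MonoidAlgebra R (Multiplicative ↥N))) ≫
        CommRingCat.ofHom (faceAlgHom R hQ).toRingHom :=
    CommRingCat.hom_ext (faceAlgHom R hQ).comp_algebraMap.symm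
  change Spec.map _ ≫ Spec.map _ ≫ p = Spec.map _ ≫ Spec.map _ ≫ p
  rw [← Spec.map_comp_assoc, ← Spec.map_comp_assoc, hc, Category.assoc, face_tρ])

theorem tσ_tk (hQ : IsFace N Q) :
    (tσ p w hw hQ ≫ mMap p ↥Q) ≫ (AMonS.faceMap S hQ ▷ Over.mk p) = tk p w hw 0 := by
  rw [Category.assoc, ← mQface_mMap, tk, ← Category.assoc]
  congr 1
  apply Over.OverMorphism.ext
  change Spec.map _ ≫ Spec.map _ = Spec.map _
  rw [← Spec.map_comp, face_tρ]

theorem cancel_tσ (hQ : IsFace N Q) {V : Over S} {a b : AMonS S Q ⊗ Over.mk p ⟶ V}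
    (hab : (tσ p w hw hQ ≫ mMap p ↥Q) ≫ a = (tσ p w hw hQ ≫ mMap p ↥Q) ≫ b) : a = b := by
  haveI : IsIso (mMap p ↥Q) := isIso_mMap' p ↥Q
  let τr : tr R w hw 0 ⟶ CommRingCat.of (MonoidAlgebra R (Multiplicative ↥Q)) :=
    CommRingCat.ofHom (Ideal.Quotient.lift _ (faceAlgHom R hQ).toRingHom fun x hx => (mem_truncIdeal_one w hw hQ).1 hx)
  have hτ : Spec.map τr ≫ Spec.map (tρ R w hw hQ) = 𝟙 _ := by
    rw [← Spec.map_comp, ← Spec.map_id]
    congr 1
    refine CommRingCat.hom_ext (RingHom.ext fun x => ?_)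
    show faceAlgHom R hQ (inclAlg R hQ.le x) = x
    exact DFunLike.congr_fun (faceAlgHom_comp_mapDomain R hQ) x
  rw [← cancel_epi (mMap p ↥Q)]
  apply Over.OverMorphism.ext
  have h1 := congrArg (fun t => Spec.map τr ≫ CommaMorphism.left t) hab
  change Spec.map τr ≫ (Spec.map (tρ R w hw hQ) ≫ (mMap p ↥Q).left) ≫ _ =
    Spec.map τr ≫ (Spec.map (tρ R w hw hQ) ≫ (mMap p ↥Q).left) ≫ _ at h1
  simp only [Category.assoc, reassoc_of% hτ] at h1
  exact h1

theorem tk_separating (a : Γ((AMonS S N ⊗ Over.mk p).left, ⊤)) (ha : ∀ n, (tk p w hw n).left.appTop a = 0) :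
    a = 0 := by
  haveI : IsIso (mMap p ↥N).left := isIso_mMap p ↥N
  have key : ∀ n, trq R w hw n ((Scheme.ΓSpecIso _).hom ((mMap p ↥N).left.appTop a)) = 0 := fun n => by
    have h1 := congr($(Scheme.ΓSpecIso_naturality (trq R w hw n)) ((mMap p ↥N).left.appTop a))
    rw [CommRingCat.comp_apply, CommRingCat.comp_apply] at h1
    rw [← h1]
    have h2 := ha n
    rw [show (tk p w hw n).left = (tκ p w hw n).left ≫ (mMap p ↥N).left from rfl, Scheme.Hom.comp_appTop,
      CommRingCat.comp_apply] at h2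
    exact (congrArg _ h2).trans (map_zero _)
  have h0 : (Scheme.ΓSpecIso _).hom ((mMap p ↥N).left.appTop a) = 0 :=
    truncIdeal_eq_zero w hw fun n => Ideal.Quotient.eq_zero_iff_mem.1 (key n)
  have hinj : Function.Injective ((mMap p ↥N).left.appTop ≫ (Scheme.ΓSpecIso _).hom) :=
    (ConcreteCategory.bijective_of_isIso _).1
  refine hinj ?_
  rw [CommRingCat.comp_apply, CommRingCat.comp_apply]
  exact h0.trans (by rw [map_zero, map_zero])

variable [AddGroup.FG M] {X U : Over S} (aX : MonAct (AMonS S M) X) (aU : MonAct (AMonS S M) U)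
  (f : U ⟶ X) [Etale f.left] (hf : IsEquivariant aU aX f)

include hf in
/-- The tower of lifts of the restrictions of `y` to the truncations. -/
theorem exists_tower (hQ : IsFace N Q) (y : (attr aX N).obj (op (Over.mk p)))
    (ψ : (attr aU Q).obj (op (Over.mk p))) (h : (AMonS.faceMap S hQ ▷ Over.mk p) ≫ y.1 = ψ.1 ≫ f) :
    ∃ u : ∀ n, Over.mk (tp p w hw n) ⟶ U, (∀ n, u n ≫ f = tk p w hw n ≫ y.1) ∧
      (∀ n, tj p w hw n ≫ u (n + 1) = u n) ∧
      (∀ n, lift (mg (tp p w hw n) M) (mProj (tp p w hw n) M ≫ u n) ≫ aU.act = tD p w hw n ≫ u n) ∧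
      u 0 = (tσ p w hw hQ ≫ mMap p ↥Q) ≫ ψ.1 := by
  haveI hsmooth : Smooth f.left := inferInstance
  have hsm := ((Groth.Agent.S1488.result f.left).1 hsmooth).2
  have step : ∀ n (u : Over.mk (tp p w hw n) ⟶ U), u ≫ f = tk p w hw n ≫ y.1 →
      ∃ u' : Over.mk (tp p w hw (n + 1)) ⟶ U, u' ≫ f = tk p w hw (n + 1) ≫ y.1 ∧ tj p w hw n ≫ u' = u := by
    intro n u hu
    obtain ⟨l, hl₁, hl₂⟩ := exists_lift_sqzero f hsm (tp p w hw (n + 1)) (trst R w hw n) (truncStep_surjective w hw n)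
      (truncStep_sq w hw n) (trst_tp p w hw n) u (tk p w hw (n + 1) ≫ y.1) (by
        rw [hu, ← tj_tk, Category.assoc]
        rfl)
    exact ⟨l, hl₂, hl₁⟩
  choose next hnext₁ hnext₂ using step
  let U0 : {u : Over.mk (tp p w hw 0) ⟶ U // u ≫ f = tk p w hw 0 ≫ y.1} :=
    ⟨(tσ p w hw hQ ≫ mMap p ↥Q) ≫ ψ.1, by rw [Category.assoc, ← h, ← Category.assoc, tσ_tk]⟩
  let us : ∀ n, {u : Over.mk (tp p w hw n) ⟶ U // u ≫ f = tk p w hw n ≫ y.1} :=
    fun n => Nat.rec U0 (fun k u => ⟨next k u.1 u.2, hnext₁ k u.1 u.2⟩) n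
  refine ⟨fun n => (us n).1, fun n => (us n).2, fun n => hnext₂ n (us n).1 (us n).2, ?_, rfl⟩
  have hju : ∀ n, tj p w hw n ≫ (us (n + 1)).1 = (us n).1 := fun n => hnext₂ n (us n).1 (us n).2
  have hy : ((subAct S M N).prod (MonAct.trivial (AMonS S M) (Over.mk p))).act ≫ y.1 =
      (AMonS S M ◁ y.1) ≫ aX.act := y.2
  have hψ : ((subAct S M Q).prod (MonAct.trivial (AMonS S M) (Over.mk p))).act ≫ ψ.1 =
      (AMonS S M ◁ ψ.1) ≫ aU.act := ψ.2
  have hfe : ∀ n, (lift (mg (tp p w hw n) M) (mProj (tp p w hw n) M ≫ (us n).1) ≫ aU.act) ≫ f =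
      (tD p w hw n ≫ (us n).1) ≫ f := by
    intro n
    rw [Category.assoc, Category.assoc, (us n).2, (isEquivariant_iff _ _ _).1 hf, Category.assoc, (us n).2,
      ← Category.assoc (tD _ _ _ n), tD_tk, Category.assoc (lift _ _), hy, lift_whiskerLeft_assoc]
    simp only [Category.assoc]
  intro n
  induction n with
  | zero =>
    have hD0 : lift (mg (tp p w hw 0) M) (mProj (tp p w hw 0) M ≫ tσ p w hw hQ ≫ mMap p ↥Q) ≫
        ((subAct S M Q).prod (MonAct.trivial (AMonS S M) (Over.mk p))).act =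
        tD p w hw 0 ≫ tσ p w hw hQ ≫ mMap p ↥Q := by
      have hr : (AMonS.faceMap S hQ ▷ Over.mk p) ≫ (AMonS.map S (AddSubmonoid.inclusion hQ.le) ▷ Over.mk p) = 𝟙 _ := by
        rw [← comp_whiskerRight, AMonS.faceMap_comp_map, id_whiskerRight]
      have hmono : ∀ {V : Over S} (a b : V ⟶ AMonS S Q ⊗ Over.mk p),
          a ≫ (AMonS.faceMap S hQ ▷ Over.mk p) = b ≫ (AMonS.faceMap S hQ ▷ Over.mk p) → a = b := fun a b hab => by
        have := congrArg (· ≫ (AMonS.map S (AddSubmonoid.inclusion hQ.le) ▷ Over.mk p)) hab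
        simpa only [Category.assoc, hr, Category.comp_id] using this
      refine hmono _ _ ?_
      rw [Category.assoc, Category.assoc, tσ_tk, tD_tk,
        (isEquivariant_iff _ _ _).1 (isEquivariant_whiskerRight_trivial _ _ (isEquivariant_faceMapS S hQ) (Over.mk p)),
        Category.assoc, tσ_tk]
    show lift _ (_ ≫ (tσ p w hw hQ ≫ mMap p ↥Q) ≫ ψ.1) ≫ _ = _ ≫ (tσ p w hw hQ ≫ mMap p ↥Q) ≫ ψ.1
    rw [← Category.assoc (tD _ _ _ 0), ← hD0, Category.assoc (lift _ _), hψ, lift_whiskerLeft_assoc]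
    simp only [Category.assoc]
  | succ n ih =>
    apply Over.OverMorphism.ext
    refine eq_of_unramified f.left (B := CommRingCat.of (MonoidAlgebra (TruncRing R w hw (n + 1)) (Multiplicative M)))
      (B₀ := CommRingCat.of (MonoidAlgebra (TruncRing R w hw n) (Multiplicative M)))
      (CommRingCat.ofHom (MonoidAlgebra.mapRingHom (Multiplicative M) (trst R w hw n).hom))
      (mapRingHom_surjective (trst R w hw n) M (truncStep_surjective w hw n))
      (fun a b => mul_eq_zero_of_mapRingHom (trst R w hw n) M (truncStep_sq w hw n) a b) _ _ ?_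
      (congrArg CommaMorphism.left (hfe (n + 1)))
    have : mB (tp p w hw (n + 1)) (trst R w hw n) (trst_tp p w hw n) M ≫
          lift (mg (tp p w hw (n + 1)) M) (mProj (tp p w hw (n + 1)) M ≫ (us (n + 1)).1) ≫ aU.act =
        mB (tp p w hw (n + 1)) (trst R w hw n) (trst_tp p w hw n) M ≫ tD p w hw (n + 1) ≫ (us (n + 1)).1 := by
      rw [comp_lift_assoc, mB_mg, ← Category.assoc (mB _ _ _ _) (mProj _ _), mB_mProj, Category.assoc]
      change lift _ (_ ≫ tj p w hw n ≫ _) ≫ _ = _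
      rw [hju, reassoc_of% (mB_tD p w hw n), hju, ih]
    exact congrArg CommaMorphism.left this

end Groth.Agent.Mag88
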