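import Groth.Agent.Mag88.FacePushout

/-! Truncations of a monoid algebra by the weight of a face. -/

universe u

set_option backward.isDefEq.respectTransparency false
set_option backward.isDefEq.respectTransparency.types false

open Magnet

noncomputable section

namespace Groth.Agent.Mag88

variable {R : Type u} [CommRing R] {M : Type} [AddCommMonoid M] {N Q : AddSubmonoid M} (w : M →+ ℤ)
  (hw : ∀ n ∈ N, 0 ≤ w n ∧ (w n = 0 ↔ n ∈ Q))


/-- The vanishing of the coefficients of weight below `n`. -/
def TruncZero (n : ℕ) (x : (MonoidAlgebra R (Multiplicative ↥N))) : Prop :=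
  ∀ m : ↥N, w (m : M) < (n : ℤ) → x.coeff (Multiplicative.ofAdd m) = 0

theorem truncZero_mul {i j : ℕ} {a b : (MonoidAlgebra R (Multiplicative ↥N))} (ha : TruncZero w i a) (hb : TruncZero w j b) :
    TruncZero w (i + j) (a * b) := by
  classical
  intro m hm
  rw [MonoidAlgebra.coeff_mul]
  refine Finset.sum_eq_zero fun p _ => Finset.sum_eq_zero fun q _ => ?_
  dsimp only
  split_ifs with h
  · obtain ⟨p, rfl⟩ := Multiplicative.ofAdd.surjective p
    obtain ⟨q, rfl⟩ := Multiplicative.ofAdd.surjective q
    rw [← ofAdd_add] at h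
    have e : w (p : M) + w (q : M) = w (m : M) := by
      rw [← map_add, ← AddSubmonoid.coe_add, Multiplicative.ofAdd.injective h]
    by_cases hp : w (p : M) < i
    · rw [ha p hp, zero_mul]
    · rw [hb q (by push_cast at hm; omega), mul_zero]
  · rfl

/-- The ideal of elements of weight at least `n`. -/
def truncIdeal (n : ℕ) : Ideal (MonoidAlgebra R (Multiplicative ↥N)) where
  carrier := {x | TruncZero w n x}
  zero_mem' := fun m _ => by simp
  add_mem' := fun {a b} ha hb m hm => by
    rw [MonoidAlgebra.coeff_add, Finsupp.add_apply, ha m hm, hb m hm, add_zero]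
  smul_mem' := fun c x hx => by
    have hc : TruncZero w 0 c := fun m hm => absurd hm (not_lt.2 (by exact_mod_cast (hw m m.2).1))
    have := truncZero_mul w hc hx
    rwa [Nat.zero_add] at this

theorem mem_truncIdeal {n : ℕ} {x : (MonoidAlgebra R (Multiplicative ↥N))} : x ∈ truncIdeal w hw n ↔ TruncZero w n x := Iff.rfl

theorem truncIdeal_antitone {i j : ℕ} (h : i ≤ j) : truncIdeal (R := R) w hw j ≤ truncIdeal w hw i :=
  fun _ hx m hm => hx m (lt_of_lt_of_le hm (by exact_mod_cast h))

theorem truncIdeal_eq_zero {x : (MonoidAlgebra R (Multiplicative ↥N))} (h : ∀ n, x ∈ truncIdeal w hw (n + 1)) : x = 0 := by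
  refine MonoidAlgebra.ext (Finsupp.ext fun m => ?_)
  obtain ⟨m, rfl⟩ := Multiplicative.ofAdd.surjective m
  rw [MonoidAlgebra.coeff_zero, Finsupp.zero_apply]
  refine h (w (m : M)).toNat m ?_
  have := (hw m m.2).1
  push_cast
  omega

theorem mem_truncIdeal_one (hQ : IsFace N Q) {x : (MonoidAlgebra R (Multiplicative ↥N))} :
    x ∈ truncIdeal w hw 1 ↔ faceAlgHom R hQ x = 0 := by
  constructor
  · intro h
    refine MonoidAlgebra.ext (Finsupp.ext fun f => ?_)
    obtain ⟨f, rfl⟩ := Multiplicative.ofAdd.surjective f
    rw [coeff_faceAlgHom, MonoidAlgebra.coeff_zero, Finsupp.zero_apply]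
    refine h _ ?_
    rw [show w (f : M) = 0 from (hw f (hQ.le f.2)).2.2 f.2]
    norm_num
  · intro h m hm
    have hm' : w (m : M) = 0 := by have := (hw m m.2).1; push_cast at hm; omega
    have := congrArg (fun t => MonoidAlgebra.coeff t (Multiplicative.ofAdd (⟨m, (hw m m.2).2.1 hm'⟩ : ↥Q))) h
    simp only [coeff_faceAlgHom] at this
    simpa using this

variable (R N) in
/-- The coaction of `M` on `R[N]`. -/
def coact : (MonoidAlgebra R (Multiplicative ↥N)) →+* MonoidAlgebra (MonoidAlgebra R (Multiplicative ↥N)) (Multiplicative M) :=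
  (MonoidAlgebra.lift R (MonoidAlgebra (MonoidAlgebra R (Multiplicative ↥N)) (Multiplicative M)) (Multiplicative ↥N)
    { toFun := fun n => MonoidAlgebra.single (Multiplicative.ofAdd ((Multiplicative.toAdd n : ↥N) : M))
        (MonoidAlgebra.single n 1)
      map_one' := by
        rw [MonoidAlgebra.one_def]
        rfl
      map_mul' := fun a b => by
        rw [MonoidAlgebra.single_mul_single, MonoidAlgebra.single_mul_single, _root_.mul_one]
        rfl }).toRingHom

theorem coact_single (n : ↥N) (r : R) : coact R N (MonoidAlgebra.single (Multiplicative.ofAdd n) r) =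
    MonoidAlgebra.single (Multiplicative.ofAdd (n : M)) (MonoidAlgebra.single (Multiplicative.ofAdd n) r) := by
  simp [coact, MonoidAlgebra.lift_single]

theorem coeff_coact (x : (MonoidAlgebra R (Multiplicative ↥N))) (m : M) :
    (∀ hm : m ∈ N, (coact R N x).coeff (Multiplicative.ofAdd m) =
      MonoidAlgebra.single (Multiplicative.ofAdd ⟨m, hm⟩) (x.coeff (Multiplicative.ofAdd ⟨m, hm⟩))) ∧
      (m ∉ N → (coact R N x).coeff (Multiplicative.ofAdd m) = 0) := by
  classical
  induction x using MonoidAlgebra.induction_linear with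
  | zero => simp
  | add a b ha hb =>
    refine ⟨fun hm => ?_, fun hm => ?_⟩
    · rw [map_add, MonoidAlgebra.coeff_add, Finsupp.add_apply, ha.1 hm, hb.1 hm, MonoidAlgebra.coeff_add,
        Finsupp.add_apply, MonoidAlgebra.single_add]
    · rw [map_add, MonoidAlgebra.coeff_add, Finsupp.add_apply, ha.2 hm, hb.2 hm, add_zero]
  | single n r =>
    obtain ⟨n, rfl⟩ := Multiplicative.ofAdd.surjective n
    rw [coact_single]
    refine ⟨fun hm => ?_, fun hm => ?_⟩
    · simp only [MonoidAlgebra.coeff_single, Finsupp.single_apply]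
      by_cases e : (n : M) = m
      · subst e
        simp
      · rw [if_neg (fun h => e (Multiplicative.ofAdd.injective h)),
          if_neg (fun h => e (congrArg Subtype.val (Multiplicative.ofAdd.injective h))), MonoidAlgebra.single_zero]
    · simp only [MonoidAlgebra.coeff_single, Finsupp.single_apply]
      exact if_neg fun h => hm (by rw [← Multiplicative.ofAdd.injective h]; exact n.2)

variable (R) in
/-- The truncated rings. -/
abbrev TruncRing (n : ℕ) : Type u := (MonoidAlgebra R (Multiplicative ↥N)) ⧸ truncIdeal (R := R) w hw (n + 1)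

theorem coact_mem_ker (n : ℕ) (x : (MonoidAlgebra R (Multiplicative ↥N))) (hx : x ∈ truncIdeal w hw (n + 1)) :
    MonoidAlgebra.mapRingHom (Multiplicative M) (Ideal.Quotient.mk (truncIdeal w hw (n + 1))) (coact R N x) = 0 := by
  refine MonoidAlgebra.ext (Finsupp.ext fun m => ?_)
  obtain ⟨m, rfl⟩ := Multiplicative.ofAdd.surjective m
  rw [MonoidAlgebra.coeff_mapRingHom, MonoidAlgebra.coeff_zero, Finsupp.zero_apply]
  by_cases hm : m ∈ N
  · rw [(coeff_coact x m).1 hm, Ideal.Quotient.eq_zero_iff_mem]
    intro k hk
    classical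
    rw [MonoidAlgebra.coeff_single, Finsupp.single_apply]
    split_ifs with e
    · rw [Multiplicative.ofAdd.injective e]
      exact hx k hk
    · rfl
  · rw [(coeff_coact x m).2 hm, map_zero]

variable (R) in
/-- The coaction on the truncations. -/
def truncCoact (n : ℕ) : TruncRing R w hw n →+* MonoidAlgebra (TruncRing R w hw n) (Multiplicative M) :=
  Ideal.Quotient.lift (truncIdeal w hw (n + 1))
    ((MonoidAlgebra.mapRingHom (Multiplicative M) (Ideal.Quotient.mk (truncIdeal w hw (n + 1)))).comp (coact R N))
    (coact_mem_ker w hw n)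

variable (R) in
/-- The transition maps. -/
def truncStep (n : ℕ) : TruncRing R w hw (n + 1) →+* TruncRing R w hw n :=
  Ideal.Quotient.factor (truncIdeal_antitone w hw (Nat.le_succ (n + 1)))

theorem truncStep_surjective (n : ℕ) : Function.Surjective (truncStep R w hw n) :=
  Ideal.Quotient.factor_surjective _

theorem truncStep_sq (n : ℕ) (x y : TruncRing R w hw (n + 1)) (hx : truncStep R w hw n x = 0)
    (hy : truncStep R w hw n y = 0) : x * y = 0 := by
  obtain ⟨x, rfl⟩ := Ideal.Quotient.mk_surjective x
  obtain ⟨y, rfl⟩ := Ideal.Quotient.mk_surjective y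
  rw [truncStep, Ideal.Quotient.factor_mk, Ideal.Quotient.eq_zero_iff_mem] at hx hy
  rw [← map_mul, Ideal.Quotient.eq_zero_iff_mem]
  exact truncIdeal_antitone w hw (show n + 1 + 1 ≤ (n + 1) + (n + 1) by omega) (truncZero_mul w hx hy)

/-- A compatible family of truncations with finite supports comes from the monoid algebra. -/
theorem exists_ringHom_of_trunc {B : Type*} [CommRing B] (v : ∀ n, B →+* TruncRing R w hw n)
    (hv : ∀ n, (truncStep R w hw n).comp (v (n + 1)) = v n) (E : B → Finset M)
    (hE : ∀ b n x, Ideal.Quotient.mk _ x = v n b → ∀ m : ↥N, w (m : M) < ((n + 1 : ℕ) : ℤ) → (m : M) ∉ E b →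
      x.coeff (Multiplicative.ofAdd m) = 0) :
    ∃ u : B →+* (MonoidAlgebra R (Multiplicative ↥N)), ∀ n, (Ideal.Quotient.mk (truncIdeal w hw (n + 1))).comp u = v n := by
  classical
  have hcompat : ∀ b n k x y, Ideal.Quotient.mk _ x = v (n + k) b → Ideal.Quotient.mk _ y = v n b →
      x - y ∈ truncIdeal (R := R) w hw (n + 1) := by
    intro b n k
    induction k with
    | zero => exact fun x y hx hy => Ideal.Quotient.eq.1 (hx.trans hy.symm)
    | succ k ih =>
      intro x y hx hy
      refine ih x y ?_ hy
      have := congr($(hv (n + k)) b)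
      rw [RingHom.comp_apply] at this
      rw [← this, ← Nat.add_assoc] at *
      exact (congrArg (truncStep R w hw (n + k)) hx).trans rfl
  choose x hx using fun b n => Ideal.Quotient.mk_surjective (v n b)
  let key : B → (MonoidAlgebra R (Multiplicative ↥N)) := fun b => ∑ m ∈ (E b).subtype (· ∈ N),
    MonoidAlgebra.single (Multiplicative.ofAdd m) ((x b (w (m : M)).toNat).coeff (Multiplicative.ofAdd m))
  have hkey : ∀ b n, Ideal.Quotient.mk (truncIdeal w hw (n + 1)) (key b) = v n b := by
    intro b n
    rw [← hx b n, Ideal.Quotient.eq]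
    intro m hm
    rw [MonoidAlgebra.coeff_sub, Finsupp.sub_apply, sub_eq_zero]
    simp only [key, MonoidAlgebra.coeff_sum, Finsupp.finsetSum_apply, MonoidAlgebra.coeff_single]
    by_cases hmE : (m : M) ∈ E b
    · rw [Finset.sum_eq_single m (fun k _ hk => Finsupp.single_eq_of_ne fun e => hk (Multiplicative.ofAdd.injective e).symm)
        (fun h => absurd (Finset.mem_subtype.2 hmE) h), Finsupp.single_eq_same]
      have h0 := (hw m m.2).1
      obtain ⟨k, hk⟩ := Nat.exists_eq_add_of_le (show (w (m : M)).toNat ≤ n by push_cast at hm; omega)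
      have := hcompat b (w (m : M)).toNat k (x b n) (x b _) (by subst hk; exact hx b _) (hx b _) m (by push_cast; omega)
      rw [MonoidAlgebra.coeff_sub, Finsupp.sub_apply, sub_eq_zero] at this
      exact this.symm
    · rw [hE b n (x b n) (hx b n) m hm hmE]
      exact Finset.sum_eq_zero fun k hk => Finsupp.single_eq_of_ne fun e =>
        hmE (Multiplicative.ofAdd.injective e ▸ Finset.mem_subtype.1 hk)
  have hext : ∀ y z : (MonoidAlgebra R (Multiplicative ↥N)), (∀ n, Ideal.Quotient.mk (truncIdeal w hw (n + 1)) y =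
      Ideal.Quotient.mk (truncIdeal w hw (n + 1)) z) → y = z := fun y z h =>
    sub_eq_zero.1 (truncIdeal_eq_zero w hw fun n => Ideal.Quotient.eq.1 (h n))
  refine ⟨{ toFun := key
            map_one' := hext _ _ fun n => by rw [hkey, map_one, map_one]
            map_zero' := hext _ _ fun n => by rw [hkey, map_zero, map_zero]
            map_mul' := fun a b => hext _ _ fun n => by rw [hkey, map_mul, map_mul, hkey, hkey]
            map_add' := fun a b => hext _ _ fun n => by rw [hkey, map_add, map_add, hkey, hkey] },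
    fun n => RingHom.ext fun b => hkey b n⟩

end Groth.Agent.Mag88
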