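import Groth.Agent.Mag88.FacePb
import Groth.Agent.Mag88.OpenPb
import Groth.Prelude.Def_MoreMor

/-! Equivariant pushouts of two closed immersions, and the thickened face span. -/

universe u

set_option backward.isDefEq.respectTransparency false
set_option backward.isDefEq.respectTransparency.types false
set_option linter.style.haveILetI false

open CategoryTheory CategoryTheory.Limits MonoidalCategory CartesianMonoidalCategory MonObj AlgebraicGeometry
open Opposite Magnet Magnet.MonAct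

noncomputable section

namespace Groth.Agent.Mag88

/-- A pushout of affine schemes along two closed immersions exists and is affine. -/
theorem exists_isPushout_affine {X Y Z : Scheme.{u}} (i : Z ⟶ X) (j : Z ⟶ Y) [IsClosedImmersion i]
    [IsClosedImmersion j] [IsAffine X] [IsAffine Y] [IsAffine Z] :
    ∃ (P : Scheme.{u}) (a : X ⟶ P) (b : Y ⟶ P), IsPushout i j a b ∧ IsAffine P ∧ IsAffineHom a ∧ IsAffineHom b := by
  have hp : Function.Surjective i.appTop.hom := i.app_surjective ⊤ (isAffineOpen_top X)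
  have h := Groth.Agent.S0433.result i.appTop.hom hp j.appTop.hom
  refine ⟨_, X.isoSpec.hom ≫ Spec.map (pullback.snd (CommRingCat.ofHom j.appTop.hom) (CommRingCat.ofHom i.appTop.hom)),
    Y.isoSpec.hom ≫ Spec.map (pullback.fst (CommRingCat.ofHom j.appTop.hom) (CommRingCat.ofHom i.appTop.hom)), IsPushout.of_iso h Z.isoSpec.symm X.isoSpec.symm Y.isoSpec.symm
    (Iso.refl _) ?_ ?_ ?_ ?_, ?_, ?_, ?_⟩
  · exact Scheme.isoSpec_inv_naturality i
  · exact Scheme.isoSpec_inv_naturality j
  · simp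
  · simp
  · infer_instance
  · infer_instance
  · infer_instance

variable {S : Scheme.{u}}

/-- A pushout of two closed immersions stays a pushout after a product with a flat object. -/
theorem isPushout_whiskerLeft_flat (A : Over S) [Flat A.hom] {Z X Y P : Over S} {i : Z ⟶ X} {j : Z ⟶ Y}
    {a : X ⟶ P} {b : Y ⟶ P} [IsClosedImmersion i.left] [IsClosedImmersion j.left] [IsAffineHom a.left]
    [IsAffineHom b.left] (hpo : IsPushout i.left j.left a.left b.left) :
    IsPushout (A ◁ i) (A ◁ j) (A ◁ a) (A ◁ b) := by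
  have w : i ≫ a = j ≫ b := Over.OverMorphism.ext hpo.w
  have hpb : ∀ {B B' : Over S} (f : B ⟶ B'), IsPullback (snd A B).left (A ◁ f).left f.left (snd A B').left :=
    fun f => (isPullback_whiskerLeft_snd (A := A) f).flip.map (Over.forget S)
  have hT : IsPushout (A ◁ i).left (A ◁ j).left (A ◁ a).left (A ◁ b).left := by
    refine Pinch2.isPushout_baseChange_of_flat (r := P.hom) (g := A.hom) (pP := (snd A P).left) (rT := (fst A P).left)
      (IsPullback.of_hasPullback A.hom P.hom).flip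
      (hpb a) (hpb b) (hpb i) ?_ ?_
      Pinch2.hasPairs_closedImmersion hpo (Or.inl inferInstance)
    · exact congrArg CommaMorphism.left (whiskerLeft_snd A j)
    · rw [← Over.comp_left, ← Over.comp_left, ← MonoidalCategory.whiskerLeft_comp,
        ← MonoidalCategory.whiskerLeft_comp, w]
  exact IsPushout.of_map (Over.forget S)
    (by rw [← MonoidalCategory.whiskerLeft_comp, ← MonoidalCategory.whiskerLeft_comp, w]) hT

variable {G : Over S} [MonObj G] [Flat G.hom]

/-- Two equivariant closed immersions have an equivariant pushout. -/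
theorem exists_act_pushout {Z X Y P : Over S} {i : Z ⟶ X} {j : Z ⟶ Y} {a : X ⟶ P} {b : Y ⟶ P}
    [IsClosedImmersion i.left] [IsClosedImmersion j.left] [IsAffineHom a.left] [IsAffineHom b.left]
    (hpo : IsPushout i.left j.left a.left b.left) (hP : IsPushout i j a b)
    (aZ : MonAct G Z) (aX : MonAct G X) (aY : MonAct G Y) (hi : IsEquivariant aZ aX i) (hj : IsEquivariant aZ aY j) :
    ∃ aP : MonAct G P, IsEquivariant aX aP a ∧ IsEquivariant aY aP b ∧
      ∀ (W : Over S) (aW : MonAct G W) (f₁ : X ⟶ W) (f₂ : Y ⟶ W) (w : i ≫ f₁ = j ≫ f₂),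
        IsEquivariant aX aW f₁ → IsEquivariant aY aW f₂ → IsEquivariant aP aW (hP.desc f₁ f₂ w) := by
  haveI : Flat (G ⊗ G).hom := by
    rw [← Over.w (fst G G)]
    haveI : Flat (fst G G).left := MorphismProperty.pullback_fst (P := @Flat) G.hom G.hom inferInstance
    infer_instance
  have hG := isPushout_whiskerLeft_flat G hpo
  have hGG := isPushout_whiskerLeft_flat (G ⊗ G) hpo
  have hw : (G ◁ i) ≫ aX.act ≫ a = (G ◁ j) ≫ aY.act ≫ b := by
    rw [← reassoc_of% hi, ← reassoc_of% hj, hP.w]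
  let act := hG.desc (aX.act ≫ a) (aY.act ≫ b) hw
  have ha : (G ◁ a) ≫ act = aX.act ≫ a := hG.inl_desc _ _ _
  have hb : (G ◁ b) ≫ act = aY.act ≫ b := hG.inr_desc _ _ _
  have key1 : ∀ {Q : Over S} (aQ : MonAct G Q) (q : Q ⟶ P), (G ◁ q) ≫ act = aQ.act ≫ q →
      q ≫ (λ_ P).inv ≫ (η[G] ▷ P) ≫ act = q := by
    intro Q aQ q hq
    rw [leftUnitor_inv_naturality_assoc, whisker_exchange_assoc, hq, reassoc_of% aQ.one_act,
      Iso.inv_hom_id_assoc]
  have key2 : ∀ {Q : Over S} (aQ : MonAct G Q) (q : Q ⟶ P), (G ◁ q) ≫ act = aQ.act ≫ q →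
      ((G ⊗ G) ◁ q) ≫ (μ[G] ▷ P) ≫ act = ((G ⊗ G) ◁ q) ≫ (α_ G G P).hom ≫ (G ◁ act) ≫ act := by
    intro Q aQ q hq
    rw [whisker_exchange_assoc, hq, reassoc_of% aQ.mul_act, associator_naturality_right_assoc,
      ← MonoidalCategory.whiskerLeft_comp_assoc G (G ◁ q) act, hq, MonoidalCategory.whiskerLeft_comp_assoc, hq]
  let aP : MonAct G P :=
    { act := act
      one_act := by
        rw [← cancel_epi (λ_ P).inv, Iso.inv_hom_id]
        refine hP.hom_ext ?_ ?_
        · rw [key1 aX a ha, Category.comp_id]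
        · rw [key1 aY b hb, Category.comp_id]
      mul_act := hGG.hom_ext (key2 aX a ha) (key2 aY b hb) }
  refine ⟨aP, ha.symm, hb.symm, fun W aW f₁ f₂ w h₁ h₂ => ?_⟩
  refine hG.hom_ext ?_ ?_
  · rw [reassoc_of% ha, hP.inl_desc, h₁, ← MonoidalCategory.whiskerLeft_comp_assoc, hP.inl_desc]
  · rw [reassoc_of% hb, hP.inr_desc, h₂, ← MonoidalCategory.whiskerLeft_comp_assoc, hP.inr_desc]

theorem exists_thickPushout (T : Scheme.{u}) [IsAffine T] {M : Type} [AddCommMonoid M] {N F : AddSubmonoid M}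
    (hF : IsFace N F) (Tb : Over T) (hTb : IsClosedImmersion Tb.hom) :
    ∃ (P : Over T) (ν₁ : AMonS T F ⟶ P) (ν₂ : AMonS T N ⊗ Tb ⟶ P)
      (hP : IsPushout (fst (AMonS T F) Tb) (AMonS.faceMap T hF ▷ Tb) ν₁ ν₂)
      (aP : MonAct (AMonS T M) P),
      IsAffine P.left ∧ IsEquivariant (subAct T M F) aP ν₁ ∧
      IsEquivariant ((subAct T M N).prod (trivial (AMonS T M) Tb)) aP ν₂ ∧
      ∀ (X : Over T) (aX : MonAct (AMonS T M) X) (f₁ : AMonS T F ⟶ X) (f₂ : AMonS T N ⊗ Tb ⟶ X)
        (w : fst (AMonS T F) Tb ≫ f₁ = (AMonS.faceMap T hF ▷ Tb) ≫ f₂),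
        IsEquivariant (subAct T M F) aX f₁ →
        IsEquivariant ((subAct T M N).prod (trivial (AMonS T M) Tb)) aX f₂ →
        IsEquivariant aP aX (hP.desc f₁ f₂ w) := by
  haveI := hTb
  haveI haff : ∀ (M' : Type) [AddCommMonoid M'], IsAffine (AMonS T M').left := by
    intro M' _
    haveI : IsAffineHom (AMonS T M').hom :=
      MorphismProperty.of_isPullback (IsPullback.of_hasPullback (AMon (ULift.{u} ℤ) M').hom _) inferInstance
    exact isAffine_of_isAffineHom (AMonS T M').hom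
  haveI h1 : IsClosedImmersion (fst (AMonS T F) Tb).left :=
    MorphismProperty.pullback_fst (P := @IsClosedImmersion) (AMonS T F).hom Tb.hom hTb
  haveI h2 : IsClosedImmersion (AMonS.faceMap T hF ▷ Tb).left :=
    MorphismProperty.of_isPullback (isPullback_whiskerRight_fst (AMonS.faceMap T hF) Tb)
      (isClosedImmersion_faceMap_left hF)
  haveI : IsClosedImmersion (fst (AMonS T N) Tb).left :=
    MorphismProperty.pullback_fst (P := @IsClosedImmersion) (AMonS T N).hom Tb.hom hTb
  haveI : IsAffine (AMonS T N ⊗ Tb).left := isAffine_of_isAffineHom (fst (AMonS T N) Tb).left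
  haveI : IsAffine (AMonS T F ⊗ Tb).left := isAffine_of_isAffineHom (fst (AMonS T F) Tb).left
  obtain ⟨P₀, a₀, b₀, h, hPa, ha, hb⟩ := exists_isPushout_affine (fst (AMonS T F) Tb).left (AMonS.faceMap T hF ▷ Tb).left
  have hr : (fst (AMonS T F) Tb).left ≫ (AMonS T F).hom = (AMonS.faceMap T hF ▷ Tb).left ≫ (AMonS T N ⊗ Tb).hom := by
    rw [Over.w, Over.w]
  let P : Over T := Over.mk (h.desc _ _ hr)
  let ν₁ : AMonS T F ⟶ P := Over.homMk a₀ (h.inl_desc _ _ _)
  let ν₂ : AMonS T N ⊗ Tb ⟶ P := Over.homMk b₀ (h.inr_desc _ _ _)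
  have hP : IsPushout (fst (AMonS T F) Tb) (AMonS.faceMap T hF ▷ Tb) ν₁ ν₂ :=
    IsPushout.of_map (Over.forget T) (Over.OverMorphism.ext h.w) h
  haveI : IsAffineHom ν₁.left := ha
  haveI : IsAffineHom ν₂.left := hb
  obtain ⟨aP, e₁, e₂, e₃⟩ := exists_act_pushout (i := fst (AMonS T F) Tb) (j := AMonS.faceMap T hF ▷ Tb) (a := ν₁)
    (b := ν₂) h hP ((subAct T M F).prod (trivial (AMonS T M) Tb)) (subAct T M F)
    ((subAct T M N).prod (trivial (AMonS T M) Tb)) (isEquivariant_prod_fst _ _)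
    (isEquivariant_whiskerRight_trivial _ _ (isEquivariant_faceMapS T hF) Tb)
  exact ⟨P, ν₁, ν₂, hP, aP, hPa, e₁, e₂, e₃⟩

end Groth.Agent.Mag88
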