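import Groth.Agent.Mag88.InfLift
import Groth.Agent.Mag88.ThickPushout

/-! Infinitesimal lifting for attractors along smooth morphisms. -/

universe u

set_option maxHeartbeats 1000000

set_option backward.isDefEq.respectTransparency false
set_option backward.isDefEq.respectTransparency.types false
set_option linter.style.haveILetI false

open CategoryTheory CategoryTheory.Limits MonoidalCategory CartesianMonoidalCategory MonObj AlgebraicGeometry
open Opposite Magnet Magnet.MonAct

noncomputable section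

namespace Groth.Agent.Mag88

variable {S : Scheme.{u}}

/-- Transport of an action along an isomorphism. -/
def actOfIso {G V W : Over S} [MonObj G] (e : W ≅ V) (a : MonAct G V) : MonAct G W :=
  MonAct.mk' ((G ◁ e.hom) ≫ a.act ≫ e.inv)
    (fun T x => by simp only [lift_whiskerLeft_assoc, lift_one_act_assoc, Category.assoc, Iso.hom_inv_id,
      Category.comp_id])
    (fun T g h x => by simp only [lift_whiskerLeft_assoc, lift_mul_act_assoc, Category.assoc, Iso.inv_hom_id,
      Category.comp_id])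

theorem isEquivariant_actOfIso_hom {G V W : Over S} [MonObj G] (e : W ≅ V) (a : MonAct G V) :
    IsEquivariant (actOfIso e a) a e.hom := by
  simp [IsEquivariant, actOfIso]

theorem isEquivariant_actOfIso_inv {G V W : Over S} [MonObj G] (e : W ≅ V) (a : MonAct G V) :
    IsEquivariant a (actOfIso e a) e.inv := by
  simp [IsEquivariant, actOfIso, ← MonoidalCategory.whiskerLeft_comp_assoc]

variable {M : Type} [AddCommGroup M] {X Y : Over S} (aX : MonAct (AMonS S M) X) (aY : MonAct (AMonS S M) Y)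

/-- Equivariant lifting on affine schemes. -/
theorem exists_equivariant_lift' (f : X ⟶ Y) (hf : IsEquivariant aX aY f) (hsm : MoreMor.IsFormallySmoothHom f.left)
    {V V₀ : Over S} [IsAffine V.left] [IsAffine V₀.left] (i₀ : V₀ ⟶ V)
    (hqs : Function.Surjective i₀.left.appTop)
    (hsq : ∀ a c, i₀.left.appTop a = 0 → i₀.left.appTop c = 0 → a * c = 0)
    (aV : MonAct (AMonS S M) V) (a₀ : MonAct (AMonS S M) V₀) (hι : IsEquivariant a₀ aV i₀)
    (x : V₀ ⟶ X) (hx : IsEquivariant a₀ aX x) (y : V ⟶ Y) (hy : IsEquivariant aV aY y) (hxy : x ≫ f = i₀ ≫ y) :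
    ∃ l : V ⟶ X, IsEquivariant aV aX l ∧ i₀ ≫ l = x ∧ l ≫ f = y := by
  let e : Over.mk (V.left.isoSpec.inv ≫ V.hom) ≅ V := Over.isoMk V.left.isoSpec.symm rfl
  let e₀ : Over.mk (V₀.left.isoSpec.inv ≫ V₀.hom) ≅ V₀ := Over.isoMk V₀.left.isoSpec.symm rfl
  have hp₀ : Spec.map i₀.left.appTop ≫ (V.left.isoSpec.inv ≫ V.hom) = V₀.left.isoSpec.inv ≫ V₀.hom := by
    rw [Scheme.isoSpec_inv_naturality_assoc, Over.w]
  let j₀ : Over.mk (V₀.left.isoSpec.inv ≫ V₀.hom) ⟶ Over.mk (V.left.isoSpec.inv ≫ V.hom) :=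
    Over.homMk (Spec.map i₀.left.appTop) hp₀
  have hιe : j₀ ≫ e.hom = e₀.hom ≫ i₀ := Over.OverMorphism.ext (Scheme.isoSpec_inv_naturality i₀.left)
  have hι' : IsEquivariant (actOfIso e₀ a₀) (actOfIso e aV) j₀ := by
    rw [show j₀ = (e₀.hom ≫ i₀) ≫ e.inv by rw [← hιe, Category.assoc, e.hom_inv_id, Category.comp_id]]
    exact ((isEquivariant_actOfIso_hom e₀ a₀).comp hι).comp (isEquivariant_actOfIso_inv e aV)
  obtain ⟨l, h₁, h₂, h₃⟩ := exists_equivariant_lift aX aY f hf hsm (V.left.isoSpec.inv ≫ V.hom) i₀.left.appTop hqs hsq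
    (actOfIso e aV) hp₀ (actOfIso e₀ a₀) hι' (e₀.hom ≫ x) ((isEquivariant_actOfIso_hom e₀ a₀).comp hx)
    (e.hom ≫ y) ((isEquivariant_actOfIso_hom e aV).comp hy)
    (by rw [Category.assoc, hxy, ← Category.assoc, ← hιe, Category.assoc])
  refine ⟨e.inv ≫ l, (isEquivariant_actOfIso_inv e aV).comp h₁, ?_, by rw [Category.assoc, h₃, e.inv_hom_id_assoc]⟩
  rw [← cancel_epi e₀.hom, ← h₂, ← reassoc_of% hιe, e.hom_inv_id_assoc]

theorem isEquivariant_whiskerLeft_trivial {G B T T' : Over S} [MonObj G] (ρ : MonAct G B) (t : T' ⟶ T) :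
    IsEquivariant (ρ.prod (trivial G T')) (ρ.prod (trivial G T)) (B ◁ t) :=
  prod_trivial_act_whiskerLeft ρ t

theorem isAffine_amonS_tensor (N : Type) [AddCommMonoid N] (T : Over S) [IsAffine T.left] :
    IsAffine (AMonS S N ⊗ T).left := by
  haveI : IsAffineHom (AMonS S N).hom :=
    MorphismProperty.of_isPullback (IsPullback.of_hasPullback (AMon (ULift.{u} ℤ) N).hom _) inferInstance
  haveI : IsAffineHom (snd (AMonS S N) T).left :=
    MorphismProperty.pullback_snd (P := @IsAffineHom) (AMonS S N).hom T.hom inferInstance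
  exact isAffine_of_isAffineHom (snd (AMonS S N) T).left

/-- The product with a square-zero thickening of an affine scheme. -/
theorem whiskerLeft_thickening (N : Type) [AddCommMonoid N] {R R₀ : CommRingCat.{u}} (p : Spec R ⟶ S)
    (q : R ⟶ R₀) (hqs : Function.Surjective q) (hsq : ∀ x y, q x = 0 → q y = 0 → x * y = 0) :
    Function.Surjective (AMonS S N ◁ (Over.homMk (Spec.map q) rfl : Over.mk (Spec.map q ≫ p) ⟶ Over.mk p)).left.appTop ∧
      ∀ a c, (AMonS S N ◁ (Over.homMk (Spec.map q) rfl : Over.mk (Spec.map q ≫ p) ⟶ Over.mk p)).left.appTop a = 0 →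
        (AMonS S N ◁ (Over.homMk (Spec.map q) rfl : Over.mk (Spec.map q ≫ p) ⟶ Over.mk p)).left.appTop c = 0 →
          a * c = 0 := by
  set t : Over.mk (Spec.map q ≫ p) ⟶ Over.mk p := Over.homMk (Spec.map q) rfl with ht
  haveI : IsAffine (Over.mk p).left := inferInstanceAs (IsAffine (Spec R))
  haveI := isAffine_amonS_tensor N (Over.mk p)
  constructor
  · haveI : IsClosedImmersion t.left := IsClosedImmersion.spec_of_surjective q hqs
    haveI : IsClosedImmersion (AMonS S N ◁ t).left :=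
      MorphismProperty.of_isPullback ((isPullback_whiskerLeft_snd (A := AMonS S N) t).flip.map (Over.forget S))
        (show IsClosedImmersion ((Over.forget S).map t) from this)
    exact (AMonS S N ◁ t).left.app_surjective ⊤ (isAffineOpen_top _)
  · intro a c ha hc
    have e := congrArg (fun k => k.left.appTop) (mB_mMap (M := N) p q rfl)
    simp only [Over.comp_left, Scheme.Hom.comp_appTop] at e
    haveI : IsIso (mMap p N).left := isIso_mMap p N
    have key : ∀ b, (AMonS S N ◁ t).left.appTop b = 0 →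
        redMap q N ((Scheme.ΓSpecIso _).hom ((mMap p N).left.appTop b)) = 0 := fun b hb => by
      have h0 : (mB p q rfl N).left.appTop ((mMap p N).left.appTop b) = 0 := by
        have := congr($e b)
        simp only [CommRingCat.comp_apply] at this
        rw [this, hb, map_zero]
      have h1 := congr($(Scheme.ΓSpecIso_naturality (redMap q N)) ((mMap p N).left.appTop b))
      rw [CommRingCat.comp_apply, CommRingCat.comp_apply] at h1
      rw [← h1]
      exact (congrArg _ h0).trans (map_zero _)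
    have := mul_eq_zero_of_mapRingHom q N hsq _ _ (key a ha) (key c hc)
    simp only [← map_mul] at this
    have hinj : Function.Injective ((mMap p N).left.appTop ≫ (Scheme.ΓSpecIso _).hom) :=
      (ConcreteCategory.bijective_of_isIso _).1
    refine hinj ?_
    rw [CommRingCat.comp_apply, CommRingCat.comp_apply, map_mul]
    exact this.trans (by rw [map_zero, map_zero])

theorem attr_postcomp_hasLift (f : X ⟶ Y) (hf : IsEquivariant aX aY f) (hsm : MoreMor.IsFormallySmoothHom f.left)
    (N : AddSubmonoid M) {R R₀ : CommRingCat.{u}} (p : Spec R ⟶ S) (q : R ⟶ R₀) (hqs : Function.Surjective q)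
    (hsq : ∀ x y, q x = 0 → q y = 0 → x * y = 0)
    (x : (attr aX N).obj (op (Over.mk (Spec.map q ≫ p)))) (y : (attr aY N).obj (op (Over.mk p)))
    (h : x.1 ≫ f = (AMonS S N ◁ (Over.homMk (Spec.map q) rfl : Over.mk (Spec.map q ≫ p) ⟶ Over.mk p)) ≫ y.1) :
    ∃ l : (attr aX N).obj (op (Over.mk p)),
      (AMonS S N ◁ (Over.homMk (Spec.map q) rfl : Over.mk (Spec.map q ≫ p) ⟶ Over.mk p)) ≫ l.1 = x.1 ∧
        l.1 ≫ f = y.1 := by
  haveI : IsAffine (Over.mk p).left := inferInstanceAs (IsAffine (Spec R))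
  haveI : IsAffine (Over.mk (Spec.map q ≫ p)).left := inferInstanceAs (IsAffine (Spec R₀))
  haveI := isAffine_amonS_tensor (↥N) (Over.mk p)
  haveI := isAffine_amonS_tensor (↥N) (Over.mk (Spec.map q ≫ p))
  obtain ⟨h₁, h₂⟩ := whiskerLeft_thickening (↥N) p q hqs hsq
  obtain ⟨l, hl, hlx, hly⟩ := exists_equivariant_lift' aX aY f hf hsm _ h₁ h₂ _ _
    (isEquivariant_whiskerLeft_trivial (subAct S M N) _) x.1 x.2 y.1 y.2 h
  exact ⟨⟨l, hl⟩, hlx, hly⟩

theorem attrFace_hasLift {N F : AddSubmonoid M} (hF : IsFace N F) (hsm : MoreMor.IsFormallySmoothHom X.hom)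
    {R R₀ : CommRingCat.{u}} (p : Spec R ⟶ S) (q : R ⟶ R₀) (hqs : Function.Surjective q)
    (hsq : ∀ x y, q x = 0 → q y = 0 → x * y = 0)
    (x : (attr aX N).obj (op (Over.mk (Spec.map q ≫ p)))) (y : (attr aX F).obj (op (Over.mk p)))
    (h : (AMonS.faceMap S hF ▷ Over.mk (Spec.map q ≫ p)) ≫ x.1 =
      (AMonS S F ◁ (Over.homMk (Spec.map q) rfl : Over.mk (Spec.map q ≫ p) ⟶ Over.mk p)) ≫ y.1) :
    ∃ l : (attr aX N).obj (op (Over.mk p)),
      (AMonS S N ◁ (Over.homMk (Spec.map q) rfl : Over.mk (Spec.map q ≫ p) ⟶ Over.mk p)) ≫ l.1 = x.1 ∧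
        (AMonS.faceMap S hF ▷ Over.mk p) ≫ l.1 = y.1 := by
  let T := Over.mk p
  let T₀ := Over.mk (Spec.map q ≫ p)
  let t : T₀ ⟶ T := Over.homMk (Spec.map q) rfl
  haveI : IsAffine T.left := inferInstanceAs (IsAffine (Spec R))
  haveI : IsAffine T₀.left := inferInstanceAs (IsAffine (Spec R₀))
  haveI : IsClosedImmersion t.left := IsClosedImmersion.spec_of_surjective q hqs
  haveI := isAffine_amonS_tensor (↥N) T
  haveI := isAffine_amonS_tensor (↥N) T₀
  haveI := isAffine_amonS_tensor (↥F) T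
  haveI := isAffine_amonS_tensor (↥F) T₀
  haveI hi : IsClosedImmersion (AMonS S F ◁ t).left :=
    MorphismProperty.of_isPullback ((isPullback_whiskerLeft_snd (A := AMonS S F) t).flip.map (Over.forget S))
      (show IsClosedImmersion ((Over.forget S).map t) from ‹IsClosedImmersion t.left›)
  haveI : IsClosedImmersion (AMonS.faceMap S hF ▷ T₀).left :=
    MorphismProperty.of_isPullback (isPullback_whiskerRight_fst (AMonS.faceMap S hF) T₀)
      (isClosedImmersion_faceMap_left hF)
  let i := AMonS S F ◁ t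
  let j := AMonS.faceMap S hF ▷ T₀
  let k₁ := AMonS.faceMap S hF ▷ T
  let k₂ := AMonS S N ◁ t
  let r := AMonS.map S (AddSubmonoid.inclusion hF.le) ▷ T
  let r₀ := AMonS.map S (AddSubmonoid.inclusion hF.le) ▷ T₀
  have hw : i ≫ k₁ = j ≫ k₂ := whisker_exchange _ _
  have hr : k₁ ≫ r = 𝟙 _ := by rw [← comp_whiskerRight, AMonS.faceMap_comp_map, id_whiskerRight]
  have hr₀ : k₂ ≫ r = r₀ ≫ i := whisker_exchange _ _
  have hi' : Function.Surjective i.left.appTop.hom := i.left.app_surjective ⊤ (isAffineOpen_top _)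
  have hpo := Groth.Agent.S0433.result i.left.appTop.hom hi' j.left.appTop.hom
  have hcw : k₂.left.appTop ≫ j.left.appTop = k₁.left.appTop ≫ i.left.appTop := by
    rw [← Scheme.Hom.comp_appTop, ← Scheme.Hom.comp_appTop, ← Over.comp_left, ← Over.comp_left, hw]
  let c : Γ((AMonS S N ⊗ T).left, ⊤) ⟶ pullback (CommRingCat.ofHom j.left.appTop.hom) (CommRingCat.ofHom i.left.appTop.hom) :=
    pullback.lift k₂.left.appTop k₁.left.appTop hcw
  have hc : Function.Surjective c := by
    intro z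
    obtain ⟨b', hb'⟩ := (whiskerLeft_thickening (↥N) p q hqs hsq).1 (pullback.fst (CommRingCat.ofHom j.left.appTop.hom) (CommRingCat.ofHom i.left.appTop.hom) z)
    change k₂.left.appTop b' = _ at hb'
    have hz : j.left.appTop (pullback.fst (CommRingCat.ofHom j.left.appTop.hom) (CommRingCat.ofHom i.left.appTop.hom) z) =
        i.left.appTop (pullback.snd (CommRingCat.ofHom j.left.appTop.hom) (CommRingCat.ofHom i.left.appTop.hom) z) :=
      congr($(pullback.condition (f := CommRingCat.ofHom j.left.appTop.hom) (g := CommRingCat.ofHom i.left.appTop.hom)) z)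
    let d := pullback.snd (CommRingCat.ofHom j.left.appTop.hom) (CommRingCat.ofHom i.left.appTop.hom) z - k₁.left.appTop b'
    have hd : i.left.appTop d = 0 := by
      rw [map_sub, ← hz, ← hb', sub_eq_zero]
      exact congr($hcw b')
    refine ⟨b' + r.left.appTop d, Types.ext_of_isPullback ((IsPullback.of_hasPullback (CommRingCat.ofHom j.left.appTop.hom) (CommRingCat.ofHom i.left.appTop.hom)).map (forget CommRingCat)) ?_ ?_⟩
    · show pullback.fst (CommRingCat.ofHom j.left.appTop.hom) (CommRingCat.ofHom i.left.appTop.hom) (c _) = pullback.fst (CommRingCat.ofHom j.left.appTop.hom) (CommRingCat.ofHom i.left.appTop.hom) z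
      rw [← CommRingCat.comp_apply, pullback.lift_fst, map_add, hb', ← CommRingCat.comp_apply r.left.appTop,
        ← Scheme.Hom.comp_appTop, ← Over.comp_left, hr₀, Over.comp_left, Scheme.Hom.comp_appTop,
        CommRingCat.comp_apply, hd, map_zero, add_zero]
    · show pullback.snd (CommRingCat.ofHom j.left.appTop.hom) (CommRingCat.ofHom i.left.appTop.hom) (c _) = pullback.snd (CommRingCat.ofHom j.left.appTop.hom) (CommRingCat.ofHom i.left.appTop.hom) z
      rw [← CommRingCat.comp_apply, pullback.lift_snd, map_add, ← CommRingCat.comp_apply r.left.appTop,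
        ← Scheme.Hom.comp_appTop, ← Over.comp_left, hr]
      simp [d]
  let P : Over S := Over.mk (Spec.map c ≫ (AMonS S N ⊗ T).left.isoSpec.inv ≫ (AMonS S N ⊗ T).hom)
  let cP : P ⟶ AMonS S N ⊗ T := Over.homMk (Spec.map c ≫ (AMonS S N ⊗ T).left.isoSpec.inv) (Category.assoc _ _ _)
  let a₁ := (AMonS S F ⊗ T).left.isoSpec.hom ≫ Spec.map (pullback.snd (CommRingCat.ofHom j.left.appTop.hom) (CommRingCat.ofHom i.left.appTop.hom))
  let b₁ := (AMonS S N ⊗ T₀).left.isoSpec.hom ≫ Spec.map (pullback.fst (CommRingCat.ofHom j.left.appTop.hom) (CommRingCat.ofHom i.left.appTop.hom))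
  have ha₁ : a₁ ≫ Spec.map c ≫ (AMonS S N ⊗ T).left.isoSpec.inv = k₁.left := by
    rw [Category.assoc, ← Spec.map_comp_assoc, pullback.lift_snd, ← Category.assoc, Iso.comp_inv_eq,
      Scheme.isoSpec_hom_naturality]
  have hb₁ : b₁ ≫ Spec.map c ≫ (AMonS S N ⊗ T).left.isoSpec.inv = k₂.left := by
    rw [Category.assoc, ← Spec.map_comp_assoc, pullback.lift_fst, ← Category.assoc, Iso.comp_inv_eq,
      Scheme.isoSpec_hom_naturality]
  let ν₁ : AMonS S F ⊗ T ⟶ P := Over.homMk a₁ (by
    change a₁ ≫ Spec.map c ≫ _ ≫ _ = _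
    rw [reassoc_of% ha₁, Over.w])
  let ν₂ : AMonS S N ⊗ T₀ ⟶ P := Over.homMk b₁ (by
    change b₁ ≫ Spec.map c ≫ _ ≫ _ = _
    rw [reassoc_of% hb₁, Over.w])
  have hν₁ : ν₁ ≫ cP = k₁ := Over.OverMorphism.ext ha₁
  have hν₂ : ν₂ ≫ cP = k₂ := Over.OverMorphism.ext hb₁
  have hpo' : IsPushout i.left j.left ν₁.left ν₂.left := by
    refine IsPushout.of_iso hpo (AMonS S F ⊗ T₀).left.isoSpec.symm (AMonS S F ⊗ T).left.isoSpec.symm
      (AMonS S N ⊗ T₀).left.isoSpec.symm (Iso.refl _) ?_ ?_ ?_ ?_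
    · exact Scheme.isoSpec_inv_naturality _
    · exact Scheme.isoSpec_inv_naturality _
    · simp [ν₁, a₁]
    · simp [ν₂, b₁]
  have hP : IsPushout i j ν₁ ν₂ := IsPushout.of_map (Over.forget S) (Over.OverMorphism.ext hpo'.w) hpo'
  haveI : IsAffine P.left := inferInstanceAs (IsAffine (Spec _))
  haveI : IsAffineHom ν₁.left := inferInstance
  haveI : IsAffineHom ν₂.left := inferInstance
  obtain ⟨aP, e₁, e₂, e₃⟩ := exists_act_pushout (G := AMonS S M) hpo' hP
    ((subAct S M F).prod (trivial _ T₀)) ((subAct S M F).prod (trivial _ T)) ((subAct S M N).prod (trivial _ T₀))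
    (isEquivariant_whiskerLeft_trivial _ t) (isEquivariant_whiskerRight_trivial _ _ (isEquivariant_faceMapS S hF) T₀)
  have hcE : IsEquivariant aP ((subAct S M N).prod (trivial _ T)) cP := by
    have he : cP = hP.desc k₁ k₂ hw := hP.hom_ext (by rw [hP.inl_desc, hν₁]) (by rw [hP.inr_desc, hν₂])
    rw [he]
    exact e₃ _ _ _ _ hw (isEquivariant_whiskerRight_trivial _ _ (isEquivariant_faceMapS S hF) T)
      (isEquivariant_whiskerLeft_trivial _ t)
  haveI : IsClosedImmersion cP.left := by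
    haveI := IsClosedImmersion.spec_of_surjective c hc
    change IsClosedImmersion (Spec.map c ≫ _)
    infer_instance
  have hν₂' : k₂.left.appTop = cP.left.appTop ≫ ν₂.left.appTop := by
    rw [← Scheme.Hom.comp_appTop, ← Over.comp_left, hν₂]
  obtain ⟨-, hsqV⟩ := whiskerLeft_thickening (↥N) p q hqs hsq
  have hxy : i ≫ y.1 = j ≫ x.1 := h.symm
  have hterm : ∀ {W : Over S} (aW : MonAct (AMonS S M) W),
      IsEquivariant aW (trivial (AMonS S M) (Over.mk (𝟙 S))) (Over.mkIdTerminal.from W) := fun _ =>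
    Over.mkIdTerminal.hom_ext _ _
  obtain ⟨l, hl, hlx, -⟩ := exists_equivariant_lift' aX (trivial (AMonS S M) (Over.mk (𝟙 S)))
    (Over.mkIdTerminal.from X) (hterm aX)
    (show MoreMor.IsFormallySmoothHom (Over.mkIdTerminal.from X).left by
      rw [show (Over.mkIdTerminal.from X).left = X.hom by simpa using Over.w (Over.mkIdTerminal.from X)]
      exact hsm)
    cP (cP.left.app_surjective ⊤ (isAffineOpen_top _))
    (fun a b ha hb => hsqV a b
      (show k₂.left.appTop a = 0 by rw [hν₂', CommRingCat.comp_apply, ha, map_zero])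
      (show k₂.left.appTop b = 0 by rw [hν₂', CommRingCat.comp_apply, hb, map_zero]))
    ((subAct S M N).prod (trivial _ T)) aP hcE (hP.desc y.1 x.1 hxy) (e₃ _ _ _ _ hxy y.2 x.2)
    (Over.mkIdTerminal.from _) (hterm _) (Over.mkIdTerminal.hom_ext _ _)
  refine ⟨⟨l, hl⟩, ?_, ?_⟩
  · show k₂ ≫ l = x.1
    rw [← hν₂, Category.assoc, hlx, hP.inr_desc]
  · show k₁ ≫ l = y.1
    rw [← hν₁, Category.assoc, hlx, hP.inl_desc]

end Groth.Agent.Mag88
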