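import Groth.Agent.Mag88.OpenAttr
import Groth.Agent.Mag88.Retract
import Groth.Agent.Mag88.InfApps
import Mathlib.AlgebraicGeometry.Morphisms.FormallyUnramified
import Mathlib.Topology.LocallyClosed

/-! Equivariant maps agreeing on a face: stable opens and uniqueness. -/

universe u

set_option maxHeartbeats 1000000
set_option backward.isDefEq.respectTransparency false
set_option backward.isDefEq.respectTransparency.types false
set_option linter.style.haveILetI false

open CategoryTheory CategoryTheory.Limits MonoidalCategory CartesianMonoidalCategory MonObj AlgebraicGeometry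
open Opposite Magnet Magnet.MonAct

noncomputable section

namespace Groth.Agent.Mag88

variable {S : Scheme.{u}} {M : Type} [AddCommGroup M] [AddGroup.FG M] {N Q : AddSubmonoid M}

theorem unitFace_le_of_isFace (hQ : IsFace N Q) {m : M} (hm : m ∈ unitFace N) : m ∈ Q := by
  obtain ⟨hmN, y, hy, hmy⟩ := hm
  exact (hQ.mem_of_add_mem m hmN y hy (hmy ▸ Q.zero_mem)).1

theorem unitPt_eq (hQ : IsFace N Q) {T : Over S} (t : T ⟶ 𝟙_ (Over S)) :
    t ≫ unitPt N = ((t ≫ unitPt N) ≫ AMonS.map S (AddSubmonoid.inclusion hQ.le)) ≫ AMonS.faceMap S hQ := by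
  refine aFn_ext fun n => ?_
  rw [aFn_comp_faceMap, aFn_comp_unitPt]
  by_cases h : (n : M) ∈ Q
  · rw [dif_pos h, aFn_map, aFn_comp_unitPt]
    rfl
  · rw [dif_neg h, if_neg fun hn => h (unitFace_le_of_isFace hQ hn)]

/-- A stable open containing the face is everything. -/
theorem stable_open_eq_top_of_face (hQ : IsFace N Q) (T : Over S) (W : (AMonS S N ⊗ T).left.Opens)
    (hW : (snd (AMonS S M) (AMonS S N ⊗ T)).left ⁻¹ᵁ W ≤
      (((subAct S M N).prod (MonAct.trivial (AMonS S M) T)).act).left ⁻¹ᵁ W)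
    (hface : ∀ w, (AMonS.faceMap S hQ ▷ T).left w ∈ W) : W = ⊤ := by
  refine top_le_iff.1 fun p _ => ?_
  let y : T.left := (snd (AMonS S N) T).left p
  let T' : Over S := Over.mk (T.left.fromSpecResidueField y ≫ T.hom)
  let t : T' ⟶ T := Over.homMk (T.left.fromSpecResidueField y) rfl
  obtain ⟨κ⟩ : Nonempty (Spec (T.left.residueField y) : Scheme.{u}) :=
    inferInstanceAs (Nonempty (PrimeSpectrum (T.left.residueField y)))
  obtain ⟨q, hq⟩ := exists_of_snd_eq (A := AMonS S N) t p κ (Scheme.fromSpecResidueField_apply _ _).symm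
  have key : (AMonS S N ◁ t).left ⁻¹ᵁ W = ⊤ := by
    refine stable_open_eq_top N T' (T.left.residueField y) (Iso.refl _) _ (fun r hr => ?_)
      (top_le_iff.1 fun r _ => ?_)
    · have h1 : (AMonS S M ◁ (AMonS S N ◁ t)).left r ∈ (snd (AMonS S M) (AMonS S N ⊗ T)).left ⁻¹ᵁ W := by
        change ((AMonS S M ◁ (AMonS S N ◁ t)) ≫ snd _ _).left r ∈ W
        rw [whiskerLeft_snd]
        exact hr
      have h2 := hW h1
      change ((AMonS S M ◁ (AMonS S N ◁ t)) ≫ ((subAct S M N).prod (MonAct.trivial (AMonS S M) T)).act).left r ∈ W at h2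
      rw [← prod_trivial_act_whiskerLeft (ρ := subAct S M N) t] at h2
      exact h2
    · change (lift (toUnit T' ≫ unitPt N) (𝟙 T') ≫ (AMonS S N ◁ t)).left r ∈ W
      rw [lift_whiskerLeft, Category.id_comp, unitPt_eq hQ, ← lift_whiskerRight]
      exact hface _
  rw [← hq]
  have : q ∈ (AMonS S N ◁ t).left ⁻¹ᵁ W := by rw [key]; trivial
  exact this

variable {X Y : Over S} (aX : MonAct (AMonS S M) X) (aY : MonAct (AMonS S M) Y) (f : X ⟶ Y)

/-- Uniqueness of lifts along unramified morphisms. -/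
theorem attr_ext_of_unramified [FormallyUnramified f.left] [LocallyOfFiniteType f.left] (hQ : IsFace N Q) {T : Over S}
    (φ φ' : (attr aX N).obj (op T)) (hf : φ.1 ≫ f = φ'.1 ≫ f)
    (hface : (AMonS.faceMap S hQ ▷ T) ≫ φ.1 = (AMonS.faceMap S hQ ▷ T) ≫ φ'.1) : φ = φ' := by
  let Z := AMonS S N ⊗ T
  let pr : Z.left ⟶ pullback f.left f.left := pullback.lift φ.1.left φ'.1.left (congrArg CommaMorphism.left hf)
  let Δ := pullback.diagonal f.left
  let W : Z.left.Opens := pr ⁻¹ᵁ Δ.opensRange
  have hfac : ∀ {V : Scheme.{u}} (k : V ⟶ Z.left),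
      (∀ v, k v ∈ W) ↔ k ≫ φ.1.left = k ≫ φ'.1.left := by
    intro V k
    constructor
    · intro h
      have hr : Set.range (k ≫ pr) ⊆ Set.range Δ := by
        rintro _ ⟨v, rfl⟩
        exact h v
      have e := IsOpenImmersion.lift_fac Δ (k ≫ pr) hr
      have e₁ := congrArg (· ≫ pullback.fst _ _) e
      have e₂ := congrArg (· ≫ pullback.snd _ _) e
      simp only [Category.assoc, pr, Δ, pullback.lift_fst, pullback.lift_snd, pullback.diagonal_fst,
        pullback.diagonal_snd, Category.comp_id] at e₁ e₂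
      exact e₁.symm.trans e₂
    · intro h v
      refine ⟨(k ≫ φ.1.left) v, ?_⟩
      have : (k ≫ φ.1.left) ≫ Δ = k ≫ pr := by
        apply pullback.hom_ext
        · simp [Δ, pr]
        · simpa [Δ, pr] using h
      exact congr(($this) v)
  have hW : W = ⊤ := by
    refine stable_open_eq_top_of_face hQ T W (fun r hr => ?_)
      (fun w => (hfac _).2 (congrArg CommaMorphism.left hface) w)
    let A := AMonS S M ⊗ Z
    let O : A.left.Opens := (snd (AMonS S M) Z).left ⁻¹ᵁ W
    let O' : Over S := Over.mk (O.ι ≫ A.hom)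
    let io : O' ⟶ A := Over.homMk O.ι rfl
    have h1 : (io ≫ snd _ _) ≫ φ.1 = (io ≫ snd _ _) ≫ φ'.1 :=
      Over.OverMorphism.ext ((hfac (io ≫ snd _ _).left).1 fun v => v.2)
    have hz : io = lift (io ≫ fst _ _) (io ≫ snd _ _) := (lift_comp_fst_snd _).symm
    have h2 : (io ≫ ((subAct S M N).prod (MonAct.trivial (AMonS S M) T)).act) ≫ φ.1 =
        (io ≫ ((subAct S M N).prod (MonAct.trivial (AMonS S M) T)).act) ≫ φ'.1 := by
      rw [Category.assoc, Category.assoc, φ.2, φ'.2, hz, lift_whiskerLeft_assoc, lift_whiskerLeft_assoc, h1]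
    exact (hfac _).2 (congrArg CommaMorphism.left h2) ⟨r, hr⟩
  apply Subtype.ext
  apply Over.OverMorphism.ext
  have := (hfac (𝟙 Z.left)).1 (fun v => by rw [hW]; trivial)
  rwa [Category.id_comp, Category.id_comp] at this

instance locallyOfFinitePresentation_AMonS : LocallyOfFinitePresentation (AMonS S M).hom := by
  haveI : LocallyOfFinitePresentation (AMon (ULift.{u} ℤ) M).hom := by
    change LocallyOfFinitePresentation (Spec.map (CommRingCat.ofHom
      (algebraMap (ULift.{u} ℤ) (MonoidAlgebra (ULift.{u} ℤ) (Multiplicative M)))))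
    rw [LocallyOfFinitePresentation.SpecMap_iff]
    haveI : IsNoetherianRing (ULift.{u} ℤ) := isNoetherianRing_of_ringEquiv ℤ ULift.ringEquiv.symm
    haveI : AddMonoid.FG M := AddGroup.fg_iff_addMonoid_fg.1 inferInstance
    haveI : Algebra.FiniteType (ULift.{u} ℤ) (MonoidAlgebra (ULift.{u} ℤ) (Multiplicative M)) := inferInstance
    exact RingHom.finitePresentation_algebraMap.2 (Algebra.FinitePresentation.of_finiteType.1 inferInstance)
  exact MorphismProperty.of_isPullback (IsPullback.of_hasPullback (AMon (ULift.{u} ℤ) M).hom _) inferInstance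

theorem isOpenMap_snd (B : Over S) : IsOpenMap (snd (AMonS S M) B).left := by
  haveI : Flat (snd (AMonS S M) B).left :=
    MorphismProperty.pullback_snd (P := @Flat) (AMonS S M).hom B.hom inferInstance
  haveI : LocallyOfFinitePresentation (snd (AMonS S M) B).left :=
    MorphismProperty.pullback_snd (P := @LocallyOfFinitePresentation) (AMonS S M).hom B.hom inferInstance
  exact (snd (AMonS S M) B).left.isOpenMap

theorem isOpenMap_act {B : Over S} (a : MonAct (AMonS S M) B) : IsOpenMap a.act.left := by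
  obtain ⟨gi, hgi⟩ := exists_inv (fst (AMonS S M) B)
  obtain ⟨gi', hgi'⟩ := exists_inv gi
  have hgi2 : fst (AMonS S M) B * gi = 1 := by
    rw [← hgi]
    exact aFn_ext fun m => by rw [aFn_mul, aFn_mul, mul_comm]
  let s : AMonS S M ⊗ B ⟶ AMonS S M ⊗ B := lift (fst _ _) a.act
  let s' : AMonS S M ⊗ B ⟶ AMonS S M ⊗ B := lift (fst _ _) (lift gi (snd _ _) ≫ a.act)
  have e₁ : s ≫ gi = gi := by
    refine aFn_ext fun m => ?_
    have h1 : aFn (s ≫ gi) m * aFn (fst (AMonS S M) B) m = 1 := by
      have := congrArg (fun t => aFn (s ≫ t) m) hgi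
      simp only [MonObj.comp_mul, MonObj.comp_one, aFn_mul, aFn_one, s, lift_fst] at this
      exact this
    have h2 : aFn gi m * aFn (fst (AMonS S M) B) m = 1 := by rw [← aFn_mul, hgi, aFn_one]
    linear_combination (aFn gi m) * h1 - (aFn (s ≫ gi) m) * h2
  have e₂ : s' ≫ gi = gi := by
    refine aFn_ext fun m => ?_
    have h1 : aFn (s' ≫ gi) m * aFn (fst (AMonS S M) B) m = 1 := by
      have := congrArg (fun t => aFn (s' ≫ t) m) hgi
      simp only [MonObj.comp_mul, MonObj.comp_one, aFn_mul, aFn_one, s', lift_fst] at this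
      exact this
    have h2 : aFn gi m * aFn (fst (AMonS S M) B) m = 1 := by rw [← aFn_mul, hgi, aFn_one]
    linear_combination (aFn gi m) * h1 - (aFn (s' ≫ gi) m) * h2
  have h₁ : s ≫ s' = 𝟙 _ := by
    apply CartesianMonoidalCategory.hom_ext
    · simp [s, s']
    · rw [Category.assoc, lift_snd, comp_lift_assoc, e₁, lift_snd, Category.id_comp]
      calc lift gi a.act ≫ a.act = lift gi (lift (fst _ _) (snd _ _) ≫ a.act) ≫ a.act := by
            rw [lift_fst_snd, Category.id_comp]
        _ = snd _ _ := lift_inv_act a hgi _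
  have h₂ : s' ≫ s = 𝟙 _ := by
    apply CartesianMonoidalCategory.hom_ext
    · simp [s, s']
    · rw [Category.assoc, lift_snd, Category.id_comp]
      calc s' ≫ a.act = lift (fst _ _) (lift gi (snd _ _) ≫ a.act) ≫ a.act := rfl
        _ = snd _ _ := lift_inv_act a hgi2 _
  have hs : IsIso s.left := ⟨s'.left, congrArg CommaMorphism.left h₁, congrArg CommaMorphism.left h₂⟩
  have : a.act = s ≫ snd _ _ := (lift_snd _ _).symm
  rw [this, Over.comp_left, Scheme.Hom.comp_base, TopCat.coe_comp]
  exact (isOpenMap_snd B).comp s.left.homeomorph.isOpenMap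

end Groth.Agent.Mag88
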