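import Groth.Agent.Mag88.Pts
import Mathlib

/-! Injectivity of the map from the Białynicki-Birula functor to its formal version. -/

universe u

open CategoryTheory CategoryTheory.Limits MonoidalCategory CartesianMonoidalCategory MonObj AlgebraicGeometry
open Opposite Polynomial

namespace Groth.Agent.Mag88

local notation "N₁" => AddSubmonoid.multiples (1 : ℤ)

/-- The generator. -/
def gen : N₁ := ⟨1, AddSubmonoid.mem_multiples 1⟩

theorem exists_nsmul_gen (x : N₁) : ∃ n : ℕ, n • gen = x := by
  obtain ⟨n, hn⟩ := x.2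
  exact ⟨n, Subtype.ext hn⟩

variable {S : Scheme.{u}} {T : Over S}

/-- The coordinate of a point of the affine line. -/
noncomputable def coord (b : T ⟶ Magnet.AMonS S N₁) : Γ(T.left, ⊤) := aFn b gen

theorem coord_ext {b b' : T ⟶ Magnet.AMonS S N₁} (h : coord b = coord b') : b = b' := by
  refine aFn_ext fun m => ?_
  obtain ⟨n, rfl⟩ := exists_nsmul_gen m
  rw [aFn_nsmul, aFn_nsmul]
  exact congrArg (· ^ n) h

theorem exists_coord_eq (a : Γ(T.left, ⊤)) : ∃ b : T ⟶ Magnet.AMonS S N₁, coord b = a := by
  obtain ⟨t, ht⟩ := aFn_surjective (S := S) (X := T) (M := N₁)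
    { toFun := fun m => a ^ (Multiplicative.toAdd m).1.toNat
      map_one' := by simp
      map_mul' := fun m m' => by
        obtain ⟨i, hi⟩ := exists_nsmul_gen (Multiplicative.toAdd m)
        obtain ⟨j, hj⟩ := exists_nsmul_gen (Multiplicative.toAdd m')
        have h1 : (Multiplicative.toAdd m).1 = (i : ℤ) := by rw [← hi]; simp [gen]
        have h2 : (Multiplicative.toAdd m').1 = (j : ℤ) := by rw [← hj]; simp [gen]
        rw [toAdd_mul, AddSubmonoid.coe_add, h1, h2, ← pow_add]
        rfl }
  refine ⟨t, ?_⟩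
  rw [coord, ht]
  simp [gen]

theorem coord_comp {T' : Over S} (g : T' ⟶ T) (b : T ⟶ Magnet.AMonS S N₁) :
    coord (g ≫ b) = g.left.appTop (coord b) := aFn_comp g b gen

theorem coord_subAct (g : T ⟶ Magnet.AMonS S ℤ) (b : T ⟶ Magnet.AMonS S N₁) :
    coord (lift g b ≫ (Magnet.subAct S ℤ N₁).act) = aFn g (1 : ℤ) * coord b := by
  rw [Magnet.subAct, Magnet.MonAct.lift_restrict_act, Magnet.MonAct.lift_regular_act, coord, aFn_mul, aFn_map]
  rfl

/-- Nilpotent points of the monoid. -/
theorem pow_mul_eq_of_coord_pow_eq_zero (b : T ⟶ Magnet.AMonS S N₁) {n : ℕ} (hb : coord b ^ (n + 1) = 0)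
    (m' : T ⟶ Magnet.AMonS S N₁) : b ^ (n + 1) * m' = b ^ (n + 1) := by
  apply coord_ext
  have hb' : aFn b gen ^ (n + 1) = 0 := hb
  rw [coord, coord, aFn_mul, aFn_pow, hb', zero_mul]

/-! ### The algebra -/

section Ring

variable {R : Type u} [CommRing R] (f : R[X])

/-- Localisation of the polynomial ring adapted to `f`. -/
abbrev Loc : Type u := Localization.Away (f * C (f.coeff 0))

theorem isUnit_toPowerSeries :
    IsUnit (((Polynomial.coeToPowerSeries.ringHom).comp
      (Polynomial.mapRingHom (algebraMap R (Localization.Away (f.coeff 0))))) (f * C (f.coeff 0))) := by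
  rw [PowerSeries.isUnit_iff_constantCoeff]
  simp only [RingHom.comp_apply, Polynomial.coeToPowerSeries.ringHom_apply, Polynomial.coe_mapRingHom,
    Polynomial.map_mul, Polynomial.map_C, ← Polynomial.coeff_zero_eq_eval_zero, Polynomial.coe_mul,
    Polynomial.coe_C, map_mul, PowerSeries.constantCoeff_C, ← PowerSeries.coeff_zero_eq_constantCoeff_apply,
    Polynomial.coeff_coe, Polynomial.coeff_map]
  exact (IsLocalization.Away.algebraMap_isUnit (f.coeff 0)).mul
    (by simpa using IsLocalization.Away.algebraMap_isUnit (f.coeff 0))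

/-- Expansion at zero. -/
noncomputable def expand0 : Loc f →+* PowerSeries (Localization.Away (f.coeff 0)) :=
  IsLocalization.Away.lift _ (isUnit_toPowerSeries f)

theorem expand0_algebraMap (p : R[X]) : expand0 f (algebraMap R[X] (Loc f) p) =
    ((p.map (algebraMap R (Localization.Away (f.coeff 0))) : (Localization.Away (f.coeff 0))[X]) :
      PowerSeries (Localization.Away (f.coeff 0))) := by
  rw [expand0, IsLocalization.Away.lift_eq]
  rfl

theorem expand0_injective : Function.Injective (expand0 f) := by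
  rw [injective_iff_map_eq_zero]
  intro x hx
  obtain ⟨n, p, hp⟩ := IsLocalization.Away.surj (f * C (f.coeff 0)) x
  have h0 : p.map (algebraMap R (Localization.Away (f.coeff 0))) = 0 := by
    apply Polynomial.coe_inj.1
    rw [← expand0_algebraMap, ← hp, map_mul, hx, zero_mul, Polynomial.coe_zero]
  have hu : IsUnit (algebraMap R[X] (Loc f) (C (f.coeff 0))) := by
    have := IsLocalization.Away.algebraMap_isUnit (S := Loc f) (f * C (f.coeff 0))
    rw [map_mul] at this
    exact isUnit_of_mul_isUnit_right this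
  have hk : ∀ i, ∃ k : ℕ, f.coeff 0 ^ k * p.coeff i = 0 := fun i => by
    have : algebraMap R (Localization.Away (f.coeff 0)) (p.coeff i) = 0 := by
      rw [← Polynomial.coeff_map, h0, Polynomial.coeff_zero]
    obtain ⟨⟨_, k, rfl⟩, hk⟩ := (IsLocalization.map_eq_zero_iff (Submonoid.powers (f.coeff 0)) _ _).1 this
    exact ⟨k, hk⟩
  choose k hk using hk
  have hp0 : C (f.coeff 0) ^ (p.support.sup k) * p = 0 := by
    ext i
    rw [← C_pow, coeff_C_mul, coeff_zero]
    by_cases hi : i ∈ p.support
    · obtain ⟨c, hc⟩ := Nat.exists_eq_add_of_le (Finset.le_sup (f := k) hi)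
      rw [hc, pow_add, mul_comm (f.coeff 0 ^ k i), _root_.mul_assoc, hk, mul_zero]
    · rw [Polynomial.notMem_support_iff.1 hi, mul_zero]
  have := congrArg (algebraMap R[X] (Loc f)) hp0
  rw [map_mul, map_pow, ← hp, map_zero] at this
  exact (IsLocalization.Away.algebraMap_pow_isUnit (f * C (f.coeff 0)) n).mul_left_eq_zero.1
    ((hu.pow _).mul_right_eq_zero.1 this)

/-- The infinitesimal neighbourhoods. -/
abbrev Inf (n : ℕ) : Type u :=
  PowerSeries (Localization.Away (f.coeff 0)) ⧸
    Ideal.span {(PowerSeries.X : PowerSeries (Localization.Away (f.coeff 0))) ^ (n + 1)}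

/-- Restriction to an infinitesimal neighbourhood. -/
noncomputable def toInf (n : ℕ) : Loc f →+* Inf f n :=
  (Ideal.Quotient.mk _).comp (expand0 f)

theorem toInf_X_pow (n : ℕ) : toInf f n (algebraMap R[X] (Loc f) X) ^ (n + 1) = 0 := by
  rw [toInf, RingHom.comp_apply, expand0_algebraMap, Polynomial.map_X, Polynomial.coe_X, ← map_pow,
    Ideal.Quotient.eq_zero_iff_mem]
  exact Ideal.mem_span_singleton_self _

theorem eq_of_forall_toInf {x y : Loc f} (h : ∀ n, toInf f n x = toInf f n y) : x = y := by
  apply expand0_injective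
  ext i
  have := h i
  rw [toInf, RingHom.comp_apply, RingHom.comp_apply, Ideal.Quotient.eq, Ideal.mem_span_singleton] at this
  have h2 := PowerSeries.X_pow_dvd_iff.1 this i (Nat.lt_succ_self i)
  rw [map_sub, sub_eq_zero] at h2
  exact h2

end Ring

end Groth.Agent.Mag88
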