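import Groth.Agent.Mag88.FormalBB2

/-! The global statement: spreading agreement by the torus action. -/

universe u

open CategoryTheory CategoryTheory.Limits MonoidalCategory CartesianMonoidalCategory MonObj AlgebraicGeometry
open Opposite

namespace Groth.Agent.Mag88

local notation "N₁" => AddSubmonoid.multiples (1 : ℤ)

variable {k : Type u} [Field k]

local notation "S₀" => Spec (CommRingCat.of k)

/-- Points of the torus with given unit coordinate. -/
theorem exists_torus_pt {T : Over S₀} (a : (Γ(T.left, ⊤))ˣ) :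
    ∃ g : T ⟶ Magnet.AMonS S₀ ℤ, aFn g (1 : ℤ) = a := by
  obtain ⟨t, ht⟩ := aFn_surjective (S := S₀) (X := T) (M := ℤ) ((Units.coeHom _).comp (zpowersHom _ a))
  exact ⟨t, by rw [ht]; simp⟩

theorem formalBB_injective (X Y : Over S₀) (a : AlgGrp.Action (Red.DS S₀ ℤ) X)
    (γ₁ γ₂ : (Magnet.attr (Magnet.MonAct.ofAction a) N₁).obj (op Y))
    (h : ∀ (T : Over S₀) (m : T ⟶ Magnet.AMonS S₀ N₁) (t : T ⟶ Y),
      (∃ n : ℕ, ∀ m' : T ⟶ Magnet.AMonS S₀ N₁, m ^ (n + 1) * m' = m ^ (n + 1)) →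
      lift m t ≫ γ₁.1 = lift m t ≫ γ₂.1) : γ₁ = γ₂ := by
  apply Subtype.ext
  let act := Magnet.MonAct.ofAction a
  choose W hW hWeq using fun y : Y.left => exists_open_agree (φ₁ := γ₁.1) (φ₂ := γ₂.1) h y
  let P : Over S₀ := Red.DS S₀ ℤ ⊗ (Magnet.AMonS S₀ N₁ ⊗ Y)
  let σ : P ⟶ Magnet.AMonS S₀ N₁ ⊗ Y :=
    lift (lift (fst _ _) (snd _ _ ≫ fst _ _) ≫ (Magnet.subAct S₀ ℤ N₁).act) (snd _ _ ≫ snd _ _)
  let Wtot : (Magnet.AMonS S₀ N₁ ⊗ Y).left.Opens := ⨆ y, W y
  have hWtot : Wtot.ι ≫ γ₁.1.left = Wtot.ι ≫ γ₂.1.left := by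
    refine (Scheme.Opens.iSupOpenCover W).hom_ext _ _ fun y => ?_
    change (Scheme.homOfLE _ (le_iSup W y)) ≫ _ = (Scheme.homOfLE _ (le_iSup W y)) ≫ _
    rw [Scheme.homOfLE_ι_assoc, Scheme.homOfLE_ι_assoc]
    exact hWeq y
  let U' : P.left.Opens := σ.left ⁻¹ᵁ Wtot
  let P' : Over S₀ := Over.mk (U'.ι ≫ P.hom)
  let i : P' ⟶ P := Over.homMk U'.ι rfl
  have hσ : i ≫ σ ≫ γ₁.1 = i ≫ σ ≫ γ₂.1 := by
    apply Over.OverMorphism.ext
    change U'.ι ≫ σ.left ≫ γ₁.1.left = U'.ι ≫ σ.left ≫ γ₂.1.left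
    have hr : Set.range (U'.ι ≫ σ.left) ⊆ Set.range Wtot.ι := by
      rintro _ ⟨q, rfl⟩
      rw [Scheme.Opens.range_ι]
      exact q.2
    rw [← Category.assoc, ← Category.assoc, ← IsOpenImmersion.lift_fac Wtot.ι _ hr, Category.assoc,
      Category.assoc, hWtot]
  let g : P' ⟶ Magnet.AMonS S₀ ℤ := i ≫ fst _ _
  let b : P' ⟶ Magnet.AMonS S₀ N₁ := i ≫ snd _ _ ≫ fst _ _
  let t : P' ⟶ Y := i ≫ snd _ _ ≫ snd _ _
  have hσi : i ≫ σ = lift (lift g b ≫ (Magnet.subAct S₀ ℤ N₁).act) t := by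
    simp only [σ, comp_lift, comp_lift_assoc, g, b, t]
  have key : lift b t ≫ γ₁.1 = lift b t ≫ γ₂.1 := by
    have e := hσ
    rw [← Category.assoc, ← Category.assoc, hσi, (Magnet.MonAct.mem_eqvHom_iff γ₁.1).1 γ₁.2,
      (Magnet.MonAct.mem_eqvHom_iff γ₂.1).1 γ₂.2] at e
    obtain ⟨g', hg'⟩ : ∃ g' : P' ⟶ Magnet.AMonS S₀ ℤ, g' * g = 1 := by
      obtain ⟨g', hg'⟩ := exists_torus_pt (T := P')
        (IsUnit.of_mul_eq_one (aFn g (-1 : ℤ)) (by rw [← aFn_add, add_neg_cancel, aFn_zero]) :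
          IsUnit (aFn g (1 : ℤ))).unit⁻¹
      have h1 : aFn (g' * g) (1 : ℤ) = 1 := by
        rw [aFn_mul, hg', IsUnit.val_inv_mul]
      refine ⟨g', aFn_ext fun m => ?_⟩
      rw [aFn_one]
      obtain ⟨c, rfl | rfl⟩ := Int.eq_nat_or_neg m
      · rw [show (c : ℤ) = c • (1 : ℤ) by simp, aFn_nsmul, h1, one_pow]
      · have h2 := aFn_add (g' * g) (c : ℤ) (-(c : ℤ))
        rw [add_neg_cancel, aFn_zero, show (c : ℤ) = c • (1 : ℤ) by simp, aFn_nsmul, h1, one_pow,
          _root_.one_mul] at h2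
        simpa using h2.symm
    have e2 := congrArg (fun z => lift g' z ≫ act.act) e
    simp only [act] at e2
    rwa [← Magnet.MonAct.lift_mul_act, ← Magnet.MonAct.lift_mul_act, hg', Magnet.MonAct.lift_one_act,
      Magnet.MonAct.lift_one_act] at e2
  have hlift : lift b t = i ≫ snd _ _ := by
    apply CartesianMonoidalCategory.hom_ext <;> simp [b, t]
  rw [hlift] at key
  haveI : Flat (Red.DS S₀ ℤ).hom := by
    haveI : Subsingleton S₀ := inferInstanceAs (Subsingleton (PrimeSpectrum k))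
    infer_instance
  haveI : Flat (snd (Red.DS S₀ ℤ) (Magnet.AMonS S₀ N₁ ⊗ Y)).left := by
    rw [Over.snd_left]; infer_instance
  haveI : Surjective (i ≫ snd (Red.DS S₀ ℤ) (Magnet.AMonS S₀ N₁ ⊗ Y)).left := ⟨fun p => by
    let B2 := Magnet.AMonS S₀ N₁ ⊗ Y
    let K : CommRingCat.{u} := B2.left.residueField p
    let q₀ : Spec K ⟶ B2.left := B2.left.fromSpecResidueField p
    let Q₁ : CommRingCat.{u} := CommRingCat.of (Polynomial K)
    let Q₂ : CommRingCat.{u} := CommRingCat.of (FractionRing (Polynomial K))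
    let c₁ : K ⟶ Q₁ := CommRingCat.ofHom Polynomial.C
    let c₂ : Q₁ ⟶ Q₂ := CommRingCat.ofHom (algebraMap _ _)
    let T : Over S₀ := Over.mk (q₀ ≫ B2.hom)
    let pt : T ⟶ B2 := Over.homMk q₀ rfl
    let L : Over S₀ := Over.mk (Spec.map c₁ ≫ q₀ ≫ B2.hom)
    let π : L ⟶ T := Over.homMk (Spec.map c₁) rfl
    let L' : Over S₀ := Over.mk (Spec.map c₂ ≫ L.hom)
    let π' : L' ⟶ L := Over.homMk (Spec.map c₂) rfl
    obtain ⟨s, hs⟩ := exists_coord_eq (S := S₀) (T := L) ((Scheme.ΓSpecIso Q₁).inv Polynomial.X)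
    let o : L ⟶ B2 := lift (s * (π ≫ pt ≫ fst _ _)) (π ≫ pt ≫ snd _ _)
    have h0 : (Polynomial.evalRingHom (0 : K)).comp Polynomial.C = RingHom.id K := by ext r; simp
    let z : T ⟶ L := Over.homMk (Spec.map (CommRingCat.ofHom (Polynomial.evalRingHom (0 : K)))) (by
      change Spec.map _ ≫ Spec.map c₁ ≫ q₀ ≫ B2.hom = q₀ ≫ B2.hom
      rw [← Category.assoc]
      erw [← Spec.map_comp, ← CommRingCat.ofHom_comp, h0, CommRingCat.ofHom_id, Spec.map_id]
      rfl)
    have hzπ : z ≫ π = 𝟙 T := by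
      apply Over.OverMorphism.ext
      change Spec.map _ ≫ Spec.map c₁ = 𝟙 _
      erw [← Spec.map_comp, ← CommRingCat.ofHom_comp, h0, CommRingCat.ofHom_id]
      exact Spec.map_id _
    have hzo : z ≫ o = (pt ≫ snd _ _) ≫ zeroSec Y := by
      apply CartesianMonoidalCategory.hom_ext
      · rw [Category.assoc, Category.assoc, lift_fst, zeroSec, lift_fst, MonObj.comp_mul]
        simp only [Category.assoc]
        rw [comp_zeroB, comp_zeroB]
        apply coord_ext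
        rw [coord_zeroB, coord, aFn_mul]
        have : aFn (z ≫ s) gen = 0 := by
          change coord (z ≫ s) = 0
          rw [coord_comp, hs]
          change gFn z.left Polynomial.X = 0
          change gFn (Spec.map (CommRingCat.ofHom (Polynomial.evalRingHom (0 : K)))) Polynomial.X = 0
          rw [← Category.id_comp (Spec.map _), gFn_specMap]
          simp
        rw [this, zero_mul]
      · rw [Category.assoc, Category.assoc, lift_snd, zeroSec, lift_snd, ← Category.assoc z, hzπ]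
        simp
    have hne : (o.left ⁻¹ᵁ Wtot : Set L.left).Nonempty := by
      obtain ⟨κ⟩ : Nonempty (Spec K : Scheme.{u}) := inferInstanceAs (Nonempty (PrimeSpectrum K))
      refine ⟨z.left κ, ?_⟩
      change (z.left ≫ o.left) κ ∈ Wtot
      rw [← Over.comp_left, hzo]
      change (zeroSec Y).left ((pt ≫ snd _ _).left κ) ∈ Wtot
      exact TopologicalSpace.Opens.mem_iSup.2 ⟨_, hW _⟩
    obtain ⟨ηp⟩ : Nonempty (Spec Q₂ : Scheme.{u}) := inferInstanceAs (Nonempty (PrimeSpectrum (FractionRing (Polynomial K))))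
    have hηW : o.left (π'.left ηp) ∈ Wtot := by
      obtain ⟨x, hx⟩ := hne
      have hgen : (π'.left ηp) = (⟨⊥, Ideal.isPrime_bot⟩ : PrimeSpectrum (Polynomial K)) := by
        apply PrimeSpectrum.ext
        change Ideal.comap (algebraMap (Polynomial K) (FractionRing (Polynomial K))) ηp.asIdeal = ⊥
        rw [(Ideal.eq_bot_or_top ηp.asIdeal).resolve_right ηp.isPrime.ne_top, Ideal.comap_bot_of_injective]
        exact IsFractionRing.injective _ _
      have hsp : (⟨⊥, Ideal.isPrime_bot⟩ : PrimeSpectrum (Polynomial K)) ⤳ x :=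
        (PrimeSpectrum.le_iff_specializes _ _).1 bot_le
      have := hsp.mem_open (o.left ⁻¹ᵁ Wtot).isOpen hx
      rw [hgen]
      exact this
    have hu : IsUnit (coord (π' ≫ s)) := by
      rw [coord_comp, hs]
      change IsUnit (gFn (Spec.map c₂) Polynomial.X)
      rw [← Category.id_comp (Spec.map _), gFn_specMap]
      refine IsUnit.map (gFn (𝟙 (Spec Q₂))).hom ?_
      exact isUnit_iff_ne_zero.2 ((map_ne_zero_iff _ (IsFractionRing.injective _ _)).2 Polynomial.X_ne_zero)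
    obtain ⟨g₂, hg₂⟩ := exists_torus_pt (T := L') hu.unit
    let p₂ : L' ⟶ P := lift g₂ (π' ≫ π ≫ pt)
    have hp₂ : p₂ ≫ σ = π' ≫ o := by
      simp only [σ, p₂, o, comp_lift, comp_lift_assoc, lift_fst, lift_snd_assoc, Category.assoc]
      congr 1
      apply coord_ext
      rw [coord_subAct, hg₂, MonObj.comp_mul, IsUnit.unit_spec]
      rw [coord, coord, coord, aFn_mul]
    have hmem : p₂.left ηp ∈ U' := by
      change σ.left (p₂.left ηp) ∈ Wtot
      change (p₂.left ≫ σ.left) ηp ∈ Wtot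
      rw [← Over.comp_left, hp₂]
      exact hηW
    refine ⟨⟨p₂.left ηp, hmem⟩, ?_⟩
    change (p₂ ≫ snd _ _).left ηp = p
    rw [lift_snd]
    change q₀ (π.left (π'.left ηp)) = p
    exact Scheme.fromSpecResidueField_apply _ _⟩
  haveI : Flat (i ≫ snd (Red.DS S₀ ℤ) (Magnet.AMonS S₀ N₁ ⊗ Y)).left := by
    rw [Over.comp_left]
    haveI : Flat i.left := inferInstanceAs (Flat U'.ι)
    infer_instance
  haveI := Flat.epi_of_flat_of_surjective (i ≫ snd (Red.DS S₀ ℤ) (Magnet.AMonS S₀ N₁ ⊗ Y)).left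
  apply Over.OverMorphism.ext
  rw [← cancel_epi (i ≫ snd (Red.DS S₀ ℤ) (Magnet.AMonS S₀ N₁ ⊗ Y)).left, ← Over.comp_left, ← Over.comp_left,
    Category.assoc, Category.assoc]
  rw [Category.assoc, Category.assoc] at key
  exact congrArg Over.Hom.left key

end Groth.Agent.Mag88
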