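import Mathlib

/-! Positively graded formally smooth algebras are symmetric algebras of projective modules. -/

universe u

set_option linter.style.haveILetI false

noncomputable section

namespace Groth.Agent.Mag88

open Polynomial

variable {B : Type u} [CommRing B] {C : Type u} [CommRing C] [Algebra B C]

section Aug

variable (ε : C →ₐ[B] B)

theorem sub_mem_ker (c : C) : c - algebraMap B C (ε c) ∈ RingHom.ker ε := by
  simp [RingHom.mem_ker]

theorem sub_mul_sub (c d : C) :
    (c * d - algebraMap B C (ε (c * d))) - (ε c • (d - algebraMap B C (ε d)) + ε d • (c - algebraMap B C (ε c))) =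
      (c - algebraMap B C (ε c)) * (d - algebraMap B C (ε d)) := by
  rw [map_mul, map_mul, Algebra.smul_def, Algebra.smul_def]
  ring

/-- The conormal module of an augmentation. -/
abbrev ConormalSub : Submodule B ↥((RingHom.ker ε).restrictScalars B) :=
  ((RingHom.ker ε ^ 2).restrictScalars B).comap ((RingHom.ker ε).restrictScalars B).subtype

/-- The conormal module of an augmentation. -/
abbrev Conormal : Type u := ↥((RingHom.ker ε).restrictScalars B) ⧸ ConormalSub ε

/-- The class of `c - ε c`. -/
def conClass : C →ₗ[B] Conormal ε :=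
  (ConormalSub ε).mkQ.comp
    (LinearMap.codRestrict ((RingHom.ker ε).restrictScalars B)
      (LinearMap.id - (Algebra.linearMap B C).comp ε.toLinearMap) (sub_mem_ker ε))

theorem conClass_apply (c : C) : conClass ε c =
    Submodule.Quotient.mk (⟨c - algebraMap B C (ε c), sub_mem_ker ε c⟩ : ↥((RingHom.ker ε).restrictScalars B)) :=
  rfl

theorem conClass_mul (c d : C) : conClass ε (c * d) = ε c • conClass ε d + ε d • conClass ε c := by
  rw [conClass_apply, conClass_apply, conClass_apply, ← Submodule.Quotient.mk_smul, ← Submodule.Quotient.mk_smul,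
    ← Submodule.Quotient.mk_add, Submodule.Quotient.eq]
  change (c * d - algebraMap B C (ε (c * d))) - (ε c • (d - algebraMap B C (ε d)) + ε d • (c - algebraMap B C (ε c))) ∈
    RingHom.ker ε ^ 2
  rw [sub_mul_sub, pow_two]
  exact Ideal.mul_mem_mul (sub_mem_ker ε c) (sub_mem_ker ε d)

theorem conClass_surjective : Function.Surjective (conClass ε) := fun p => by
  obtain ⟨⟨c, hc⟩, rfl⟩ := Submodule.Quotient.mk_surjective _ p
  refine ⟨c, congrArg Submodule.Quotient.mk (Subtype.ext ?_)⟩
  change c - algebraMap B C (ε c) = c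
  rw [show ε c = 0 from hc, map_zero, sub_zero]

theorem conClass_algebraMap (b : B) : conClass ε (algebraMap B C b) = 0 := by
  refine (Submodule.Quotient.mk_eq_zero _).2 ?_
  change algebraMap B C b - algebraMap B C (ε (algebraMap B C b)) ∈ RingHom.ker ε ^ 2
  rw [AlgHom.commutes, Algebra.algebraMap_self, RingHom.id_apply, sub_self]
  exact Ideal.zero_mem _

theorem conClass_eq_zero_of_mem_sq {c : C} (hc : c ∈ RingHom.ker ε ^ 2) : conClass ε c = 0 := by
  refine (Submodule.Quotient.mk_eq_zero _).2 ?_
  change c - algebraMap B C (ε c) ∈ RingHom.ker ε ^ 2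
  rw [show ε c = 0 from Ideal.pow_le_self two_ne_zero hc, map_zero, sub_zero]
  exact hc

theorem finite_conormal [Algebra.FiniteType B C] : Module.Finite B (Conormal ε) := by
  obtain ⟨G, hG⟩ := Algebra.FiniteType.out (R := B) (A := C)
  refine ⟨⟨G.finite_toSet.image (conClass ε) |>.toFinset, eq_top_iff.2 fun p _ => ?_⟩⟩
  rw [Set.Finite.coe_toFinset]
  obtain ⟨c, rfl⟩ := conClass_surjective ε p
  have hc : c ∈ Algebra.adjoin B (G : Set C) := hG ▸ trivial
  induction hc using Algebra.adjoin_induction with
  | mem x hx => exact Submodule.subset_span ⟨x, hx, rfl⟩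
  | algebraMap b => rw [conClass_algebraMap]; exact Submodule.zero_mem _
  | add x y _ _ hx hy => rw [map_add]; exact Submodule.add_mem _ (hx trivial) (hy trivial)
  | mul x y _ _ hx hy =>
    rw [conClass_mul]
    exact Submodule.add_mem _ (Submodule.smul_mem _ _ (hy trivial)) (Submodule.smul_mem _ _ (hx trivial))

theorem projective_conormal [Algebra.FormallySmooth B C] : Module.Projective B (Conormal ε) := by
  refine Module.Projective.of_lifting_property fun {N N'} _ _ _ _ g h hg => ?_
  letI : Module Bᵐᵒᵖ N := Module.compHom N (RingEquiv.toOpposite B).symm.toRingHom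
  haveI : IsCentralScalar B N := ⟨fun _ _ => rfl⟩
  letI : Module Bᵐᵒᵖ N' := Module.compHom N' (RingEquiv.toOpposite B).symm.toRingHom
  haveI : IsCentralScalar B N' := ⟨fun _ _ => rfl⟩
  let π : TrivSqZeroExt B N →ₐ[B] TrivSqZeroExt B N' := TrivSqZeroExt.map g
  let f : C →ₐ[B] TrivSqZeroExt B N' := AlgHom.ofLinearMap
    ((TrivSqZeroExt.inlAlgHom B B N').toLinearMap.comp ε.toLinearMap +
      (TrivSqZeroExt.inrHom B N').comp (h.comp (conClass ε)))
    (by
      simp [show conClass ε 1 = 0 by rw [← map_one (algebraMap B C), conClass_algebraMap]])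
    (fun c d => by
      apply TrivSqZeroExt.ext
      · simp
      · simp only [LinearMap.add_apply, LinearMap.comp_apply, AlgHom.toLinearMap_apply, TrivSqZeroExt.snd_mul,
          TrivSqZeroExt.snd_add, TrivSqZeroExt.fst_add, TrivSqZeroExt.inlAlgHom_apply, TrivSqZeroExt.inrHom_apply,
          TrivSqZeroExt.snd_inl, TrivSqZeroExt.snd_inr, TrivSqZeroExt.fst_inl, TrivSqZeroExt.fst_inr, zero_add,
          add_zero, conClass_mul, map_add, map_smul, op_smul_eq_smul, TrivSqZeroExt.snd_smul])
  have hπfst : ∀ x, (π x).fst = x.fst := fun x => TrivSqZeroExt.fst_map g x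
  have hπsnd : ∀ x, (π x).snd = g x.snd := fun x => TrivSqZeroExt.snd_map g x
  have hπ : Function.Surjective π := fun x => by
    obtain ⟨n, hn⟩ := hg x.snd
    exact ⟨TrivSqZeroExt.inl x.fst + TrivSqZeroExt.inr n, TrivSqZeroExt.ext (by simp [hπfst]) (by simp [hπsnd, hn])⟩
  have hker : IsNilpotent (RingHom.ker (π : TrivSqZeroExt B N →+* TrivSqZeroExt B N')) := by
    refine ⟨2, le_antisymm ?_ bot_le⟩
    rw [pow_two, Ideal.mul_le]
    intro x hx y hy
    have hx0 : x.fst = 0 := by simpa [hπfst] using congrArg TrivSqZeroExt.fst (RingHom.mem_ker.1 hx)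
    have hy0 : y.fst = 0 := by simpa [hπfst] using congrArg TrivSqZeroExt.fst (RingHom.mem_ker.1 hy)
    exact Ideal.mem_bot.2 (TrivSqZeroExt.ext (by simp [hx0]) (by simp [hx0, hy0]))
  let l := Algebra.FormallySmooth.liftOfSurjective f π hπ hker
  have hl : ∀ c, π (l c) = f c := Algebra.FormallySmooth.liftOfSurjective_apply f π hπ hker
  have hfst : ∀ c, (l c).fst = ε c := fun c => by
    have := congrArg TrivSqZeroExt.fst (hl c)
    simpa [hπfst, f] using this
  let sndl : C →ₗ[B] N := (TrivSqZeroExt.sndHom B N).comp l.toLinearMap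
  refine ⟨(ConormalSub ε).liftQ (sndl.comp ((RingHom.ker ε).restrictScalars B).subtype) ?_, ?_⟩
  · rintro ⟨x, hx0⟩ hx
    change x ∈ RingHom.ker ε ^ 2 at hx
    change (l x).snd = 0
    rw [pow_two] at hx
    clear hx0
    induction hx using Submodule.mul_induction_on' with
    | mem_mul_mem a ha b hb =>
      rw [map_mul, TrivSqZeroExt.snd_mul, hfst, hfst, show ε a = 0 from ha, show ε b = 0 from hb]
      simp
    | add a _ b _ iha ihb => rw [map_add, TrivSqZeroExt.snd_add, iha, ihb, add_zero]
  · refine Submodule.linearMap_qext _ (LinearMap.ext fun ⟨x, hx⟩ => ?_)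
    have := congrArg TrivSqZeroExt.snd (hl x)
    refine Eq.trans ?_ (this.trans ?_)
    · simp [π, sndl]
    · simp only [f, AlgHom.ofLinearMap_apply, LinearMap.add_apply, LinearMap.comp_apply, TrivSqZeroExt.snd_add]
      simp
      congr 1
      refine congrArg Submodule.Quotient.mk (Subtype.ext ?_)
      change x - algebraMap B C (ε x) = x
      rw [show ε x = 0 from hx, map_zero, sub_zero]

end Aug

section Sym

variable (P : Type u) [AddCommGroup P] [Module B P]

/-- The ideal generated by the generators of a symmetric algebra. -/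
abbrev symIdeal : Ideal (SymmetricAlgebra B P) := Ideal.span (Set.range (SymmetricAlgebra.ι B P))

theorem iInf_symIdeal_pow [Module.Projective B P] (x : SymmetricAlgebra B P) (hx : ∀ d, x ∈ symIdeal P ^ d) :
    x = 0 := by
  classical
  obtain ⟨s, hs⟩ := Module.projective_def.1 ‹Module.Projective B P›
  let J : SymmetricAlgebra B P →ₐ[B] MvPolynomial P B :=
    SymmetricAlgebra.lift ((Finsupp.linearCombination B (MvPolynomial.X : P → MvPolynomial P B)).comp s)
  let K : MvPolynomial P B →ₐ[B] SymmetricAlgebra B P := MvPolynomial.aeval (SymmetricAlgebra.ι B P)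
  have hKJ : K.comp J = AlgHom.id B _ := by
    refine SymmetricAlgebra.algHom_ext (LinearMap.ext fun p => ?_)
    change K.toLinearMap (J (SymmetricAlgebra.ι B P p)) = SymmetricAlgebra.ι B P p
    rw [SymmetricAlgebra.lift_ι_apply, LinearMap.comp_apply, Finsupp.apply_linearCombination,
      show (⇑K.toLinearMap ∘ MvPolynomial.X) = SymmetricAlgebra.ι B P from funext fun q => MvPolynomial.aeval_X _ _]
    conv_rhs => rw [← hs p]
    rw [Finsupp.apply_linearCombination]
    rfl
  have hI : (symIdeal P).map J ≤ MvPolynomial.idealOfVars P B := by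
    rw [Ideal.map_span, Ideal.span_le]
    rintro _ ⟨_, ⟨p, rfl⟩, rfl⟩
    simp only [J, SymmetricAlgebra.lift_ι_apply, LinearMap.comp_apply, Finsupp.linearCombination_apply]
    exact Submodule.sum_mem _ fun q _ => Submodule.smul_of_tower_mem _ _ (Ideal.subset_span ⟨q, rfl⟩)
  have hJ : J x = 0 := MvPolynomial.ext _ _ fun m => by
    have hm := Ideal.pow_right_mono hI (m.degree + 1)
      ((Ideal.map_pow J (symIdeal P) _) ▸ Ideal.mem_map_of_mem J (hx (m.degree + 1)))
    rw [MvPolynomial.coeff_zero]
    exact (MvPolynomial.mem_pow_idealOfVars_iff' _ _).1 hm m (Nat.lt_succ_self _)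
  have := congr($hKJ x)
  simpa [hJ] using this.symm

end Sym

section Main

variable (ε : C →ₐ[B] B) in
set_option maxHeartbeats 1000000 in
theorem injective_of_conClass [Algebra.FormallySmooth B C] [Module.Projective B (Conormal ε)]
    (ψ : SymmetricAlgebra B (Conormal ε) →ₐ[B] C) (hε : ∀ p, ε (ψ (SymmetricAlgebra.ι B (Conormal ε) p)) = 0)
    (hcl : ∀ p, conClass ε (ψ (SymmetricAlgebra.ι B (Conormal ε) p)) = p) : Function.Injective ψ := by
  refine (injective_iff_map_eq_zero ψ).2 fun x hx => iInf_symIdeal_pow (Conormal ε) x fun d => ?_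
  suffices ∀ n, x ∈ symIdeal (B := B) (Conormal ε) ^ (n + 2) from
    Ideal.pow_le_pow_right (Nat.le_add_right d 2) (this d)
  clear d
  intro n
  let I := symIdeal (B := B) (Conormal ε)
  let g : C →ₐ[B] SymmetricAlgebra B (Conormal ε) ⧸ I ^ 2 := AlgHom.ofLinearMap
    ((Ideal.Quotient.mkₐ B (I ^ 2)).toLinearMap.comp
      ((Algebra.linearMap B _).comp ε.toLinearMap + (SymmetricAlgebra.ι B (Conormal ε)).comp (conClass ε)))
    (by
      change Ideal.Quotient.mk _ (algebraMap B _ (ε 1) + SymmetricAlgebra.ι B (Conormal ε) (conClass ε 1)) = 1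
      rw [show conClass ε 1 = 0 by rw [← map_one (algebraMap B C), conClass_algebraMap], map_zero, add_zero,
        map_one, map_one, map_one])
    (fun a b => by
      change Ideal.Quotient.mk _ (algebraMap B _ (ε (a * b)) + SymmetricAlgebra.ι B (Conormal ε) (conClass ε (a * b))) =
        Ideal.Quotient.mk _ (algebraMap B _ (ε a) + SymmetricAlgebra.ι B (Conormal ε) (conClass ε a)) *
          Ideal.Quotient.mk _ (algebraMap B _ (ε b) + SymmetricAlgebra.ι B (Conormal ε) (conClass ε b))
      rw [← map_mul (Ideal.Quotient.mk _), Ideal.Quotient.eq, conClass_mul, map_add, map_smul, map_smul, map_mul,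
        map_mul, Algebra.smul_def, Algebra.smul_def]
      have : SymmetricAlgebra.ι B (Conormal ε) (conClass ε a) * SymmetricAlgebra.ι B (Conormal ε) (conClass ε b) ∈ I ^ 2 := by
        rw [pow_two]; exact Ideal.mul_mem_mul (Ideal.subset_span ⟨_, rfl⟩) (Ideal.subset_span ⟨_, rfl⟩)
      convert Ideal.neg_mem_iff _ |>.2 this using 1
      ring)
  have hg : ∀ c, g c = Ideal.Quotient.mk _ (algebraMap B _ (ε c) + SymmetricAlgebra.ι B (Conormal ε) (conClass ε c)) :=
    fun c => rfl
  have hle : I ^ (n + 2) ≤ I ^ 2 := Ideal.pow_le_pow_right (Nat.le_add_left 2 n)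
  let fac : SymmetricAlgebra B (Conormal ε) ⧸ I ^ (n + 2) →ₐ[B] SymmetricAlgebra B (Conormal ε) ⧸ I ^ 2 := Ideal.Quotient.factorₐ B hle
  have hfac : ∀ y, fac (Ideal.Quotient.mk _ y) = Ideal.Quotient.mk _ y := fun y => rfl
  have hker : RingHom.ker (fac : SymmetricAlgebra B (Conormal ε) ⧸ I ^ (n + 2) →+* SymmetricAlgebra B (Conormal ε) ⧸ I ^ 2) =
      (I ^ 2).map (Ideal.Quotient.mk (I ^ (n + 2))) := by
    refine le_antisymm (fun z hz => ?_) (Ideal.map_le_iff_le_comap.2 fun y hy => ?_)
    · obtain ⟨y, rfl⟩ := Ideal.Quotient.mk_surjective z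
      exact Ideal.mem_map_of_mem _ (Ideal.Quotient.eq_zero_iff_mem.1 hz)
    · exact Ideal.Quotient.eq_zero_iff_mem.2 hy
  have hnil : IsNilpotent (RingHom.ker (fac : SymmetricAlgebra B (Conormal ε) ⧸ I ^ (n + 2) →+* SymmetricAlgebra B (Conormal ε) ⧸ I ^ 2)) := by
    refine ⟨n + 2, ?_⟩
    rw [hker, ← Ideal.map_pow, Ideal.zero_eq_bot, Ideal.map_eq_bot_iff_le_ker, Ideal.mk_ker, ← pow_mul]
    exact Ideal.pow_le_pow_right (Nat.le_mul_of_pos_left _ two_pos)
  let θ := Algebra.FormallySmooth.liftOfSurjective g fac (Ideal.Quotient.factor_surjective hle) hnil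
  let e := θ.comp ψ
  let mk := Ideal.Quotient.mk (I ^ (n + 2))
  have hι : ∀ p : Conormal ε, e (SymmetricAlgebra.ι B (Conormal ε) p) - mk (SymmetricAlgebra.ι B (Conormal ε) p) ∈ (I ^ 2).map mk := fun p => by
    rw [← hker, RingHom.mem_ker]
    change fac (e _ - mk _) = 0
    rw [map_sub, hfac, sub_eq_zero]
    change fac (θ (ψ (SymmetricAlgebra.ι B (Conormal ε) p))) = _
    refine (Algebra.FormallySmooth.liftOfSurjective_apply g fac _ hnil _).trans ?_
    rw [hg, hε, hcl, map_zero, zero_add]
  have hmul2 : ∀ {i j : ℕ} {u v u' v' : SymmetricAlgebra B (Conormal ε) ⧸ I ^ (n + 2)}, u ∈ (I ^ i).map mk →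
      u' - u ∈ (I ^ (i + 1)).map mk → v ∈ (I ^ j).map mk → v' - v ∈ (I ^ (j + 1)).map mk →
      u' * v' - u * v ∈ (I ^ (i + j + 1)).map mk := by
    intro i j u v u' v' hu hu' hv hv'
    have hv1 : v' ∈ (I ^ j).map mk := by
      have := Ideal.add_mem _ hv (Ideal.map_mono (Ideal.pow_le_pow_right (Nat.le_succ j)) hv')
      rwa [add_sub_cancel] at this
    rw [show u' * v' - u * v = (u' - u) * v' + u * (v' - v) by ring]
    refine Ideal.add_mem _ ?_ ?_
    · have := Ideal.mul_mem_mul hu' hv1
      rw [← Ideal.map_mul, ← pow_add] at this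
      rwa [Nat.add_right_comm] at this
    · have := Ideal.mul_mem_mul hu hv'
      rw [← Ideal.map_mul, ← pow_add] at this
      rwa [← Nat.add_assoc] at this
  have htop : ∀ z, z ∈ (I ^ 0).map mk := fun z => by
    rw [pow_zero, Ideal.one_eq_top, Ideal.map_top]; trivial
  have key : ∀ k y, y ∈ I ^ k → e y - mk y ∈ (I ^ (k + 1)).map mk := by
    have k0 : ∀ y, e y - mk y ∈ (I ^ 1).map mk := fun y => by
      induction y using SymmetricAlgebra.induction with
      | algebraMap r =>
        rw [AlgHom.commutes, show mk (algebraMap B _ r) = algebraMap B _ r from rfl, sub_self]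
        exact Ideal.zero_mem _
      | ι p => exact Ideal.map_mono (Ideal.pow_le_pow_right one_le_two) (hι p)
      | mul a b ha hb =>
        rw [map_mul, map_mul]
        exact hmul2 (i := 0) (j := 0) (htop _) ha (htop _) hb
      | add a b ha hb => rw [map_add, map_add, add_sub_add_comm]; exact Ideal.add_mem _ ha hb
    have k1 : ∀ y, y ∈ I → e y - mk y ∈ (I ^ 2).map mk := fun y hy => by
      induction hy using Submodule.span_induction with
      | mem z hz => obtain ⟨p, rfl⟩ := hz; exact hι p
      | zero => rw [map_zero, map_zero, sub_zero]; exact Ideal.zero_mem _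
      | add a b _ _ ha hb => rw [map_add, map_add, add_sub_add_comm]; exact Ideal.add_mem _ ha hb
      | smul r z hz ih =>
        rw [smul_eq_mul, map_mul, map_mul]
        exact hmul2 (i := 0) (j := 1) (htop _) (k0 r) (by rw [pow_one]; exact Ideal.mem_map_of_mem mk hz) ih
    intro k
    induction k with
    | zero => exact fun y _ => k0 y
    | succ k ih =>
      intro y hy
      rw [pow_succ] at hy
      induction hy using Submodule.mul_induction_on' with
      | mem_mul_mem a ha b hb =>
        rw [map_mul, map_mul]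
        exact hmul2 (i := k) (j := 1) (Ideal.mem_map_of_mem mk ha) (ih a ha)
          (by rw [pow_one]; exact Ideal.mem_map_of_mem mk hb) (k1 b hb)
      | add a _ b _ iha ihb => rw [map_add, map_add, add_sub_add_comm]; exact Ideal.add_mem _ iha ihb
  have hex : e x = 0 := by rw [show e x = θ (ψ x) from rfl, hx, map_zero]
  suffices ∀ k, k ≤ n + 2 → x ∈ I ^ k from this _ le_rfl
  intro k
  induction k with
  | zero => exact fun _ => by rw [pow_zero, Ideal.one_eq_top]; trivial
  | succ k ih =>
    intro hk
    have h := key k x (ih (by omega))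
    rw [hex, zero_sub, Ideal.neg_mem_iff] at h
    have : x ∈ ((I ^ (k + 1)).map mk).comap mk := h
    rw [Ideal.comap_map_of_surjective _ Ideal.Quotient.mk_surjective, ← RingHom.ker_eq_comap_bot, Ideal.mk_ker,
      sup_eq_left.2 (Ideal.pow_le_pow_right hk)] at this
    exact this

/-- A formally smooth positively graded algebra (a grading given by a coaction of the affine line as a monoid) of finite
type is the symmetric algebra of a finite projective module. -/
theorem exists_symmetricAlgebra_equiv [Algebra.FormallySmooth B C] [Algebra.FiniteType B C] (ρ : C →ₐ[B] C[X])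
    (ε : C →ₐ[B] B) (h1 : ∀ c, (ρ c).eval 1 = c) (h0 : ∀ c, (ρ c).eval 0 = algebraMap B C (ε c))
    (hco : ∀ c k, ρ ((ρ c).coeff k) = monomial k ((ρ c).coeff k)) :
    ∃ (P : Type u) (_ : AddCommGroup P) (_ : Module B P),
      Module.Finite B P ∧ Module.Projective B P ∧ Nonempty (SymmetricAlgebra B P ≃ₐ[B] C) := by
  classical
  let pr : ℕ → C →ₗ[B] C := fun k =>
    { toFun := fun c => (ρ c).coeff k
      map_add' := fun a b => by simp
      map_smul' := fun b c => by simp }
  let J := RingHom.ker ε
  let P := Conormal ε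
  have hp0 : ∀ c, pr 0 c = algebraMap B C (ε c) := fun c => by
    change (ρ c).coeff 0 = _
    rw [coeff_zero_eq_eval_zero, h0]
  have hpr : ∀ (k k' : ℕ) c, pr k' (pr k c) = if k' = k then pr k c else 0 := fun k k' c => by
    change (ρ ((ρ c).coeff k)).coeff k' = _
    rw [hco, coeff_monomial]
    simp only [eq_comm]
    rfl
  have hpos : ∀ k c, k ≠ 0 → pr k c ∈ J := fun k c hk => by
    have h := hp0 (pr k c)
    rw [hpr k 0, if_neg (Ne.symm hk)] at h
    refine RingHom.mem_ker.2 ?_
    have h' := congrArg ε h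
    rwa [AlgHom.commutes, Algebra.algebraMap_self, RingHom.id_apply, map_zero, eq_comm] at h'
  have hprJ : ∀ k c, c ∈ J → pr k c ∈ J := fun k c hc => by
    rcases eq_or_ne k 0 with rfl | hk
    · rw [hp0, show ε c = 0 from hc, map_zero]; exact J.zero_mem
    · exact hpos k c hk
  have hmul : ∀ k a b, pr k (a * b) = ∑ x ∈ Finset.HasAntidiagonal.antidiagonal k, pr x.1 a * pr x.2 b := fun k a b => by
    change (ρ (a * b)).coeff k = _
    rw [map_mul, Polynomial.coeff_mul]
    rfl
  have hsq : ∀ k c, c ∈ J ^ 2 → pr k c ∈ J ^ 2 := fun k c hc => by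
    rw [pow_two] at hc ⊢
    induction hc using Submodule.mul_induction_on' with
    | mem_mul_mem a ha b hb =>
      rw [hmul]
      exact Submodule.sum_mem _ fun x _ => Ideal.mul_mem_mul (hprJ _ _ ha) (hprJ _ _ hb)
    | add a _ b _ iha ihb => rw [map_add]; exact Ideal.add_mem _ iha ihb
  have hdec : ∀ c D, (ρ c).natDegree < D → c = ∑ k ∈ Finset.range D, pr k c := fun c D hD => by
    conv_lhs => rw [← h1 c, eval_eq_sum_range' hD]
    simp only [one_pow, _root_.mul_one]
    rfl
  have hprsub : ∀ k, k ≠ 0 → ∀ c, conClass ε (pr k (c - algebraMap B C (ε c))) = conClass ε (pr k c) := fun k hk c => by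
    rw [← hp0, map_sub, hpr 0 k, if_neg hk, sub_zero]
  let q : ℕ → P →ₗ[B] P := fun k => (ConormalSub ε).liftQ
    ((conClass ε).comp ((pr k).comp ((RingHom.ker ε).restrictScalars B).subtype))
    (fun x hx => conClass_eq_zero_of_mem_sq ε (hsq k _ hx))
  have hq : ∀ k c, k ≠ 0 → q k (conClass ε c) = conClass ε (pr k c) := fun k c hk => hprsub k hk c
  have hq0 : ∀ p : P, q 0 p = 0 := fun p => by
    obtain ⟨⟨c, hc⟩, rfl⟩ := Submodule.Quotient.mk_surjective _ p
    change conClass ε (pr 0 c) = 0
    rw [hp0, conClass_algebraMap]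
  haveI : Module.Finite B P := finite_conormal ε
  haveI : Module.Projective B P := projective_conormal ε
  obtain ⟨G, hG⟩ := (inferInstance : Module.Finite B P).fg_top
  choose rep hrep using conClass_surjective ε
  let D := G.sup (fun p => (ρ (rep p)).natDegree) + 1
  have hqsum : ∑ k ∈ Finset.range D, q k = LinearMap.id := by
    refine LinearMap.ext_on hG fun p hp => ?_
    rw [LinearMap.sum_apply, LinearMap.id_apply]
    conv_rhs => rw [← hrep p, hdec (rep p) D (Nat.lt_succ_of_le (Finset.le_sup (f := fun p => (ρ (rep p)).natDegree) hp)),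
      map_sum]
    refine Finset.sum_congr rfl fun k _ => ?_
    conv_lhs => rw [← hrep p]
    rcases eq_or_ne k 0 with rfl | hk
    · rw [hq0, hp0, conClass_algebraMap]
    · exact hq k _ hk
  obtain ⟨σ, hσ⟩ := Module.projective_lifting_property (conClass ε) LinearMap.id (conClass_surjective ε)
  have hσ' : ∀ p, conClass ε (σ p) = p := fun p => congr($hσ p)
  let s : P →ₗ[B] C := ∑ k ∈ Finset.range D, (pr k).comp (σ.comp (q k))
  have hs : ∀ p, s p = ∑ k ∈ Finset.range D, pr k (σ (q k p)) := fun p => by
    simp only [s, LinearMap.sum_apply, LinearMap.comp_apply]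
  have hsJ : ∀ p, s p ∈ J := fun p => by
    rw [hs]
    refine Submodule.sum_mem _ fun k _ => ?_
    rcases eq_or_ne k 0 with rfl | hk
    · rw [hq0, map_zero, map_zero]; exact J.zero_mem
    · exact hpos k _ hk
  have hqq : ∀ k p, q k (q k p) = q k p := fun k p => by
    rcases eq_or_ne k 0 with rfl | hk
    · rw [hq0, hq0]
    · obtain ⟨c, rfl⟩ := conClass_surjective ε p
      rw [hq k c hk, hq k _ hk, hpr, if_pos rfl]
  have hs1 : ∀ p, conClass ε (s p) = p := fun p => by
    conv_rhs => rw [← LinearMap.id_apply (R := B) p, ← hqsum, LinearMap.sum_apply]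
    rw [hs, map_sum]
    refine Finset.sum_congr rfl fun k _ => ?_
    rcases eq_or_ne k 0 with rfl | hk
    · rw [hq0, map_zero, map_zero, map_zero]
    · rw [← hq k _ hk, hσ', hqq]
  let ψ : SymmetricAlgebra B P →ₐ[B] C := SymmetricAlgebra.lift s
  refine ⟨P, inferInstance, inferInstance, inferInstance, inferInstance, ⟨AlgEquiv.ofBijective ψ ⟨?_, ?_⟩⟩⟩
  · -- injectivity
    exact injective_of_conClass ε ψ (fun p => (congrArg ε (SymmetricAlgebra.lift_ι_apply s p)).trans (hsJ p))
      (fun p => (congrArg (conClass ε) (SymmetricAlgebra.lift_ι_apply s p)).trans (hs1 p))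
  · -- surjectivity
    have hhom : ∀ k c, pr k c = c → c ∈ ψ.range := by
      intro k
      induction k using Nat.strong_induction_on with
      | _ k ih =>
        intro c hc
        rcases eq_or_ne k 0 with rfl | hk
        · rw [← hc, hp0]; exact ψ.range.algebraMap_mem _
        have hJ2 : ∀ z ∈ J ^ 2, pr k z ∈ ψ.range := fun z hz => by
          rw [pow_two] at hz
          induction hz using Submodule.mul_induction_on' with
          | mem_mul_mem a ha b hb =>
            rw [hmul]
            refine Subalgebra.sum_mem _ fun x hx => ?_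
            rw [Finset.HasAntidiagonal.mem_antidiagonal] at hx
            rcases eq_or_ne x.1 0 with h1 | h1
            · rw [h1, hp0, show ε a = 0 from ha, map_zero, zero_mul]; exact zero_mem _
            rcases eq_or_ne x.2 0 with h2 | h2
            · rw [h2, hp0 b, show ε b = 0 from hb, map_zero, mul_zero]; exact zero_mem _
            exact mul_mem (ih x.1 (by omega) _ (by rw [hpr, if_pos rfl])) (ih x.2 (by omega) _ (by rw [hpr, if_pos rfl]))
          | add a _ b _ iha ihb => rw [map_add]; exact add_mem iha ihb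
        have hsr : s (conClass ε c) ∈ ψ.range := ⟨SymmetricAlgebra.ι B P _, SymmetricAlgebra.lift_ι_apply s _⟩
        have hqj : ∀ j, j ≠ k → pr j (σ (q j (conClass ε c))) = 0 := fun j hj => by
          rcases eq_or_ne j 0 with rfl | hj0
          · rw [hq0, map_zero, map_zero]
          · rw [hq j c hj0, ← hc, hpr, if_neg hj, map_zero, map_zero, map_zero]
        have hsk : pr k (s (conClass ε c)) = s (conClass ε c) := by
          rw [hs, map_sum]
          refine Finset.sum_congr rfl fun j _ => ?_
          rcases eq_or_ne j k with rfl | hj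
          · rw [hpr, if_pos rfl]
          · rw [hqj j hj, map_zero]
        have hdiff : c - s (conClass ε c) ∈ J ^ 2 := by
          have h2 : conClass ε (c - s (conClass ε c)) = 0 := by rw [map_sub, hs1, sub_self]
          rw [conClass_apply, Submodule.Quotient.mk_eq_zero] at h2
          change (c - s (conClass ε c)) - algebraMap B C (ε (c - s (conClass ε c))) ∈ J ^ 2 at h2
          rwa [show ε (c - s (conClass ε c)) = 0 from J.sub_mem (hc ▸ hpos k c hk) (hsJ _), map_zero, sub_zero] at h2
        have h3 := hJ2 _ hdiff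
        rw [map_sub, hc, hsk] at h3
        simpa using add_mem h3 hsr
    intro c
    have : c ∈ ψ.range := by
      rw [hdec c _ (Nat.lt_succ_self _)]
      exact Subalgebra.sum_mem _ fun k _ => hhom k _ (by rw [hpr, if_pos rfl])
    exact this

end Main

end Groth.Agent.Mag88
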