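import Groth.Agent.Mag88.Avg
import Groth.Agent.Mag88.Comap
import Groth.Agent.Mag88.Affine2
import Groth.Agent.S1488

/-! Equivariant infinitesimal lifting along smooth morphisms for diagonalizable groups. -/

universe u

set_option backward.isDefEq.respectTransparency false
set_option backward.isDefEq.respectTransparency.types false
set_option linter.style.haveILetI false

open CategoryTheory CategoryTheory.Limits MonoidalCategory CartesianMonoidalCategory MonObj AlgebraicGeometry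
open Opposite Magnet Magnet.MonAct

noncomputable section

namespace Groth.Agent.Mag88

variable {S : Scheme.{u}} {M : Type} [AddCommMonoid M] {R R' : CommRingCat.{u}} (p : Spec R ⟶ S)

/-- The universal point of the monoid scheme. -/
def mg (M : Type) [AddCommMonoid M] : mQ p M ⟶ AMonS S M := mMap p M ≫ fst _ _

theorem aFn_comp_mg {T : Over S} (g : T ⟶ mQ p M) (m : M) :
    aFn (g ≫ mg p M) m = gFn g.left (MonoidAlgebra.single (Multiplicative.ofAdd m) 1) :=
  aFn_comp_mMap_fst p g m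

theorem mMap_eq_lift : mMap p M = lift (mg p M) (mProj p M) := by
  apply CartesianMonoidalCategory.hom_ext
  · rw [lift_fst]; rfl
  · rw [lift_snd, mMap, lift_snd]

variable {p' : Spec R' ⟶ S}

/-- Base change of `mQ`. -/
def mB (φ : R ⟶ R') (e : Spec.map φ ≫ p = p') (M : Type) [AddCommMonoid M] : mQ p' M ⟶ mQ p M :=
  Over.homMk (Spec.map (CommRingCat.ofHom (MonoidAlgebra.mapRingHom (Multiplicative M) φ.hom)))
    (by subst e; exact Over.w (mQbc p φ M))

theorem mB_mMap (φ : R ⟶ R') (e : Spec.map φ ≫ p = p') :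
    mB p φ e M ≫ mMap p M = mMap p' M ≫ (AMonS S M ◁ (Over.homMk (Spec.map φ) e : Over.mk p' ⟶ Over.mk p)) := by
  subst e
  exact mQbc_mMap p φ M

theorem mB_mg (φ : R ⟶ R') (e : Spec.map φ ≫ p = p') : mB p φ e M ≫ mg p M = mg p' M := by
  rw [mg, mg, ← Category.assoc, mB_mMap, Category.assoc, whiskerLeft_fst]

theorem mB_mProj (φ : R ⟶ R') (e : Spec.map φ ≫ p = p') :
    mB p φ e M ≫ mProj p M = mProj p' M ≫ (Over.homMk (Spec.map φ) e : Over.mk p' ⟶ Over.mk p) := by
  have h := congrArg (· ≫ snd _ _) (mB_mMap (M := M) p φ e)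
  simp only [Category.assoc, whiskerLeft_snd] at h
  rwa [mMap, mMap, lift_snd, lift_snd_assoc] at h

section Main

variable {M : Type} [AddCommGroup M] {X Y : Over S} (aX : MonAct (AMonS S M) X) (aY : MonAct (AMonS S M) Y)

/-- Undoing a translation. -/
theorem lift_inv_act {T : Over S} {g gi : T ⟶ AMonS S M} (h : gi * g = 1) (x : T ⟶ X) :
    lift gi (lift g x ≫ aX.act) ≫ aX.act = x := by
  rw [← lift_mul_act, h, lift_one_act]

theorem exists_inv {T : Over S} (g : T ⟶ AMonS S M) : ∃ gi : T ⟶ AMonS S M, gi * g = 1 := by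
  obtain ⟨d, hd, -⟩ := exists_mul_eq (S := S) (1 : T ⟶ AMonS S M) g
  refine ⟨d, ?_⟩
  rw [← hd]
  exact aFn_ext fun m => by rw [aFn_mul, aFn_mul, mul_comm]

/-- Equivariant lifting along a formally smooth equivariant morphism. -/
theorem exists_equivariant_lift (f : X ⟶ Y) (hf : IsEquivariant aX aY f) (hsm : MoreMor.IsFormallySmoothHom f.left)
    {R R₀ : CommRingCat.{u}} (p : Spec R ⟶ S) (q : R ⟶ R₀) (hqs : Function.Surjective q)
    (hsq : ∀ x y, q x = 0 → q y = 0 → x * y = 0)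
    (aV : MonAct (AMonS S M) (Over.mk p)) {p₀ : Spec R₀ ⟶ S} (hp₀ : Spec.map q ≫ p = p₀)
    (a₀ : MonAct (AMonS S M) (Over.mk p₀))
    (hι : IsEquivariant a₀ aV (Over.homMk (Spec.map q) hp₀ : Over.mk p₀ ⟶ Over.mk p))
    (x : Over.mk p₀ ⟶ X) (hx : IsEquivariant a₀ aX x) (y : Over.mk p ⟶ Y) (hy : IsEquivariant aV aY y)
    (hxy : x ≫ f = (Over.homMk (Spec.map q) hp₀ : Over.mk p₀ ⟶ Over.mk p) ≫ y) :
    ∃ l : Over.mk p ⟶ X, IsEquivariant aV aX l ∧
      (Over.homMk (Spec.map q) hp₀ : Over.mk p₀ ⟶ Over.mk p) ≫ l = x ∧ l ≫ f = y := by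
  set ι₀ : Over.mk p₀ ⟶ Over.mk p := Over.homMk (Spec.map q) hp₀ with hι₀
  -- a lift, not yet equivariant
  obtain ⟨l₀, hl₀x, hl₀f⟩ : ∃ l₀ : Over.mk p ⟶ X, ι₀ ≫ l₀ = x ∧ l₀ ≫ f = y := by
    let I := RingHom.ker q.hom
    have hI : I ^ 2 = ⊥ := by
      rw [pow_two, eq_bot_iff, Ideal.mul_le]
      intro a ha b hb
      rw [Ideal.mem_bot]
      exact hsq a b ha hb
    let e : CommRingCat.of (R ⧸ I) ≅ R₀ := (RingHom.quotientKerEquivOfSurjective hqs).toCommRingCatIso
    have he : CommRingCat.ofHom (Ideal.Quotient.mk I) ≫ e.hom = q := by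
      refine CommRingCat.hom_ext (RingHom.ext fun r => ?_)
      exact RingHom.quotientKerEquivOfSurjective_apply_mk hqs r
    have he' : CommRingCat.ofHom (Ideal.Quotient.mk I) = q ≫ e.inv := by rw [← he, Category.assoc, e.hom_inv_id, Category.comp_id]
    have hc : Spec.map (CommRingCat.ofHom (Ideal.Quotient.mk I)) ≫ y.left = (Spec.map e.inv ≫ x.left) ≫ f.left := by
      rw [Category.assoc, ← Over.comp_left, hxy, Over.comp_left, ← Category.assoc, he', Spec.map_comp]
      rfl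
    obtain ⟨l, hl₁, hl₂⟩ := hsm R I hI (Spec.map e.inv ≫ x.left) y.left hc
    refine ⟨Over.homMk l (by rw [← Over.w f, reassoc_of% hl₂]; exact Over.w y), ?_, Over.OverMorphism.ext hl₂⟩
    apply Over.OverMorphism.ext
    show Spec.map q ≫ l = x.left
    rw [← he, Spec.map_comp, Category.assoc, hl₁, ← Category.assoc, ← Spec.map_comp, e.inv_hom_id, Spec.map_id,
      Category.id_comp]
  -- the maps on `A(M) × V`
  let g := mg p M
  let v := mProj p M
  let w : mQ p M ⟶ Over.mk p := mMap p M ≫ aV.act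
  have hw : w = lift g v ≫ aV.act := by rw [← mMap_eq_lift]
  obtain ⟨gi, hgi⟩ := exists_inv g
  let h : mQ p M ⟶ X := lift gi (w ≫ l₀) ≫ aX.act
  -- restriction to `A(M) × V₀`
  let g₀ := mg p₀ M
  let v₀ := mProj p₀ M
  let w₀ : mQ p₀ M ⟶ Over.mk p₀ := mMap p₀ M ≫ a₀.act
  have hw₀ : w₀ = lift g₀ v₀ ≫ a₀.act := by rw [← mMap_eq_lift]
  let b := mB p q hp₀ M
  have hbw : b ≫ w = w₀ ≫ ι₀ := by
    rw [← Category.assoc, mB_mMap, Category.assoc, ← hι, ← Category.assoc]
  have hbg : b ≫ g = g₀ := mB_mg p q hp₀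
  have hbh : b ≫ h = v₀ ≫ x := by
    rw [comp_lift_assoc, ← Category.assoc b w, hbw, Category.assoc, hl₀x, hw₀, Category.assoc,
      (isEquivariant_iff _ _ _).1 hx]
    refine lift_inv_act aX ?_ _
    rw [← hbg, ← MonObj.comp_mul, hgi, MonObj.comp_one]
  have hh : Spec.map (redMap q M) ≫ h.left = Spec.map (redIncl M) ≫ x.left := congrArg Over.Hom.left hbh
  obtain ⟨l', hl'⟩ := exists_isAvg q M hqs hsq h.left x.left hh
  have hlw : l' ≫ X.hom = p :=
    IsAvg.unique hqs (hl'.comp X.hom) ((Over.w h).symm ▸ IsAvg.const hsq p)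
  let l : Over.mk p ⟶ X := Over.homMk l' hlw
  have hhf : h ≫ f = v ≫ y := by
    rw [Category.assoc, (isEquivariant_iff _ _ _).1 hf, Category.assoc, hl₀f, hw, Category.assoc,
      (isEquivariant_iff _ _ _).1 hy]
    exact lift_inv_act aY hgi _
  have hlf : l ≫ f = y := by
    apply Over.OverMorphism.ext
    refine IsAvg.unique hqs (hl'.comp f.left) ?_
    rw [show h.left ≫ f.left = v.left ≫ y.left from congrArg Over.Hom.left hhf]
    exact IsAvg.const hsq y.left
  have hlx : ι₀ ≫ l = x := by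
    apply Over.OverMorphism.ext
    have hsq₀ : ∀ a c : R₀, (𝟙 R₀ : R₀ ⟶ R₀) a = 0 → (𝟙 R₀ : R₀ ⟶ R₀) c = 0 → a * c = 0 := fun a c ha _ => by
      rw [show a = 0 from ha, zero_mul]
    refine IsAvg.unique (M := M) (hsq := hsq₀) (fun a => ⟨a, rfl⟩) (hl'.baseChange hsq₀ q (𝟙 R₀) rfl) ?_
    rw [show Spec.map (CommRingCat.ofHom (MonoidAlgebra.mapRingHom (Multiplicative M) q.hom)) ≫ h.left = _ from hh]
    exact IsAvg.const hsq₀ x.left
  refine ⟨l, ?_, hlx, hlf⟩
  -- equivariance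
  let p₁ : Spec (CommRingCat.of (MonoidAlgebra R (Multiplicative M))) ⟶ S := (mQ p M).hom
  let q₁ := redMap q M
  have hqs₁ : Function.Surjective q₁ := mapRingHom_surjective q M hqs
  have hsq₁ : ∀ a c, q₁ a = 0 → q₁ c = 0 → a * c = 0 := mul_eq_zero_of_mapRingHom q M hsq
  let ιR : R ⟶ CommRingCat.of (MonoidAlgebra R (Multiplicative M)) := CommRingCat.ofHom (algebraMap R _)
  have hιp : Spec.map ιR ≫ p = p₁ := rfl
  let α : R ⟶ CommRingCat.of (MonoidAlgebra R (Multiplicative M)) := Spec.preimage w.left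
  have hα : Spec.map α = w.left := Spec.map_preimage _
  have hαp : Spec.map α ≫ p = p₁ := by rw [hα]; exact Over.w w
  have hvv : (Over.homMk (Spec.map ιR) hιp : Over.mk p₁ ⟶ Over.mk p) = v := Over.OverMorphism.ext rfl
  have hww : (Over.homMk (Spec.map α) hαp : Over.mk p₁ ⟶ Over.mk p) = w := Over.OverMorphism.ext hα
  let α₀ : R₀ ⟶ CommRingCat.of (MonoidAlgebra R₀ (Multiplicative M)) := Spec.preimage w₀.left
  have hιq : ιR ≫ q₁ = q ≫ redIncl M := by
    refine CommRingCat.hom_ext (RingHom.ext fun r => ?_)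
    simp [ιR, q₁, MonoidAlgebra.coe_algebraMap]
  have hαq : α ≫ q₁ = q ≫ α₀ := by
    apply Spec.map_injective
    rw [Spec.map_comp, Spec.map_comp, hα, Spec.map_preimage]
    exact congrArg Over.Hom.left hbw
  let Bι := mB p ιR hιp M
  let Bα := mB p α hαp M
  let k := mg p₁ M
  let π := mProj p₁ M
  have hι1 : Bι ≫ g = k := mB_mg p ιR hιp
  have hι2 : Bι ≫ v = π ≫ v := by rw [mB_mProj, hvv]
  have hα1 : Bα ≫ g = k := mB_mg p α hαp
  have hα2 : Bα ≫ v = π ≫ w := by rw [mB_mProj, hww]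
  have A1 : IsAvg q₁ M hsq₁ (Bι ≫ h).left (v ≫ l).left := hl'.baseChange hsq₁ ιR (redIncl M) hιq
  have A2 : IsAvg q₁ M hsq₁ (Bα ≫ h).left (w ≫ l).left := by
    have := hl'.baseChange hsq₁ α α₀ hαq
    rw [hα] at this
    exact this
  let Z := π ≫ g
  let HL : mQ p₁ M ⟶ X := lift Z (Bι ≫ h) ≫ aX.act
  have eP : Z.left ≫ (AMonS S M).hom = (Bι ≫ h).left ≫ X.hom := (Over.w Z).trans (Over.w (Bι ≫ h)).symm
  have eP' : g.left ≫ (AMonS S M).hom = (v ≫ l).left ≫ X.hom := (Over.w g).trans (Over.w (v ≫ l)).symm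
  have AL : IsAvg q₁ M hsq₁ HL.left (lift g (v ≫ l) ≫ aX.act).left :=
    (IsAvg.pullbackLift hqs₁ (IsAvg.const hsq₁ g.left) A1 eP eP').comp aX.act.left
  -- the translation of the second variable
  let c : Multiplicative M →* CommRingCat.of (MonoidAlgebra R (Multiplicative M)) :=
    MonoidAlgebra.of R (Multiplicative M)
  let sg : mQ p₁ M ⟶ mQ p₁ M := Over.homMk (Spec.map (CommRingCat.ofHom (twist c))) (by
    change Spec.map _ ≫ Spec.map _ ≫ p₁ = Spec.map _ ≫ p₁
    rw [← Spec.map_comp_assoc]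
    congr 2
    refine CommRingCat.hom_ext (RingHom.ext fun r => ?_)
    exact AlgHom.commutes (MonoidAlgebra.lift _ _ _ _) r)
  have hsπ : sg ≫ π = π := by
    apply Over.OverMorphism.ext
    change Spec.map _ ≫ Spec.map _ = Spec.map _
    rw [← Spec.map_comp]
    congr 1
    refine CommRingCat.hom_ext (RingHom.ext fun r => ?_)
    exact AlgHom.commutes (MonoidAlgebra.lift _ _ _ _) r
  have hsk : sg ≫ k = k * Z := by
    refine aFn_ext fun m => ?_
    rw [aFn_mul, aFn_comp_mg, ← Category.id_comp k, aFn_comp_mg, aFn_comp_mg]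
    change gFn (𝟙 (Spec _) ≫ Spec.map _) _ = gFn (𝟙 (Spec _)) _ * gFn (𝟙 (Spec _) ≫ Spec.map _) _
    rw [gFn_specMap, gFn_specMap, CommRingCat.comp_apply, CommRingCat.comp_apply, ← map_mul]
    refine congrArg _ ?_
    simp [twist, c, MonoidAlgebra.coe_algebraMap, MonoidAlgebra.single_mul_single]
  have key : sg ≫ HL = Bα ≫ h := by
    have hT : sg ≫ Bι ≫ w = Bα ≫ w := by
      rw [hw, comp_lift_assoc, comp_lift_assoc, comp_lift_assoc, hι1, hι2, hα1, hα2, hsk, reassoc_of% hsπ, hw,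
        comp_lift_assoc]
      exact lift_mul_act aV _ _ _
    rw [comp_lift_assoc, reassoc_of% hsπ, comp_lift_assoc, comp_lift_assoc, ← Category.assoc Bι w l₀,
      ← Category.assoc sg (Bι ≫ w) l₀, hT, ← lift_mul_act, comp_lift_assoc, Category.assoc Bα w l₀]
    congr 1
    congr 1
    refine aFn_ext fun m => ?_
    have e₁ : aFn (sg ≫ Bι ≫ gi) m * (aFn k m * aFn Z m) = 1 := by
      rw [← aFn_mul, ← hsk, ← aFn_mul, ← hι1, ← MonObj.comp_mul, ← MonObj.comp_mul, hgi, MonObj.comp_one,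
        MonObj.comp_one, aFn_one]
    have e₂ : aFn (Bα ≫ gi) m * aFn k m = 1 := by
      rw [← aFn_mul, ← hα1, ← MonObj.comp_mul, hgi, MonObj.comp_one, aFn_one]
    rw [aFn_mul]
    linear_combination (aFn (Bα ≫ gi) m) * e₁ - (aFn Z m * aFn (sg ≫ Bι ≫ gi) m) * e₂
  have AR : IsAvg q₁ M hsq₁ (Bα ≫ h).left (lift g (v ≫ l) ≫ aX.act).left := by
    rw [← key]
    exact AL.twist c
  haveI : IsIso (mMap p M) := isIso_mMap' p M
  unfold IsEquivariant
  rw [← cancel_epi (mMap p M), mMap_eq_lift, lift_whiskerLeft_assoc, ← Category.assoc, ← hw]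
  exact Over.OverMorphism.ext (IsAvg.unique hqs₁ A2 AR)

end Main

end Groth.Agent.Mag88
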