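import Groth.Agent.Mag88.FaceUnique
import Groth.Agent.Mag88.FormalBB
import Groth.Agent.RedPts82.GmSmooth
import Groth.Agent.Unr55.FppfScheme
import Groth.Prelude.Def_Magnet3
import Mathlib.AlgebraicGeometry.Morphisms.FlatMono
import Mathlib.AlgebraicGeometry.Morphisms.Etale

/-! Equivariant maps for actions of the affine line, isomorphisms criterion. -/

universe u

set_option maxHeartbeats 600000
set_option backward.isDefEq.respectTransparency false
set_option backward.isDefEq.respectTransparency.types false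
set_option linter.style.haveILetI false

open CategoryTheory CategoryTheory.Limits MonoidalCategory CartesianMonoidalCategory MonObj AlgebraicGeometry
open Opposite Magnet Magnet.MonAct

noncomputable section

namespace Groth.Agent.Mag88

variable {S : Scheme.{u}}

/-- The inclusion of the multiplicative group in the affine line. -/
abbrev lineIncl (S : Scheme.{u}) : AMonS S ℤ ⟶ AMonS S ℕ := AMonS.map S (Nat.castAddMonoidHom ℤ)

theorem smooth_AMonS_int : Smooth (AMonS S ℤ).hom := by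
  let R : Type u := ULift.{u} ℤ
  haveI := RedPts82.smooth_laurent R
  haveI : Algebra.Smooth R (MonoidAlgebra R (Multiplicative ℤ)) :=
    Algebra.Smooth.of_equiv (AddMonoidAlgebra.toMultiplicativeAlgEquiv R R ℤ)
  haveI : Smooth (Spec.map (CommRingCat.ofHom (algebraMap R (MonoidAlgebra R (Multiplicative ℤ))))) := by
    rw [HasRingHomProperty.Spec_iff (P := @Smooth)]
    exact RingHom.smooth_algebraMap.mpr inferInstance
  exact MorphismProperty.pullback_snd (P := @Smooth) _ _ (by assumption)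

theorem smooth_snd (B : Over S) : Smooth (snd (AMonS S ℤ) B).left :=
  MorphismProperty.pullback_snd (P := @Smooth) (AMonS S ℤ).hom B.hom smooth_AMonS_int

/-- An action of the multiplicative group is a smooth morphism. -/
theorem smooth_act {B : Over S} (a : MonAct (AMonS S ℤ) B) : Smooth a.act.left := by
  obtain ⟨gi, hgi⟩ := exists_inv (fst (AMonS S ℤ) B)
  have hgi2 : fst (AMonS S ℤ) B * gi = 1 := by
    rw [← hgi]
    exact aFn_ext fun m => by rw [aFn_mul, aFn_mul, mul_comm]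
  let s : AMonS S ℤ ⊗ B ⟶ AMonS S ℤ ⊗ B := lift (fst _ _) a.act
  let s' : AMonS S ℤ ⊗ B ⟶ AMonS S ℤ ⊗ B := lift (fst _ _) (lift gi (snd _ _) ≫ a.act)
  have e₁ : s ≫ gi = gi := by
    refine aFn_ext fun m => ?_
    have h1 : aFn (s ≫ gi) m * aFn (fst (AMonS S ℤ) B) m = 1 := by
      have := congrArg (fun t => aFn (s ≫ t) m) hgi
      simp only [MonObj.comp_mul, MonObj.comp_one, aFn_mul, aFn_one, s, lift_fst] at this
      exact this
    have h2 : aFn gi m * aFn (fst (AMonS S ℤ) B) m = 1 := by rw [← aFn_mul, hgi, aFn_one]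
    linear_combination (aFn gi m) * h1 - (aFn (s ≫ gi) m) * h2
  have e₂ : s' ≫ gi = gi := by
    refine aFn_ext fun m => ?_
    have h1 : aFn (s' ≫ gi) m * aFn (fst (AMonS S ℤ) B) m = 1 := by
      have := congrArg (fun t => aFn (s' ≫ t) m) hgi
      simp only [MonObj.comp_mul, MonObj.comp_one, aFn_mul, aFn_one, s', lift_fst] at this
      exact this
    have h2 : aFn gi m * aFn (fst (AMonS S ℤ) B) m = 1 := by rw [← aFn_mul, hgi, aFn_one]
    linear_combination (aFn gi m) * h1 - (aFn (s' ≫ gi) m) * h2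
  have h₁ : s ≫ s' = 𝟙 _ := by
    apply CartesianMonoidalCategory.hom_ext
    · simp [s, s']
    · rw [Category.assoc, lift_snd, comp_lift_assoc, e₁, lift_snd, Category.id_comp]
      calc lift gi a.act ≫ a.act = lift gi (lift (fst _ _) (snd _ _) ≫ a.act) ≫ a.act := by
            rw [lift_fst_snd, Category.id_comp]
        _ = snd _ _ := lift_inv_act a hgi _
  have h₂ : s' ≫ s = 𝟙 _ := by
    apply CartesianMonoidalCategory.hom_ext
    · simp [s, s']
    · rw [Category.assoc, lift_snd, Category.id_comp]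
      calc s' ≫ a.act = lift (fst _ _) (lift gi (snd _ _) ≫ a.act) ≫ a.act := rfl
        _ = snd _ _ := lift_inv_act a hgi2 _
  haveI hs : IsIso s.left := ⟨s'.left, congrArg CommaMorphism.left h₁, congrArg CommaMorphism.left h₂⟩
  haveI := smooth_snd (S := S) B
  rw [show a.act = s ≫ snd _ _ from (lift_snd _ _).symm, Over.comp_left]
  infer_instance

/-- Stable open subsets containing the zero section. -/
theorem line_open_eq_top (o : 𝟙_ (Over S) ⟶ AMonS S ℕ) (ho : ∀ n, aFn o n = if n = 0 then 1 else 0)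
    (T : Over S) (W : (AMonS S ℕ ⊗ T).left.Opens)
    (hW : (snd (AMonS S ℤ) (AMonS S ℕ ⊗ T)).left ⁻¹ᵁ W ≤
      ((((MonAct.regular (AMonS S ℕ)).restrict (lineIncl S)).prod (MonAct.trivial (AMonS S ℤ) T)).act).left ⁻¹ᵁ W)
    (h0 : ∀ t, (lift (toUnit T ≫ o) (𝟙 T)).left t ∈ W) : W = ⊤ := by
  let N : AddSubmonoid ℤ := AddSubmonoid.multiples (1 : ℤ)
  have hmem : ∀ n : ℕ, (n : ℤ) ∈ N := fun n => ⟨n, by simp⟩
  let ι₁ : ℕ →+ N := { toFun := fun n => ⟨n, hmem n⟩, map_zero' := rfl, map_add' := fun _ _ => rfl }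
  let ι₂ : N →+ ℕ :=
    { toFun := fun x => x.1.toNat
      map_zero' := rfl
      map_add' := fun x y => by
        obtain ⟨i, hi⟩ := x.2
        obtain ⟨j, hj⟩ := y.2
        simp only [nsmul_eq_mul, _root_.mul_one] at hi hj
        rw [AddSubmonoid.coe_add, ← hi, ← hj]
        omega }
  have h21 : ∀ n, ι₂ (ι₁ n) = n := fun n => by simp [ι₁, ι₂]
  have h12 : ∀ x, ι₁ (ι₂ x) = x := fun x => by
    obtain ⟨i, hi⟩ := x.2
    simp only [nsmul_eq_mul, _root_.mul_one] at hi
    apply Subtype.ext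
    simp [ι₁, ι₂, ← hi]
  let e : AMonS S N ⟶ AMonS S ℕ := AMonS.map S ι₁
  let e' : AMonS S ℕ ⟶ AMonS S N := AMonS.map S ι₂
  have he : e' ≫ e = 𝟙 _ := aFn_ext fun n => by
    rw [aFn_map, ← Category.id_comp e', aFn_map, h21]
  have hQ : IsFace N ⊥ := by
    refine ⟨bot_le, fun x hx y hy hxy => ?_⟩
    simp only [AddSubmonoid.mem_bot] at hxy ⊢
    obtain ⟨i, rfl⟩ := hx
    obtain ⟨j, rfl⟩ := hy
    simp only [nsmul_eq_mul, _root_.mul_one] at hxy ⊢
    exact ⟨by omega, by omega⟩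
  have key : (e ▷ T).left ⁻¹ᵁ W = ⊤ := by
    refine stable_open_eq_top_of_face (M := ℤ) hQ T _ (fun r hr => ?_) (fun w => ?_)
    · have heq : ((subAct S ℤ N).prod (MonAct.trivial (AMonS S ℤ) T)).act ≫ (e ▷ T) =
          (AMonS S ℤ ◁ (e ▷ T)) ≫
            (((MonAct.regular (AMonS S ℕ)).restrict (lineIncl S)).prod (MonAct.trivial (AMonS S ℤ) T)).act := by
        refine hom_ext_lift₂ fun T' g z => ?_
        rw [← lift_comp_fst_snd z, lift_whiskerLeft_assoc, lift_whiskerRight, lift_prod_act_assoc,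
          lift_prod_act, lift_whiskerRight, subAct, lift_restrict_act, lift_restrict_act, lift_regular_act,
          lift_regular_act, MonObj.mul_comp]
        congr 1
        congr 1
        refine aFn_ext fun n => ?_
        rw [aFn_map, aFn_map, aFn_map]
        rfl
      change (((subAct S ℤ N).prod (MonAct.trivial (AMonS S ℤ) T)).act ≫ (e ▷ T)).left r ∈ W
      rw [heq]
      refine hW (x := (AMonS S ℤ ◁ (e ▷ T)).left r) ?_
      change ((AMonS S ℤ ◁ (e ▷ T)) ≫ snd _ _).left r ∈ W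
      rw [whiskerLeft_snd]
      exact hr
    · change ((AMonS.faceMap S hQ ▷ T) ≫ (e ▷ T)).left w ∈ W
      have : (AMonS.faceMap S hQ ▷ T) ≫ (e ▷ T) =
          snd (AMonS S (⊥ : AddSubmonoid ℤ)) T ≫ lift (toUnit T ≫ o) (𝟙 T) := by
        rw [← comp_whiskerRight]
        apply CartesianMonoidalCategory.hom_ext
        · rw [whiskerRight_fst, comp_lift, lift_fst]
          refine aFn_ext fun n => ?_
          rw [← Category.assoc, aFn_map, aFn_comp_faceMap, ← Category.assoc, aFn_comp, ho]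
          by_cases hn : n = 0
          · subst hn
            rw [map_zero, if_pos rfl, map_one, dif_pos (by simp)]
            exact aFn_zero _
          · rw [if_neg hn, map_zero, dif_neg]
            simp [ι₁, hn]
        · rw [whiskerRight_snd, comp_lift, lift_snd, Category.comp_id]
      rw [this]
      exact h0 _
  refine top_le_iff.1 fun p _ => ?_
  have hp : (e' ▷ T).left p ∈ (e ▷ T).left ⁻¹ᵁ W := by rw [key]; trivial
  change ((e' ▷ T) ≫ (e ▷ T)).left p ∈ W at hp
  rwa [← comp_whiskerRight, he, id_whiskerRight] at hp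

theorem exists_zeroPt : ∃ o : 𝟙_ (Over S) ⟶ AMonS S ℕ, ∀ n, aFn o n = if n = 0 then 1 else 0 := by
  obtain ⟨o, ho⟩ := aFn_surjective (S := S) (X := 𝟙_ (Over S)) (M := ℕ)
    { toFun := fun n => if Multiplicative.toAdd n = 0 then 1 else 0
      map_one' := if_pos rfl
      map_mul' := fun m n => by
        by_cases hm : Multiplicative.toAdd m = 0
        · simp [hm]
        · have : Multiplicative.toAdd m + Multiplicative.toAdd n ≠ 0 := by omega
          simp [hm, this] }
  exact ⟨o, fun n => by rw [ho]; rfl⟩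

variable (o : 𝟙_ (Over S) ⟶ AMonS S ℕ) (ho : ∀ n, aFn o n = if n = 0 then 1 else 0)
  {X Y : Over S} (a : MonAct (AMonS S ℕ) X) (b : MonAct (AMonS S ℕ) Y)

include ho in
theorem mul_zeroPt {T : Over S} (g : T ⟶ AMonS S ℕ) : g * (toUnit T ≫ o) = toUnit T ≫ o := by
  refine aFn_ext fun n => ?_
  rw [aFn_mul, aFn_comp, ho]
  by_cases hn : n = 0
  · subst hn
    simp [aFn_zero]
  · simp [hn]

/-- The limit at zero of a point. -/
def limPt {T : Over S} (x : T ⟶ X) : T ⟶ X := lift (toUnit T ≫ o) x ≫ a.act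

include ho in
theorem limPt_fixed {T : Over S} (x : T ⟶ X) : ∀ (T' : Over S) (t : T' ⟶ T) (g : T' ⟶ AMonS S ℕ),
    lift g (t ≫ limPt o a x) ≫ a.act = t ≫ limPt o a x := fun T' t g => by
  rw [limPt, comp_lift_assoc, ← Category.assoc t, comp_toUnit, ← lift_mul_act, mul_zeroPt o ho]

/-- The limit at zero, as a fixed point. -/
def limFix {T : Over S} (x : T ⟶ X) : (fixedPsh a).obj (op T) := ⟨limPt o a x, limPt_fixed o ho a x⟩

theorem limPt_of_fixed {T : Over S} (x : (fixedPsh a).obj (op T)) : limPt o a x.1 = x.1 := by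
  have := x.2 T (𝟙 T) (toUnit T ≫ o)
  rwa [Category.id_comp] at this

theorem limPt_comp_equivariant {f : X ⟶ Y} (hf : IsEquivariant a b f) {T : Over S} (x : T ⟶ X) :
    limPt o a x ≫ f = limPt o b (x ≫ f) := by
  rw [limPt, limPt, Category.assoc, hf, lift_whiskerLeft_assoc]

theorem eq_top_of_act_preimage {A : Over S} [MonObj A] (c : MonAct A X) (U : X.left.Opens)
    (h : c.act.left ⁻¹ᵁ U = ⊤) : U = ⊤ := by
  refine top_le_iff.1 fun p _ => ?_
  have hp : (lift (1 : X ⟶ A) (𝟙 X)).left p ∈ c.act.left ⁻¹ᵁ U := by rw [h]; trivial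
  change (lift (1 : X ⟶ A) (𝟙 X) ≫ c.act).left p ∈ U at hp
  rwa [lift_one_act] at hp

include ho in
/-- Stable open subsets containing all limit points. -/
theorem stable_open_eq_top_of_lim (U : X.left.Opens)
    (hU : (snd (AMonS S ℤ) X).left ⁻¹ᵁ U ≤ ((a.restrict (lineIncl S)).act).left ⁻¹ᵁ U)
    (hl : ∀ p, (limPt o a (𝟙 X)).left p ∈ U) : U = ⊤ := by
  have key : a.act.left ⁻¹ᵁ U = ⊤ := by
    refine line_open_eq_top o ho X _ (fun r hr => ?_) hl
    have heq : (((MonAct.regular (AMonS S ℕ)).restrict (lineIncl S)).prod (MonAct.trivial (AMonS S ℤ) X)).act ≫ a.act =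
        (AMonS S ℤ ◁ a.act) ≫ (a.restrict (lineIncl S)).act := by
      refine hom_ext_lift₂ fun T' g z => ?_
      rw [← lift_comp_fst_snd z, lift_prod_act_assoc, lift_whiskerLeft_assoc, lift_restrict_act, lift_regular_act,
        lift_trivial_act, lift_restrict_act, lift_mul_act]
    change ((((MonAct.regular (AMonS S ℕ)).restrict (lineIncl S)).prod (MonAct.trivial (AMonS S ℤ) X)).act ≫ a.act).left r ∈ U
    rw [heq]
    refine hU (x := (AMonS S ℤ ◁ a.act).left r) ?_
    change ((AMonS S ℤ ◁ a.act) ≫ snd _ _).left r ∈ U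
    rw [whiskerLeft_snd]
    exact hr
  exact eq_top_of_act_preimage a U key

/-- The image of a morphism under the multiplicative group is stable. -/
theorem orbit_stable {U : Over S} (c : MonAct (AMonS S ℤ) X) (j : U ⟶ X) (r : (AMonS S ℤ ⊗ X).left)
    (q : (AMonS S ℤ ⊗ U).left) (h : (snd (AMonS S ℤ) X).left r = ((AMonS S ℤ ◁ j) ≫ c.act).left q) :
    c.act.left r ∈ Set.range ((AMonS S ℤ ◁ j) ≫ c.act).left := by
  obtain ⟨z, hz⟩ := exists_of_snd_eq (A := AMonS S ℤ) ((AMonS S ℤ ◁ j) ≫ c.act) r q h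
  let g₁ : (AMonS S ℤ) ⊗ ((AMonS S ℤ) ⊗ U) ⟶ (AMonS S ℤ) := fst (AMonS S ℤ) ((AMonS S ℤ) ⊗ U)
  let g₂ : (AMonS S ℤ) ⊗ ((AMonS S ℤ) ⊗ U) ⟶ (AMonS S ℤ) := snd (AMonS S ℤ) ((AMonS S ℤ) ⊗ U) ≫ fst (AMonS S ℤ) U
  let m : (AMonS S ℤ) ⊗ ((AMonS S ℤ) ⊗ U) ⟶ (AMonS S ℤ) ⊗ U := lift (g₁ * g₂) (snd (AMonS S ℤ) ((AMonS S ℤ) ⊗ U) ≫ snd (AMonS S ℤ) U)
  refine ⟨m.left z, ?_⟩
  rw [← hz]
  change (m ≫ (AMonS S ℤ ◁ j) ≫ c.act).left z =
    ((AMonS S ℤ ◁ ((AMonS S ℤ ◁ j) ≫ c.act)) ≫ c.act).left z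
  have e : m ≫ ((AMonS S ℤ) ◁ j) ≫ c.act = ((AMonS S ℤ) ◁ (((AMonS S ℤ) ◁ j) ≫ c.act)) ≫ c.act := by
    refine hom_ext_lift₂ fun T' g w => ?_
    simp only [m, g₁, g₂]
    rw [← lift_comp_fst_snd w, lift_whiskerLeft_assoc, comp_lift_assoc, MonObj.comp_mul]
    simp only [Category.assoc, lift_fst, lift_snd_assoc, lift_whiskerLeft_assoc, lift_mul_act]
  rw [e]

theorem smooth_whiskerLeft_act {U : Over S} (c : MonAct (AMonS S ℤ) X) (j : U ⟶ X) [Smooth j.left] :
    Smooth ((AMonS S ℤ ◁ j) ≫ c.act).left := by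
  haveI := smooth_act c
  haveI : Smooth (AMonS S ℤ ◁ j).left :=
    MorphismProperty.of_isPullback ((isPullback_whiskerLeft_snd (A := AMonS S ℤ) j).map (Over.forget S)).flip
      (inferInstanceAs (Smooth j.left))
  rw [Over.comp_left]
  infer_instance

include ho in
/-- Orbits of open subsets through all limit points cover. -/
theorem surjective_orbit {U : Over S} (j : U ⟶ X) [Smooth j.left]
    (hl : ∀ p, (limPt o a (𝟙 X)).left p ∈ Set.range j.left) :
    Surjective ((AMonS S ℤ ◁ j) ≫ (a.restrict (lineIncl S)).act).left := by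
  haveI := smooth_whiskerLeft_act (a.restrict (lineIncl S)) j
  let α := ((AMonS S ℤ ◁ j) ≫ (a.restrict (lineIncl S)).act).left
  let O : X.left.Opens := ⟨Set.range α, α.isOpenMap.isOpen_range⟩
  have hO : O = ⊤ := by
    refine stable_open_eq_top_of_lim o ho a O (fun r hr => ?_) (fun p => ?_)
    · obtain ⟨q, hq⟩ := hr
      exact orbit_stable _ j r q hq.symm
    · obtain ⟨u, hu⟩ := hl p
      refine ⟨(lift (1 : U ⟶ AMonS S ℤ) (𝟙 U)).left u, ?_⟩
      rw [← hu]
      change (lift (1 : U ⟶ AMonS S ℤ) (𝟙 U) ≫ (AMonS S ℤ ◁ j) ≫ (a.restrict (lineIncl S)).act).left u = j.left u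
      rw [lift_whiskerLeft_assoc, Category.id_comp, lift_one_act]
  exact ⟨fun p => (hO ▸ (trivial : p ∈ (⊤ : X.left.Opens)) : p ∈ O)⟩

end Groth.Agent.Mag88
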