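import Groth.Agent.Mag88.LineIso

/-! The isomorphism criterion for actions of the affine line. -/

universe u

set_option maxHeartbeats 600000
set_option backward.isDefEq.respectTransparency false
set_option backward.isDefEq.respectTransparency.types false
set_option linter.style.haveILetI false

open CategoryTheory CategoryTheory.Limits MonoidalCategory CartesianMonoidalCategory MonObj AlgebraicGeometry
open Opposite Magnet Magnet.MonAct

noncomputable section

namespace Groth.Agent.Mag88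

variable {S : Scheme.{u}} (o : 𝟙_ (Over S) ⟶ AMonS S ℕ) (ho : ∀ n, aFn o n = if n = 0 then 1 else 0)
  {X Y : Over S} (a : MonAct (AMonS S ℕ) X) (b : MonAct (AMonS S ℕ) Y) (f : X ⟶ Y)

theorem restrict_equivariant {A B : Over S} [MonObj A] [MonObj B] (φ : A ⟶ B) [IsMonHom φ] {P Q : Over S}
    {p : MonAct B P} {q : MonAct B Q} {g : P ⟶ Q} (hg : IsEquivariant p q g) :
    IsEquivariant (p.restrict φ) (q.restrict φ) g := by
  rw [isEquivariant_iff] at hg ⊢
  intro T t x
  rw [lift_restrict_act_assoc, lift_restrict_act, hg]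

include ho in
theorem smooth_of_etale_on (hf : IsEquivariant a b f) (V : X.left.Opens) [Etale (V.ι ≫ f.left)]
    (hV : ∀ p, (limPt o a (𝟙 X)).left p ∈ V) : Smooth f.left := by
  let j : Over.mk (V.ι ≫ X.hom) ⟶ X := Over.homMk V.ι rfl
  haveI : Smooth j.left := inferInstanceAs (Smooth V.ι)
  haveI : Smooth (j ≫ f).left := inferInstanceAs (Smooth (V.ι ≫ f.left))
  haveI : Surjective ((AMonS S ℤ ◁ j) ≫ (a.restrict (lineIncl S)).act).left :=
    surjective_orbit o ho a j fun p => ⟨⟨_, hV p⟩, rfl⟩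
  haveI := smooth_whiskerLeft_act (a.restrict (lineIncl S)) j
  haveI : Smooth (((AMonS S ℤ ◁ j) ≫ (a.restrict (lineIncl S)).act).left ≫ f.left) := by
    have e : ((AMonS S ℤ ◁ j) ≫ (a.restrict (lineIncl S)).act) ≫ f =
        (AMonS S ℤ ◁ (j ≫ f)) ≫ (b.restrict (lineIncl S)).act := by
      rw [Category.assoc, restrict_equivariant (lineIncl S) hf, MonoidalCategory.whiskerLeft_comp, Category.assoc]
    rw [← Over.comp_left, e]
    exact smooth_whiskerLeft_act _ _
  exact Unr55.smooth_of_fppf_comp ((AMonS S ℤ ◁ j) ≫ (a.restrict (lineIncl S)).act).left f.left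

include ho in
theorem surjective_of_smooth (hf : IsEquivariant a b f) [Smooth f.left]
    (hY : ∀ p, (limPt o b (𝟙 Y)).left p ∈ Set.range f.left) : Surjective f.left := by
  have h := surjective_orbit o ho b f hY
  rw [← restrict_equivariant (lineIncl S) hf, Over.comp_left] at h
  exact Surjective.of_comp (a.restrict (lineIncl S)).act.left f.left

/-- The curve through a point. -/
def curve {T : Over S} (x : T ⟶ X) : AMonS S ℕ ⊗ T ⟶ X := (AMonS S ℕ ◁ x) ≫ a.act

theorem zero_curve {T : Over S} (x : T ⟶ X) : lift (toUnit T ≫ o) (𝟙 T) ≫ curve a x = limPt o a x := by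
  rw [curve, lift_whiskerLeft_assoc, Category.id_comp, limPt]

theorem one_curve {T : Over S} (x : T ⟶ X) : ∃ z : T ⟶ AMonS S ℕ ⊗ T, ∀ y : T ⟶ X, z ≫ curve a y = y :=
  ⟨lift (toUnit T ≫ η[AMonS S ℕ]) (𝟙 T), fun y => by
    rw [curve, lift_whiskerLeft_assoc, Category.id_comp]
    exact (congrArg (fun t => lift t y ≫ a.act) Hom.one_def.symm).trans (lift_one_act a y)⟩

theorem curve_equivariant {T : Over S} (x : T ⟶ X) :
    IsEquivariant ((MonAct.regular (AMonS S ℕ)).prod (MonAct.trivial (AMonS S ℕ) T)) a (curve a x) := by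
  rw [isEquivariant_iff]
  intro T' g z
  rw [← lift_comp_fst_snd z, lift_prod_act_assoc, curve, lift_whiskerLeft_assoc, lift_whiskerLeft_assoc,
    lift_regular_act, lift_trivial_act, lift_mul_act]

include ho in
/-- Two curves agree if their composites do and their limits agree in the étale locus. -/
theorem curve_eq (hf : IsEquivariant a b f) (V : X.left.Opens) [Etale (V.ι ≫ f.left)] {T : Over S}
    (x₁ x₂ : T ⟶ X) (he : x₁ ≫ f = x₂ ≫ f) (hl : limPt o a x₁ = limPt o a x₂)
    (hV : ∀ t, (limPt o a x₁).left t ∈ V) : x₁ = x₂ := by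
  let Z := AMonS S ℕ ⊗ T
  let c₁ := curve a x₁
  let c₂ := curve a x₂
  have hc : c₁ ≫ f = c₂ ≫ f := by
    have hf' : a.act ≫ f = (AMonS S ℕ ◁ f) ≫ b.act := hf
    simp only [c₁, c₂, curve, Category.assoc, hf', ← whiskerLeft_comp_assoc, he]
  let g := V.ι ≫ f.left
  let P : Z.left.Opens := c₁.left ⁻¹ᵁ V ⊓ c₂.left ⁻¹ᵁ V
  have hk : ∀ (c : Z ⟶ X), P ≤ c.left ⁻¹ᵁ V → Set.range (P.ι ≫ c.left) ⊆ Set.range V.ι := by
    rintro c hP _ ⟨v, rfl⟩
    exact ⟨⟨_, hP v.2⟩, rfl⟩
  let d₁ : P.toScheme ⟶ V.toScheme := IsOpenImmersion.lift V.ι (P.ι ≫ c₁.left) (hk c₁ inf_le_left)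
  let d₂ : P.toScheme ⟶ V.toScheme := IsOpenImmersion.lift V.ι (P.ι ≫ c₂.left) (hk c₂ inf_le_right)
  have hd₁ : d₁ ≫ V.ι = P.ι ≫ c₁.left := IsOpenImmersion.lift_fac _ _ _
  have hd₂ : d₂ ≫ V.ι = P.ι ≫ c₂.left := IsOpenImmersion.lift_fac _ _ _
  have hdg : d₁ ≫ g = d₂ ≫ g := by
    simp only [g]
    rw [← Category.assoc, hd₁, ← Category.assoc, hd₂, Category.assoc, Category.assoc]
    exact congrArg (P.ι ≫ ·) (congrArg CommaMorphism.left hc)
  haveI : IsOpenImmersion (pullback.diagonal g) := inferInstance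
  let pr : P.toScheme ⟶ pullback g g := pullback.lift d₁ d₂ hdg
  let E : Z.left.Opens := P.ι ''ᵁ (pr ⁻¹ᵁ (pullback.diagonal g).opensRange)
  have hEP : E ≤ P := P.ι_image_le _
  -- agreement on `E`
  have hE : E.ι ≫ c₁.left = E.ι ≫ c₂.left := by
    let k : E.toScheme ⟶ P.toScheme := Z.left.homOfLE hEP
    have hki : k ≫ P.ι = E.ι := Scheme.homOfLE_ι _ _
    have hr : Set.range (k ≫ pr) ⊆ Set.range (pullback.diagonal g) := by
      rintro _ ⟨v, rfl⟩
      obtain ⟨w, hw, hwv⟩ := v.2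
      have : k v = w := P.ι.isOpenEmbedding.injective
        (((congr($hki v) : (k ≫ P.ι) v = E.ι v)).trans hwv.symm)
      rw [Scheme.Hom.comp_apply, this]
      exact hw
    have e := IsOpenImmersion.lift_fac (pullback.diagonal g) (k ≫ pr) hr
    have e₁ := congrArg (· ≫ pullback.fst _ _) e
    have e₂ := congrArg (· ≫ pullback.snd _ _) e
    simp only [Category.assoc, pr, pullback.lift_fst, pullback.lift_snd, pullback.diagonal_fst,
      pullback.diagonal_snd, Category.comp_id] at e₁ e₂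
    rw [← hki, Category.assoc, Category.assoc, ← hd₁, ← hd₂, ← Category.assoc, ← Category.assoc,
      e₁.symm.trans e₂]
  -- the zero section lies in `E`
  let z₀ : T ⟶ Z := lift (toUnit T ≫ o) (𝟙 T)
  have h0P : ∀ t, z₀.left t ∈ P := fun t => by
    refine ⟨?_, ?_⟩
    · change (z₀ ≫ c₁).left t ∈ V
      rw [show z₀ ≫ c₁ = limPt o a x₁ from zero_curve o a x₁]
      exact hV t
    · change (z₀ ≫ c₂).left t ∈ V
      rw [show z₀ ≫ c₂ = limPt o a x₂ from zero_curve o a x₂, ← hl]
      exact hV t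
  have h0 : ∀ t, z₀.left t ∈ E := fun t => by
    let q : T.left ⟶ P.toScheme := IsOpenImmersion.lift P.ι z₀.left (by
      rintro _ ⟨s, rfl⟩
      exact ⟨⟨_, h0P s⟩, rfl⟩)
    have hq : q ≫ P.ι = z₀.left := IsOpenImmersion.lift_fac _ _ _
    have hq12 : q ≫ d₁ = q ≫ d₂ := by
      rw [← cancel_mono V.ι, Category.assoc, Category.assoc, hd₁, hd₂, ← Category.assoc, ← Category.assoc, hq]
      exact congrArg CommaMorphism.left ((zero_curve o a x₁).trans (hl.trans (zero_curve o a x₂).symm))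
    have hqp : q ≫ pr = (q ≫ d₁) ≫ pullback.diagonal g := by
      apply pullback.hom_ext <;> simp [pr, hq12]
    refine ⟨q t, ⟨(q ≫ d₁) t, (congr($hqp t)).symm⟩, congr($hq t)⟩
  -- translating `E`
  let ρ := (MonAct.regular (AMonS S ℕ)).prod (MonAct.trivial (AMonS S ℕ) T)
  let jE : Over.mk (E.ι ≫ Z.hom) ⟶ Z := Over.homMk E.ι rfl
  haveI : Smooth jE.left := inferInstanceAs (Smooth E.ι)
  haveI : Surjective ((AMonS S ℤ ◁ jE) ≫ (ρ.restrict (lineIncl S)).act).left := by
    refine surjective_orbit o ho ρ jE fun p => ⟨⟨_, h0 ((snd (AMonS S ℕ) T).left p)⟩, ?_⟩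
    change (snd (AMonS S ℕ) T ≫ z₀).left p = (limPt o ρ (𝟙 Z)).left p
    have : limPt o ρ (𝟙 Z) = snd (AMonS S ℕ) T ≫ z₀ := by
      rw [limPt, ← lift_comp_fst_snd (𝟙 Z), lift_prod_act, lift_regular_act, lift_trivial_act, mul_comm,
        mul_zeroPt o ho]
      simp only [z₀, comp_lift, Category.id_comp, Category.comp_id]
      rw [← Category.assoc, comp_toUnit]
    rw [this]
  haveI := smooth_whiskerLeft_act (ρ.restrict (lineIncl S)) jE
  haveI : Epi ((AMonS S ℤ ◁ jE) ≫ (ρ.restrict (lineIncl S)).act).left := Flat.epi_of_flat_of_surjective _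
  have hcc : c₁ = c₂ := by
    apply Over.OverMorphism.ext
    rw [← cancel_epi ((AMonS S ℤ ◁ jE) ≫ (ρ.restrict (lineIncl S)).act).left, ← Over.comp_left, ← Over.comp_left,
      Category.assoc, Category.assoc, restrict_equivariant (lineIncl S) (curve_equivariant a x₁),
      restrict_equivariant (lineIncl S) (curve_equivariant a x₂), ← whiskerLeft_comp_assoc, ← whiskerLeft_comp_assoc]
    rw [show jE ≫ curve a x₁ = jE ≫ curve a x₂ from Over.OverMorphism.ext hE]
  obtain ⟨z, hz⟩ := one_curve a x₁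
  rw [← hz x₁, ← hz x₂]
  exact congrArg (z ≫ ·) hcc

include ho in
theorem isIso_of_etale_on (hf : IsEquivariant a b f) (h1 : IsIso (MonAct.fixedPsh.map f hf))
    (V : X.left.Opens) [Etale (V.ι ≫ f.left)]
    (h3 : ∀ (T : Over S) (x : (MonAct.fixedPsh a).obj (op T)), x.1.left ⁻¹ᵁ V = ⊤) : IsIso f := by
  have hbij : ∀ T : Over S, Function.Bijective ((MonAct.fixedPsh.map f hf).app (op T)) := fun T =>
    (isIso_iff_bijective _).1 inferInstance
  have hV : ∀ {T : Over S} (x : T ⟶ X) t, (limPt o a x).left t ∈ V := fun {T} x t => by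
    have := h3 T (limFix o ho a x)
    have ht : t ∈ (limFix o ho a x).1.left ⁻¹ᵁ V := by rw [this]; trivial
    exact ht
  haveI : Smooth f.left := smooth_of_etale_on o ho a b f hf V (hV _)
  haveI : Surjective f.left := surjective_of_smooth o ho a b f hf fun p => by
    obtain ⟨x, hx⟩ := (hbij Y).2 (limFix o ho b (𝟙 Y))
    refine ⟨x.1.left p, ?_⟩
    change (x.1 ≫ f).left p = _
    exact congr($(congrArg CommaMorphism.left (congrArg Subtype.val hx)) p)
  haveI : Mono f.left := ⟨fun {W} g₁ g₂ hg => by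
    let T : Over S := Over.mk (g₁ ≫ X.hom)
    let x₁ : T ⟶ X := Over.homMk g₁ rfl
    let x₂ : T ⟶ X := Over.homMk g₂ (by
      change g₂ ≫ X.hom = g₁ ≫ X.hom
      rw [← Over.w f, ← Category.assoc, ← Category.assoc, hg])
    have he : x₁ ≫ f = x₂ ≫ f := Over.OverMorphism.ext hg
    have hl : limPt o a x₁ = limPt o a x₂ := congrArg Subtype.val ((hbij T).1
      (a₁ := limFix o ho a x₁) (a₂ := limFix o ho a x₂) (Subtype.ext (by
        change limPt o a x₁ ≫ f = limPt o a x₂ ≫ f
        rw [limPt_comp_equivariant o a b hf, limPt_comp_equivariant o a b hf, he])))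
    exact congrArg CommaMorphism.left (curve_eq o ho a b f hf V x₁ x₂ he hl (hV x₁))⟩
  haveI : IsOpenImmersion f.left := IsOpenImmersion.of_flat_of_mono f.left
  haveI : Epi f.left.base := (TopCat.epi_iff_surjective _).2 f.left.surjective
  haveI : IsIso f.left := IsOpenImmersion.isIso f.left
  haveI : IsIso ((Over.forget S).map f) := inferInstanceAs (IsIso f.left)
  exact isIso_of_reflects_iso f (Over.forget S)

end Groth.Agent.Mag88
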