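import Groth.Prelude.Def_Magnet4
import Mathlib

/-! Weights cutting out faces. -/

namespace Groth.Agent.Mag88

theorem exists_hom_ne_zero {M : Type} [AddCommGroup M] [AddGroup.FG M] (v : M) (hv : ∀ n : ℕ, n • v = 0 → n = 0) :
    ∃ φ : M →+ ℤ, 0 < φ v := by
  haveI : Module.Finite ℤ M := Module.Finite.iff_addGroup_fg.2 ‹_›
  let P := M ⧸ Submodule.torsion ℤ M
  haveI : Module.Free ℤ P := Module.free_of_finite_type_torsion_free'
  let b := Module.Free.chooseBasis ℤ P
  have hne : Submodule.Quotient.mk v ≠ (0 : P) := by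
    intro h
    rw [Submodule.Quotient.mk_eq_zero] at h
    obtain ⟨⟨a, ha⟩, hav⟩ := h
    have ha0 : a ≠ 0 := nonZeroDivisors.ne_zero ha
    have h1 : (a.natAbs : ℤ) • v = 0 := by
      have hav' : a • v = 0 := hav
      rcases Int.natAbs_eq a with h | h
      · rw [← h]; exact hav'
      · rw [show (a.natAbs : ℤ) = -a by omega, neg_smul, hav', neg_zero]
    rw [natCast_zsmul] at h1
    exact ha0 (Int.natAbs_eq_zero.1 (hv _ h1))
  obtain ⟨i, hi⟩ : ∃ i, b.repr (Submodule.Quotient.mk v) i ≠ 0 := by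
    by_contra h
    push_neg at h
    exact hne (b.repr.injective (by rw [map_zero]; exact Finsupp.ext h))
  let φ : M →+ ℤ := ((b.coord i).comp (Submodule.mkQ _)).toAddMonoidHom
  rcases lt_or_gt_of_ne hi with h | h
  · exact ⟨-φ, neg_pos.2 h⟩
  · exact ⟨φ, h⟩

/-- Gordan's alternative. -/
theorem gordan {M : Type} [AddCommGroup M] [AddGroup.FG M] {ι : Type} (s : Finset ι) (v : ι → M) :
    (∃ φ : M →+ ℤ, ∀ i ∈ s, 0 < φ (v i)) ∨
      ∃ c : ι → ℕ, (∃ i ∈ s, c i ≠ 0) ∧ ∑ i ∈ s, c i • v i = 0 := by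
  classical
  induction s using Finset.induction_on generalizing v with
  | empty => exact Or.inl ⟨0, fun i hi => absurd hi (Finset.notMem_empty i)⟩
  | @insert a s ha ih =>
    rcases ih v with ⟨φ, hφ⟩ | ⟨c, ⟨i, hi, hci⟩, hc⟩
    swap
    · refine Or.inr ⟨Function.update c a 0, ⟨i, Finset.mem_insert_of_mem hi, ?_⟩, ?_⟩
      · rwa [Function.update_of_ne (by rintro rfl; exact ha hi)]
      · rw [Finset.sum_insert ha, Function.update_self, zero_smul, zero_add]
        refine (Finset.sum_congr rfl fun j hj => ?_).trans hc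
        rw [Function.update_of_ne (by rintro rfl; exact ha hj)]
    by_cases hpos : 0 < φ (v a)
    · exact Or.inl ⟨φ, fun i hi => by
        rcases Finset.mem_insert.1 hi with rfl | hi
        · exact hpos
        · exact hφ i hi⟩
    rcases s.eq_empty_or_nonempty with rfl | ⟨i₀, hi₀⟩
    · by_cases htor : ∀ n : ℕ, n • v a = 0 → n = 0
      · obtain ⟨ψ, hψ⟩ := exists_hom_ne_zero (v a) htor
        exact Or.inl ⟨ψ, by simpa using hψ⟩
      · push_neg at htor
        obtain ⟨n, hn, hn0⟩ := htor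
        exact Or.inr ⟨fun _ => n, ⟨a, Finset.mem_insert_self _ _, hn0⟩, by simpa using hn⟩
    push_neg at hpos
    let m : ℕ := (-φ (v a)).toNat
    have hm : (m : ℤ) = -φ (v a) := Int.toNat_of_nonneg (by omega)
    let w : ι → M := fun i => φ (v i) • v a + m • v i
    rcases ih w with ⟨ψ, hψ⟩ | ⟨c, ⟨i, hi, hci⟩, hc⟩
    · refine Or.inl ?_
      have hψw : ∀ i ∈ s, 0 < φ (v i) * ψ (v a) + -φ (v a) * ψ (v i) := fun i hi => by
        have := hψ i hi
        simp only [w, map_add, map_zsmul, map_nsmul, smul_eq_mul, nsmul_eq_mul, hm] at this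
        exact this
      rcases hpos.lt_or_eq with hlt | heq
      · let χ : M →+ ℤ := ψ (v a) • φ + (-φ (v a)) • ψ
        have hχa : χ (v a) = 0 := by simp [χ]; ring
        have hχ : ∀ i ∈ s, 0 < χ (v i) := fun i hi => by
          have := hψw i hi
          simp [χ]; linarith
        let K : ℤ := 1 + ∑ i ∈ s, |φ (v i)|
        refine ⟨K • χ - φ, fun i hi => ?_⟩
        rcases Finset.mem_insert.1 hi with rfl | hi
        · simp [hχa]; omega
        · have h1 : φ (v i) ≤ ∑ j ∈ s, |φ (v j)| :=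
            (le_abs_self _).trans (Finset.single_le_sum (f := fun j => |φ (v j)|) (fun j _ => abs_nonneg _) hi)
          have h2 : K ≤ K * χ (v i) := le_mul_of_one_le_right
            (by have : 0 ≤ ∑ j ∈ s, |φ (v j)| := Finset.sum_nonneg fun j _ => abs_nonneg _; omega) (hχ i hi)
          simp; omega
      · have ha0 : 0 < ψ (v a) := by
          have := hψw i₀ hi₀
          rw [heq, neg_zero, zero_mul, add_zero] at this
          exact pos_of_mul_pos_right this (hφ i₀ hi₀).le
        let K : ℤ := 1 + ∑ i ∈ s, |ψ (v i)|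
        refine ⟨K • φ + ψ, fun i hi => ?_⟩
        rcases Finset.mem_insert.1 hi with rfl | hi
        · simp [heq]; omega
        · have h1 : -ψ (v i) ≤ ∑ j ∈ s, |ψ (v j)| :=
            (neg_le_abs _).trans (Finset.single_le_sum (f := fun j => |ψ (v j)|) (fun j _ => abs_nonneg _) hi)
          have h2 : K ≤ K * φ (v i) := le_mul_of_one_le_right
            (by have : 0 ≤ ∑ j ∈ s, |ψ (v j)| := Finset.sum_nonneg fun j _ => abs_nonneg _; omega) (hφ i hi)
          simp; omega
    · let C : ℕ := ∑ j ∈ s, c j * (φ (v j)).toNat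
      have hC : (C : ℤ) = ∑ j ∈ s, (c j : ℤ) * φ (v j) := by
        simp only [C, Nat.cast_sum, Nat.cast_mul]
        exact Finset.sum_congr rfl fun j hj => by rw [Int.toNat_of_nonneg (hφ j hj).le]
      refine Or.inr ⟨Function.update (fun j => c j * m) a C, ⟨a, Finset.mem_insert_self _ _, ?_⟩, ?_⟩
      · rw [Function.update_self]
        refine (Finset.sum_pos' (fun _ _ => Nat.zero_le _) ⟨i, hi, ?_⟩).ne'
        exact Nat.mul_pos (Nat.pos_of_ne_zero hci) (by have := hφ i hi; omega)
      · rw [Finset.sum_insert ha, Function.update_self]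
        have e : ∀ j ∈ s, Function.update (fun j => c j * m) a C j • v j = (c j * m) • v j := fun j hj => by
          rw [Function.update_of_ne (by rintro rfl; exact ha hj)]
        rw [Finset.sum_congr rfl e, ← natCast_zsmul (v a) C, hC, Finset.sum_smul, ← Finset.sum_add_distrib]
        refine (Finset.sum_congr rfl fun j _ => ?_).trans hc
        simp only [w, smul_add]
        rw [mul_smul (c j) m, mul_smul, natCast_zsmul]

/-- A face is cut out, on finitely many elements, by an additive functional. -/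
theorem exists_weight {M : Type} [AddCommGroup M] [AddGroup.FG M] {N F : AddSubmonoid M} (hF : Magnet.IsFace N F)
    (s : Finset M) (hs : ∀ m ∈ s, m ∈ N) :
    ∃ w : M →+ ℤ, (∀ f ∈ F, w f = 0) ∧ ∀ m ∈ s, (m ∈ F → w m = 0) ∧ (m ∉ F → 0 < w m) := by
  classical
  let G := AddSubgroup.closure (F : Set M)
  let π := QuotientAddGroup.mk' G
  haveI : AddGroup.FG (M ⧸ G) := AddGroup.fg_of_surjective (QuotientAddGroup.mk'_surjective G)
  rcases gordan (M := M ⧸ G) (s.filter (· ∉ F)) π with ⟨φ, hφ⟩ | ⟨c, ⟨i, hi, hci⟩, hc⟩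
  · refine ⟨φ.comp π, fun f hf => ?_, fun m hm => ⟨fun hmF => ?_, fun hmF => ?_⟩⟩
    · change φ (f : M ⧸ G) = 0
      rw [(QuotientAddGroup.eq_zero_iff f).2 (AddSubgroup.subset_closure hf), map_zero]
    · change φ (m : M ⧸ G) = 0
      rw [(QuotientAddGroup.eq_zero_iff m).2 (AddSubgroup.subset_closure hmF), map_zero]
    · exact hφ m (Finset.mem_filter.2 ⟨hm, hmF⟩)
  exfalso
  have hsum : ∑ j ∈ s.filter (· ∉ F), c j • j ∈ G := by
    rw [← QuotientAddGroup.eq_zero_iff]
    change π _ = 0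
    rw [map_sum]
    simpa only [map_nsmul] using hc
  have hdiff : ∀ x ∈ G, ∃ f₁ ∈ F, ∃ f₂ ∈ F, x + f₂ = f₁ := by
    intro x hx
    induction hx using AddSubgroup.closure_induction with
    | mem x hx => exact ⟨x, hx, 0, F.zero_mem, add_zero x⟩
    | zero => exact ⟨0, F.zero_mem, 0, F.zero_mem, add_zero 0⟩
    | add x y _ _ ihx ihy =>
      obtain ⟨a, ha, b, hb, e⟩ := ihx
      obtain ⟨a', ha', b', hb', e'⟩ := ihy
      exact ⟨a + a', F.add_mem ha ha', b + b', F.add_mem hb hb', by rw [← e, ← e']; abel⟩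
    | neg x _ ih =>
      obtain ⟨a, ha, b, hb, e⟩ := ih
      exact ⟨b, hb, a, ha, by rw [← e]; abel⟩
  obtain ⟨f₁, hf₁, f₂, hf₂, e⟩ := hdiff _ hsum
  have hiF := (Finset.mem_filter.1 hi).2
  rw [← Finset.add_sum_erase _ _ hi, ← Nat.succ_pred_eq_of_ne_zero hci, succ_nsmul, add_assoc, add_assoc,
    ← add_assoc, add_comm ((c i).pred • i) i, add_assoc] at e
  have hiN : i ∈ N := hs i (Finset.mem_filter.1 hi).1
  refine hiF (hF.mem_of_add_mem i hiN _ ?_ (e ▸ hf₁)).1
  exact N.add_mem (N.nsmul_mem hiN _) (N.add_mem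
    (N.sum_mem fun j hj => N.nsmul_mem (hs j (Finset.mem_filter.1 (Finset.mem_of_mem_erase hj)).1) _) (hF.le hf₂))

end Groth.Agent.Mag88
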