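import Groth.Agent.Mag88.OpenPb
import Groth.Agent.Mag88.Weight

/-! Attractors of stable open subschemes. -/

universe u

set_option backward.isDefEq.respectTransparency false
set_option backward.isDefEq.respectTransparency.types false

open CategoryTheory CategoryTheory.Limits MonoidalCategory CartesianMonoidalCategory MonObj AlgebraicGeometry
open Opposite Magnet Magnet.MonAct

namespace Groth.Agent.Mag88

theorem isIso_gFn_id (R : CommRingCat.{u}) : IsIso (gFn (𝟙 (Spec R))) := by
  have : gFn (𝟙 (Spec R)) = (Scheme.ΓSpecIso R).inv := by simp [gFn]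
  rw [this]; infer_instance

attribute [local instance] isIso_gFn_id

theorem appTop_specMap {R R' : CommRingCat.{u}} (φ : R ⟶ R') (a : Γ(Spec R, ⊤)) :
    (Spec.map φ).appTop a = (Scheme.ΓSpecIso R').inv (φ ((Scheme.ΓSpecIso R).hom a)) := by
  have h := congr($(Scheme.ΓSpecIso_inv_naturality φ) ((Scheme.ΓSpecIso R).hom a))
  simp only [CommRingCat.comp_apply] at h
  rw [h]
  congr 1
  exact ((Scheme.ΓSpecIso R).hom_inv_id_apply a).symm

set_option maxHeartbeats 400000 in
theorem gFn_embF_comp {R L F : CommRingCat.{u}} (q : Spec L ⟶ Spec R) (φ : L ⟶ F) (r : R) :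
    gFn (Spec.map φ ≫ q) r = (Scheme.ΓSpecIso F).inv (φ ((Scheme.ΓSpecIso L).hom (gFn q r))) := by
  rw [gFn_comp, CommRingCat.comp_apply, appTop_specMap]

/-- Extension of a character from a subgroup, after a field extension. -/
theorem exists_char_extension {M : Type} [AddCommGroup M] (Z : AddSubgroup M) (L : Type u) [Field L]
    (χ : Multiplicative Z →* L) :
    ∃ (L' : Type u) (_ : Field L') (emb : L →+* L') (u : Multiplicative M →* L'),
      ∀ z : Z, u (Multiplicative.ofAdd (z : M)) = emb (χ (Multiplicative.ofAdd z)) := by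
  classical
  let inc : MonoidAlgebra L (Multiplicative Z) →ₐ[L] MonoidAlgebra L (Multiplicative M) :=
    MonoidAlgebra.mapDomainAlgHom L L (AddMonoidHom.toMultiplicative Z.subtype)
  let ev : MonoidAlgebra L (Multiplicative Z) →ₐ[L] L := MonoidAlgebra.lift L L (Multiplicative Z) χ
  let I : Ideal (MonoidAlgebra L (Multiplicative M)) := (RingHom.ker ev).map inc.toRingHom
  let r : MonoidAlgebra L (Multiplicative M) → L := fun x =>
    ∑ m ∈ x.coeff.support, x.coeff m * (if h : Multiplicative.toAdd m ∈ Z then χ (Multiplicative.ofAdd ⟨_, h⟩) else 0)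
  let R : MonoidAlgebra L (Multiplicative M) →+ L :=
    (Finsupp.liftAddHom (fun m => AddMonoidHom.mulRight
      (if h : Multiplicative.toAdd m ∈ Z then χ (Multiplicative.ofAdd ⟨_, h⟩) else 0))).comp
      (MonoidAlgebra.coeffAddEquiv (R := L) (M := Multiplicative M)).toAddMonoidHom
  have hRs : ∀ (m : Multiplicative M) (a : L), R (MonoidAlgebra.single m a) =
      a * (if h : Multiplicative.toAdd m ∈ Z then χ (Multiplicative.ofAdd ⟨_, h⟩) else 0) := fun m a => by
    simp [R]
  have hR : ∀ (x : MonoidAlgebra L (Multiplicative Z)) (y : MonoidAlgebra L (Multiplicative M)),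
      R (y * inc x) = R y * ev x := by
    intro x
    induction x using MonoidAlgebra.induction_linear with
    | zero => intro y; simp
    | add x₁ x₂ h₁ h₂ => intro y; rw [map_add, mul_add, map_add, h₁, h₂, map_add, mul_add]
    | single z a =>
      intro y
      induction y using MonoidAlgebra.induction_linear with
      | zero => simp
      | add y₁ y₂ h₁ h₂ => rw [add_mul, map_add, h₁, h₂, map_add, add_mul]
      | single m b =>
        have e : inc (MonoidAlgebra.single z a) =
            MonoidAlgebra.single (Multiplicative.ofAdd ((Multiplicative.toAdd z : Z) : M)) a := by simp [inc]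
        rw [e, MonoidAlgebra.single_mul_single, hRs, hRs, MonoidAlgebra.lift_single]
        by_cases hm : Multiplicative.toAdd m ∈ Z
        · have hmz : Multiplicative.toAdd (m * Multiplicative.ofAdd ((Multiplicative.toAdd z : Z) : M)) ∈ Z :=
            Z.add_mem hm (Multiplicative.toAdd z).2
          rw [dif_pos hm, dif_pos hmz, smul_eq_mul]
          have : (⟨_, hmz⟩ : Z) = (⟨_, hm⟩ : Z) + Multiplicative.toAdd z := Subtype.ext rfl
          rw [this, ofAdd_add, map_mul, ofAdd_toAdd]
          ring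
        · have hmz : Multiplicative.toAdd (m * Multiplicative.ofAdd ((Multiplicative.toAdd z : Z) : M)) ∉ Z :=
            fun h => hm ((Z.add_mem_cancel_right (Multiplicative.toAdd z).2).1 h)
          rw [dif_neg hm, dif_neg hmz]
          simp
  have hI : I ≠ ⊤ := fun htop => by
    have h1 : (1 : MonoidAlgebra L (Multiplicative M)) ∈ I := by rw [htop]; trivial
    have h0 : ∀ w ∈ I, ∀ y, R (y * w) = 0 := by
      intro w hw
      induction hw using Submodule.span_induction with
      | mem w hw =>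
        obtain ⟨x, hx, rfl⟩ := hw
        intro y
        exact (hR x y).trans (by rw [show ev x = 0 from hx, mul_zero])
      | zero => intro y; rw [mul_zero, map_zero]
      | add w₁ w₂ _ _ i₁ i₂ => intro y; rw [mul_add, map_add, i₁, i₂, add_zero]
      | smul c w _ ih => intro y; rw [smul_eq_mul, ← _root_.mul_assoc]; exact ih _
    have := h0 1 h1 1
    rw [_root_.one_mul, MonoidAlgebra.one_def, hRs, _root_.one_mul, dif_pos (by simpa using Z.zero_mem)] at this
    refine one_ne_zero ((map_one χ).symm.trans (Eq.trans (congrArg χ ?_) this))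
    rfl
  obtain ⟨P, hP, hIP⟩ := Ideal.exists_le_maximal I hI
  letI := Ideal.Quotient.field P
  refine ⟨_, inferInstance, (Ideal.Quotient.mk P).comp (algebraMap L _),
    (Ideal.Quotient.mk P).toMonoidHom.comp (MonoidAlgebra.of L _), fun z => ?_⟩
  change Ideal.Quotient.mk P _ = Ideal.Quotient.mk P _
  rw [Ideal.Quotient.mk_eq_mk_iff_sub_mem]
  refine hIP ?_
  have hmem : MonoidAlgebra.single (Multiplicative.ofAdd z) (1 : L) -
      algebraMap L _ (χ (Multiplicative.ofAdd z)) ∈ RingHom.ker ev := by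
    rw [RingHom.mem_ker, map_sub, AlgHom.commutes, MonoidAlgebra.lift_single]
    simp
  have := Ideal.mem_map_of_mem inc.toRingHom hmem
  rw [map_sub, show inc.toRingHom (MonoidAlgebra.single (Multiplicative.ofAdd z) (1 : L)) =
      MonoidAlgebra.single (Multiplicative.ofAdd (z : M)) 1 by simp [inc],
    show inc.toRingHom (algebraMap L _ (χ (Multiplicative.ofAdd z))) = algebraMap L _ (χ (Multiplicative.ofAdd z)) from
      inc.commutes _] at this
  exact this

section Coord

variable {S : Scheme.{u}} {R : CommRingCat.{u}} (p : Spec R ⟶ S) {N : Type} [AddCommMonoid N]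

theorem gFn_comp_mMap {T : Over S} (g : T ⟶ mQ p N) (x : MonoidAlgebra R (Multiplicative N)) :
    gFn g.left x = x.coeff.sum fun m r => gFn (g ≫ mMap p N ≫ snd _ _).left r *
      aFn (g ≫ mMap p N ≫ fst _ _) (Multiplicative.toAdd m) := by
  have hr : ∀ r : R, gFn (g ≫ mMap p N ≫ snd _ _).left r =
      gFn g.left (algebraMap R (MonoidAlgebra R (Multiplicative N)) r) := fun r => by
    have : (g ≫ mMap p N ≫ snd _ _).left = g.left ≫ Spec.map (CommRingCat.ofHom (algebraMap R (MonoidAlgebra R (Multiplicative N)))) := by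
      rw [mMap, lift_snd]; rfl
    rw [this, gFn_specMap]
    rfl
  conv_lhs => rw [← MonoidAlgebra.sum_single x]
  rw [map_finsuppSum]
  refine Finsupp.sum_congr fun m _ => ?_
  rw [hr, aFn_comp_mMap_fst, ← map_mul, ofAdd_toAdd]
  congr 1
  simp

end Coord

theorem prod_act_inverse {S : Scheme.{u}} {A B T T' : Over S} [MonObj A] (ρ : MonAct A B) (g' g : T' ⟶ A) (h : g' * g = 1)
    (b : T' ⟶ B) (t : T' ⟶ T) (x : T' ⟶ B ⊗ T) (hb : x ≫ fst _ _ = b) (ht : x ≫ snd _ _ = t) :
    lift g' (lift (lift g b ≫ ρ.act) t) ≫ (ρ.prod (MonAct.trivial A T)).act = x := by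
  rw [lift_prod_act, lift_trivial_act, ← lift_mul_act, h, lift_one_act]
  apply CartesianMonoidalCategory.hom_ext
  · rw [lift_fst, hb]
  · rw [lift_snd, ht]

theorem mem_of_stable {S : Scheme.{u}} {A B T' : Over S} {act : A ⊗ B ⟶ B} (W : B.left.Opens)
    (hW : (snd A B).left ⁻¹ᵁ W ≤ act.left ⁻¹ᵁ W) (g : T' ⟶ A) (y x : T' ⟶ B) (h : lift g y ≫ act = x)
    (η₀ : T'.left) (hy : y.left η₀ ∈ W) : x.left η₀ ∈ W := by
  have h1 : (lift g y).left η₀ ∈ (snd A B).left ⁻¹ᵁ W := by
    change (lift g y ≫ snd A B).left η₀ ∈ W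
    rw [lift_snd]; exact hy
  have h2 := hW h1
  rw [← h]
  exact h2

section Main

variable {S : Scheme.{u}} {M : Type} [AddCommGroup M] [AddGroup.FG M] (N : AddSubmonoid M)

open Classical in
theorem exists_unitPt : ∃ o : 𝟙_ (Over S) ⟶ AMonS S N, ∀ n : N, aFn o n = if (n : M) ∈ unitFace N then 1 else 0 := by
  obtain ⟨o, ho⟩ := aFn_surjective (S := S) (X := 𝟙_ (Over S)) (M := N)
    { toFun := fun n => if ((Multiplicative.toAdd n : N) : M) ∈ unitFace N then 1 else 0
      map_one' := by simp
      map_mul' := fun a b => by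
        have h : ((Multiplicative.toAdd (a * b) : N) : M) ∈ unitFace N ↔
            ((Multiplicative.toAdd a : N) : M) ∈ unitFace N ∧ ((Multiplicative.toAdd b : N) : M) ∈ unitFace N := by
          rw [toAdd_mul, AddSubmonoid.coe_add]
          exact ⟨fun h => (isFace_unitFace N).mem_of_add_mem _ (Multiplicative.toAdd a).2 _ (Multiplicative.toAdd b).2 h,
            fun h => (unitFace N).add_mem h.1 h.2⟩
        rw [if_congr h rfl rfl]
        by_cases h1 : ((Multiplicative.toAdd a : N) : M) ∈ unitFace N <;>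
          by_cases h2 : ((Multiplicative.toAdd b : N) : M) ∈ unitFace N <;> simp [h1, h2] }
  exact ⟨o, fun n => ho n⟩

/-- The zero point of `A(N)`: one on units, zero elsewhere. -/
noncomputable def unitPt : 𝟙_ (Over S) ⟶ AMonS S N := (exists_unitPt N).choose

open Classical in
theorem aFn_comp_unitPt {T : Over S} (t : T ⟶ 𝟙_ (Over S)) (n : N) :
    aFn (t ≫ unitPt N) n = if (n : M) ∈ unitFace N then 1 else 0 := by
  rw [aFn_comp, unitPt, (exists_unitPt (S := S) N).choose_spec]
  split_ifs <;> simp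

set_option maxHeartbeats 600000 in
theorem stable_open_eq_top_affine {K : CommRingCat.{u}} (p : Spec K ⟶ S) (κ : Spec K)
    (hκ : ∀ a : K, a ∈ κ.asIdeal → a = 0) (hsub : Subsingleton (PrimeSpectrum K))
    (W : (AMonS S N ⊗ Over.mk p).left.Opens)
    (hW : (snd (AMonS S M) (AMonS S N ⊗ Over.mk p)).left ⁻¹ᵁ W ≤
      (((subAct S M N).prod (MonAct.trivial (AMonS S M) (Over.mk p))).act).left ⁻¹ᵁ W)
    (hz : (lift (toUnit (Over.mk p) ≫ unitPt N) (𝟙 (Over.mk p))).left κ ∈ W) : W = ⊤ := by
  classical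
  let e := mMap p N
  let T := Over.mk p
  haveI : IsIso e := by
    haveI : IsIso ((Over.forget S).map e) := inferInstanceAs (IsIso e.left)
    exact isIso_of_reflects_iso e (Over.forget S)
  let z : T ⟶ AMonS S N ⊗ T := lift (toUnit T ≫ unitPt N) (𝟙 T)
  have hz' : (z ≫ inv e).left κ ∈ e.left ⁻¹ᵁ W := by
    change ((z ≫ inv e) ≫ e).left κ ∈ W
    rw [Category.assoc, IsIso.inv_hom_id, Category.comp_id]
    exact hz
  obtain ⟨-, ⟨f, rfl⟩, hf, hfW⟩ :=
    PrimeSpectrum.isTopologicalBasis_basic_opens.exists_subset_of_mem_open hz' (e.left ⁻¹ᵁ W).isOpen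
  obtain ⟨w, -, hw⟩ := exists_weight (isFace_unitFace N)
    (f.coeff.support.image (fun n => ((Multiplicative.toAdd n : N) : M)))
    (fun m hm => by
      obtain ⟨n, -, rfl⟩ := Finset.mem_image.1 hm
      exact (Multiplicative.toAdd n).2)
  let f₀ : K := ∑ n ∈ f.coeff.support, if ((Multiplicative.toAdd n : N) : M) ∈ unitFace N then f.coeff n else 0
  have hf₀ : f₀ ≠ 0 := by
    intro h0
    obtain ⟨φ, hφ⟩ : ∃ φ, Spec.map φ = (z ≫ inv e).left := ⟨_, Spec.map_preimage _⟩
    have hgf : gFn (z ≫ inv e).left f = gFn (𝟙 (Spec K)) f₀ := by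
      rw [gFn_comp_mMap, Category.assoc, Category.assoc, IsIso.inv_hom_id_assoc, IsIso.inv_hom_id_assoc,
        lift_fst, lift_snd, map_sum]
      refine Finset.sum_congr rfl fun n _ => ?_
      dsimp only
      rw [aFn_comp_unitPt]
      split_ifs <;> simp <;> rfl
    rw [h0, map_zero, ← hφ, ← Category.id_comp (Spec.map φ), gFn_specMap, CommRingCat.comp_apply] at hgf
    have hφ0 : φ f = 0 := by
      apply (ConcreteCategory.bijective_of_isIso (gFn (𝟙 (Spec K)))).1
      · exact hgf.trans (map_zero _).symm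
    refine hf ?_
    change f ∈ ((z ≫ inv e).left κ).asIdeal
    rw [← hφ]
    change φ f ∈ κ.asIdeal
    rw [hφ0]
    exact κ.asIdeal.zero_mem
  rw [← top_le_iff]
  rintro x -
  let B := AMonS S N ⊗ T
  let L : CommRingCat.{u} := B.left.residueField x
  obtain ⟨pt₀⟩ : Nonempty (Spec L : Scheme.{u}) := inferInstanceAs (Nonempty (PrimeSpectrum L))
  let T₁ : Over S := Over.mk (B.left.fromSpecResidueField x ≫ B.hom)
  let pt : T₁ ⟶ B := Over.homMk (B.left.fromSpecResidueField x) rfl
  let cL : L ≅ Γ(T₁.left, ⊤) := (Scheme.ΓSpecIso L).symm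
  obtain ⟨b, hbdef⟩ : ∃ b : N → L, ∀ n, b n = cL.inv (aFn (pt ≫ fst _ _) n) := ⟨_, fun _ => rfl⟩
  have hb : ∀ n n', b (n + n') = b n * b n' := fun n n' => by rw [hbdef, hbdef, hbdef, aFn_add, map_mul]
  have hb0 : b 0 = 1 := by rw [hbdef, aFn_zero, map_one]
  let Z : AddSubgroup M :=
    { __ := unitFace N
      neg_mem' := fun {x} hx => by
        obtain ⟨hxN, y, hy, hxy⟩ := hx
        rw [show -x = y from neg_eq_of_add_eq_zero_right hxy]
        exact ⟨hy, x, hxN, by rw [add_comm]; exact hxy⟩ }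
  have hZN : ∀ z : Z, (z : M) ∈ N := fun z => z.2.1
  obtain ⟨L', _, emb, u, hu⟩ := exists_char_extension Z L
    { toFun := fun z => b ⟨_, hZN (Multiplicative.toAdd z)⟩
      map_one' := hb0
      map_mul' := fun z z' => (congrArg b (Subtype.ext rfl)).trans (hb ⟨_, hZN (Multiplicative.toAdd z)⟩ ⟨_, hZN (Multiplicative.toAdd z')⟩) }
  let F := FractionRing (Polynomial L')
  let s : F := algebraMap (Polynomial L') F Polynomial.X
  have hs : s ≠ 0 := (map_ne_zero_iff _ (IsFractionRing.injective _ _)).2 Polynomial.X_ne_zero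
  let cst : L' →+* F := (algebraMap (Polynomial L') F).comp Polynomial.C
  let embF : L ⟶ CommRingCat.of F := CommRingCat.ofHom (cst.comp emb)
  let T₂ : Over S := Over.mk (Spec.map embF ≫ T₁.hom)
  let π : T₂ ⟶ T₁ := Over.homMk (Spec.map embF) rfl
  let cF : CommRingCat.of F ≅ Γ(T₂.left, ⊤) := (Scheme.ΓSpecIso _).symm
  have hu0 : ∀ m, u (Multiplicative.ofAdd m) ≠ 0 := fun m h => by
    have := u.map_mul (Multiplicative.ofAdd m) (Multiplicative.ofAdd (-m))
    rw [← ofAdd_add, add_neg_cancel, ofAdd_zero, map_one, h, zero_mul] at this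
    exact one_ne_zero this
  obtain ⟨g, hg⟩ := aFn_surjective (S := S) (X := T₂) (M := M)
    ((cF.hom.hom : F →* _).comp
      { toFun := fun m => cst (u m)⁻¹ * s ^ w (Multiplicative.toAdd m)
        map_one' := by simp
        map_mul' := fun m m' => by
          rw [toAdd_mul, map_add, zpow_add₀ hs, map_mul, mul_inv, map_mul]
          ring })
  let gb : T₂ ⟶ B := lift (lift g (π ≫ pt ≫ fst _ _) ≫ (subAct S M N).act) (π ≫ pt ≫ snd _ _)
  obtain ⟨η₀⟩ : Nonempty (Spec (CommRingCat.of F) : Scheme.{u}) := inferInstanceAs (Nonempty (PrimeSpectrum F))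
  have hgbW : gb.left η₀ ∈ W := by
    have h : (gb ≫ inv e).left η₀ ∈ PrimeSpectrum.basicOpen f := by
      obtain ⟨φ, hφ⟩ : ∃ φ, Spec.map φ = (gb ≫ inv e).left := ⟨_, Spec.map_preimage _⟩
      have hgf : gFn (gb ≫ inv e).left f = gFn (gb ≫ inv e).left f := rfl
      conv_rhs at hgf => rw [gFn_comp_mMap, Category.assoc, Category.assoc, IsIso.inv_hom_id_assoc,
        IsIso.inv_hom_id_assoc, lift_fst, lift_snd]
      rw [← hφ, ← Category.id_comp (Spec.map φ), gFn_specMap, CommRingCat.comp_apply] at hgf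
      let c : K → L := fun r => cL.inv (gFn (pt ≫ snd _ _).left r)
      have hc : ∀ r, gFn (π ≫ pt ≫ snd _ _).left r = cF.hom (cst (emb (c r))) := fun r => by
        exact gFn_embF_comp (pt ≫ snd _ _).left embF r
      let F₀ : Polynomial L' := ∑ n ∈ f.coeff.support, Polynomial.C (emb (c (f.coeff n)) *
          ((u (Multiplicative.ofAdd ((Multiplicative.toAdd n : N) : M)))⁻¹ * emb (b (Multiplicative.toAdd n)))) *
        Polynomial.X ^ (w ((Multiplicative.toAdd n : N) : M)).toNat
      have hF₀ : φ f = algebraMap _ F F₀ := by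
        apply (ConcreteCategory.bijective_of_isIso (gFn (𝟙 (Spec (CommRingCat.of F))))).1
        refine hgf.trans ?_
        rw [map_sum (algebraMap (Polynomial L') F), map_sum]
        refine Finset.sum_congr rfl fun n hn => ?_
        have hwn : 0 ≤ w ((Multiplicative.toAdd n : N) : M) := by
          obtain ⟨h1, h2⟩ := hw _ (Finset.mem_image_of_mem _ hn)
          by_cases h : ((Multiplicative.toAdd n : N) : M) ∈ unitFace N
          · exact (h1 h).ge
          · exact (h2 h).le
        have ha : aFn (lift g (π ≫ pt ≫ fst _ _) ≫ (subAct S M N).act) (Multiplicative.toAdd n) =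
            cF.hom (cst (u (Multiplicative.ofAdd ((Multiplicative.toAdd n : N) : M)))⁻¹ *
              s ^ w ((Multiplicative.toAdd n : N) : M) * cst (emb (b (Multiplicative.toAdd n)))) := by
          rw [subAct, lift_restrict_act, lift_regular_act, aFn_mul, aFn_map, hg, map_mul]
          refine congr (congrArg _ ?_) ?_
          · rfl
          · rw [aFn_comp, hbdef]
            exact appTop_specMap embF _
        dsimp only
        rw [hc, ha, ← map_mul]
        have : gFn (𝟙 (Spec (CommRingCat.of F))) = cF.hom := by simp [gFn, cF]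
        rw [this]
        congr 1
        simp only [map_mul, map_pow, cst, RingHom.comp_apply, s]
        rw [← zpow_natCast, Int.toNat_of_nonneg hwn]
        ring
      have hF₀0 : F₀.coeff 0 ≠ 0 := by
        have : F₀.coeff 0 = emb (c f₀) := by
          have hadd : emb (c f₀) = ∑ n ∈ f.coeff.support,
              emb (c (if ((Multiplicative.toAdd n : N) : M) ∈ unitFace N then f.coeff n else 0)) := by
            simp only [c, f₀, map_sum]
          rw [hadd, Polynomial.finsetSum_coeff]
          refine Finset.sum_congr rfl fun n hn => ?_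
          rw [Polynomial.coeff_C_mul, Polynomial.coeff_X_pow]
          obtain ⟨h1, h2⟩ := hw _ (Finset.mem_image_of_mem _ hn)
          by_cases h : ((Multiplicative.toAdd n : N) : M) ∈ unitFace N
          · rw [h1 h, if_pos h, Int.toNat_zero, if_pos rfl, _root_.mul_one]
            have e1 := hu ⟨_, h⟩
            simp only [MonoidHom.coe_mk, OneHom.coe_mk, toAdd_ofAdd] at e1
            rw [← e1, inv_mul_cancel₀ (hu0 _), _root_.mul_one]
          · have := h2 h
            rw [if_neg h, if_neg (by omega), mul_zero]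
            simp [c]
        rw [this]
        intro h
        have hc0 : c f₀ = 0 := emb.injective (h.trans (map_zero emb).symm)
        have h3 : gFn (pt ≫ snd _ _).left f₀ = 0 := by
          have := congrArg cL.hom hc0
          simpa [c] using this
        -- the map to the field is a local ring map
        have hunit : IsUnit f₀ := by
          by_contra hnu
          obtain ⟨Q, hQ, hfQ⟩ := exists_max_ideal_of_mem_nonunits hnu
          have : (⟨Q, hQ.isPrime⟩ : PrimeSpectrum K) = κ := Subsingleton.elim (α := PrimeSpectrum K) (h := hsub) _ _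
          exact hf₀ (hκ f₀ (this ▸ hfQ))
        have hu1 := hunit.map (gFn (pt ≫ snd _ _).left).hom
        rw [show (gFn (pt ≫ snd _ _).left).hom f₀ = 0 from h3] at hu1
        haveI : Nontrivial Γ(T₁.left, ⊤) := cL.commRingCatIsoToRingEquiv.injective.nontrivial
        exact not_isUnit_zero hu1
      rw [← hφ]
      change φ f ∉ η₀.asIdeal
      rw [hF₀, (Ideal.eq_bot_or_top η₀.asIdeal).resolve_right η₀.isPrime.ne_top, Ideal.mem_bot,
        map_eq_zero_iff _ (IsFractionRing.injective (Polynomial L') F)]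
      exact fun h => hF₀0 (by rw [h, Polynomial.coeff_zero])
    have := hfW h
    change ((gb ≫ inv e) ≫ e).left η₀ ∈ W at this
    rwa [Category.assoc, IsIso.inv_hom_id, Category.comp_id] at this
  obtain ⟨g', hg'⟩ := aFn_surjective (S := S) (X := T₂) (M := M)
    { toFun := fun m => aFn g (-(Multiplicative.toAdd m))
      map_one' := by simp [aFn_zero]
      map_mul' := fun m m' => by rw [toAdd_mul, neg_add, aFn_add] }
  have hgg : g' * g = 1 := aFn_ext fun m => by
    rw [aFn_mul, aFn_one, hg']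
    change aFn g (-m) * aFn g m = 1
    rw [← aFn_add, neg_add_cancel, aFn_zero]
  have hx : (π ≫ pt).left η₀ = x := by
    rw [Over.comp_left, Scheme.Hom.comp_apply]
    exact Scheme.fromSpecResidueField_apply x _
  have hcomp : lift g' gb ≫ ((subAct S M N).prod (MonAct.trivial (AMonS S M) T)).act = π ≫ pt :=
    prod_act_inverse (subAct S M N) g' g hgg (π ≫ pt ≫ fst _ _) (π ≫ pt ≫ snd _ _) (π ≫ pt)
      (by simp only [Category.assoc]) (by simp only [Category.assoc])
  have hfin := mem_of_stable W hW g' gb (π ≫ pt) hcomp η₀ hgbW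
  rw [hx] at hfin
  exact hfin

theorem stable_open_eq_top (T : Over S) (K : Type u) [Field K] (eT : T.left ≅ Spec (CommRingCat.of K))
    (W : (AMonS S N ⊗ T).left.Opens)
    (hW : (snd (AMonS S M) (AMonS S N ⊗ T)).left ⁻¹ᵁ W ≤
      (((subAct S M N).prod (MonAct.trivial (AMonS S M) T)).act).left ⁻¹ᵁ W)
    (hz : (lift (toUnit T ≫ unitPt N) (𝟙 T)).left ⁻¹ᵁ W = ⊤) : W = ⊤ := by
  let T₀ : Over S := Over.mk (eT.inv ≫ T.hom)
  let j : T₀ ≅ T := Over.isoMk eT.symm rfl
  obtain ⟨κ⟩ : Nonempty (Spec (CommRingCat.of K) : Scheme.{u}) := inferInstanceAs (Nonempty (PrimeSpectrum K))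
  have h0 := stable_open_eq_top_affine N (eT.inv ≫ T.hom) κ (fun a ha => by
      rwa [(Ideal.eq_bot_or_top κ.asIdeal).resolve_right κ.isPrime.ne_top, Ideal.mem_bot] at ha)
    inferInstance ((AMonS S N ◁ j.hom).left ⁻¹ᵁ W) ?_ ?_
  · rw [← top_le_iff]
    intro x _
    have hmem : (AMonS S N ◁ j.inv).left x ∈ (AMonS S N ◁ j.hom).left ⁻¹ᵁ W := by rw [h0]; trivial
    change ((AMonS S N ◁ j.inv) ≫ (AMonS S N ◁ j.hom)).left x ∈ W at hmem
    rw [← MonoidalCategory.whiskerLeft_comp, j.inv_hom_id, MonoidalCategory.whiskerLeft_id] at hmem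
    exact hmem
  · intro r hr
    have h1 : (AMonS S M ◁ (AMonS S N ◁ j.hom)).left r ∈ (snd (AMonS S M) (AMonS S N ⊗ T)).left ⁻¹ᵁ W := by
      change ((AMonS S M ◁ (AMonS S N ◁ j.hom)) ≫ snd _ _).left r ∈ W
      rw [whiskerLeft_snd]
      exact hr
    have h2 := hW h1
    change ((AMonS S M ◁ (AMonS S N ◁ j.hom)) ≫ ((subAct S M N).prod (MonAct.trivial (AMonS S M) T)).act).left r ∈ W at h2
    have hnat : (AMonS S M ◁ (AMonS S N ◁ j.hom)) ≫ ((subAct S M N).prod (MonAct.trivial (AMonS S M) T)).act =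
        ((subAct S M N).prod (MonAct.trivial (AMonS S M) T₀)).act ≫ (AMonS S N ◁ j.hom) :=
      (prod_trivial_act_whiskerLeft (ρ := subAct S M N) j.hom).symm
    rw [hnat] at h2
    exact h2
  · have h1 : j.hom.left κ ∈ (lift (toUnit T ≫ unitPt N) (𝟙 T)).left ⁻¹ᵁ W := by rw [hz]; trivial
    change (j.hom ≫ lift (toUnit T ≫ unitPt N) (𝟙 T)).left κ ∈ W at h1
    change (lift (toUnit T₀ ≫ unitPt N) (𝟙 T₀) ≫ (AMonS S N ◁ j.hom)).left κ ∈ W
    rw [lift_whiskerLeft, Category.id_comp]
    rw [comp_lift, ← Category.assoc, comp_toUnit, Category.comp_id] at h1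
    exact h1

theorem isOpenImmersion_attr {X Y : Over S} {aX : MonAct (AMonS S M) X} {aY : MonAct (AMonS S M) Y} (f : X ⟶ Y)
    (hf : IsEquivariant aX aY f) [IsOpenImmersion f.left] {ZX ZY : Over S} (eX : (attr aX N).RepresentableBy ZX)
    (eY : (attr aY N).RepresentableBy ZY) (j : ZX ⟶ ZY)
    (hj : ∀ (T : Over S) (z : T ⟶ ZX),
      eY.homEquiv (z ≫ j) = (eqvHom.postcomp (subAct S M N) f hf).app (op T) (eX.homEquiv z)) :
    IsOpenImmersion j.left := by
  let cX : ZX ⟶ X := (eqvHom.evalAt (subAct S M N) aX (unitPt N)).app (op ZX) (eX.homEquiv (𝟙 ZX))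
  let cY : ZY ⟶ Y := (eqvHom.evalAt (subAct S M N) aY (unitPt N)).app (op ZY) (eY.homEquiv (𝟙 ZY))
  have natX : ∀ {T : Over S} (z : T ⟶ ZX),
      (eqvHom.evalAt (subAct S M N) aX (unitPt N)).app (op T) (eX.homEquiv z) = z ≫ cX := fun z => by
    rw [eX.homEquiv_eq z]
    exact congr($((eqvHom.evalAt (subAct S M N) aX (unitPt N)).naturality z.op) (eX.homEquiv (𝟙 ZX)))
  have natY : ∀ {T : Over S} (z : T ⟶ ZY),
      (eqvHom.evalAt (subAct S M N) aY (unitPt N)).app (op T) (eY.homEquiv z) = z ≫ cY := fun z => by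
    rw [eY.homEquiv_eq z]
    exact congr($((eqvHom.evalAt (subAct S M N) aY (unitPt N)).naturality z.op) (eY.homEquiv (𝟙 ZY)))
  have sq := isPullback_evalAt_openImm (subAct S M N) (unitPt N)
    (fun T K _ eT W => stable_open_eq_top N T K eT W) f hf
  have hsq : ∀ T : Over S, _ := fun T => Types.isPullback_iff _ _ _ _ |>.1 (sq.app (op T))
  have w : j ≫ cY = cX ≫ f := by
    have h1 := natY (𝟙 ZX ≫ j)
    rw [hj, Category.id_comp] at h1
    rw [← h1]
    have h2 := congr($((hsq ZX).1) (eX.homEquiv (𝟙 ZX)))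
    refine h2.trans ?_
    change (eqvHom.evalAt (subAct S M N) aX (unitPt N)).app (op ZX) (eX.homEquiv (𝟙 ZX)) ≫ f = cX ≫ f
    rfl
  have pb : IsPullback j cX cY f := ⟨⟨w⟩, ⟨PullbackCone.IsLimit.mk w
    (fun s => eX.homEquiv.symm ((hsq s.pt).2.2 (eY.homEquiv s.fst) s.snd (by
      rw [natY]; exact s.condition)).choose)
    (fun s => eY.homEquiv.injective (by
      rw [hj, Equiv.apply_symm_apply]
      exact ((hsq s.pt).2.2 (eY.homEquiv s.fst) s.snd (by rw [natY]; exact s.condition)).choose_spec.1))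
    (fun s => by
      rw [← natX, Equiv.apply_symm_apply]
      exact ((hsq s.pt).2.2 (eY.homEquiv s.fst) s.snd (by rw [natY]; exact s.condition)).choose_spec.2)
    (fun s m h₁ h₂ => eX.homEquiv.injective (by
      rw [Equiv.apply_symm_apply]
      have hs := ((hsq s.pt).2.2 (eY.homEquiv s.fst) s.snd (by rw [natY]; exact s.condition)).choose_spec
      refine (hsq s.pt).2.1 _ _ ⟨?_, ?_⟩
      · rw [← hj, h₁]; exact hs.1.symm
      · rw [natX, h₂]; exact hs.2.symm))⟩⟩
  exact MorphismProperty.of_isPullback (P := @IsOpenImmersion.{u}) (pb.map (Over.forget S)).flip ‹IsOpenImmersion f.left›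

end Main

end Groth.Agent.Mag88
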