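import Groth.Agent.RedPts82.Points
import Groth.Prelude.Def_Magnet2

/-! Points of diagonalizable monoid schemes. -/

universe u

open CategoryTheory MonoidalCategory CartesianMonoidalCategory MonObj AlgebraicGeometry
open Groth.Agent.RedPts82

namespace Groth.Agent.Mag88

variable {S : Scheme.{u}} {X Y : Over S} {M N : Type} [AddCommMonoid M] [AddCommMonoid N]

attribute [local instance] RedPts82.gammaAlg

local notation "f₀" => Limits.IsTerminal.from specULiftZIsTerminal S
local notation "B" M':max => MonoidAlgebra RedPts82.ZU (Multiplicative M')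

theorem toBase_mul' {S₀ : Scheme.{u}} (f : S ⟶ S₀) {P : Over S₀} [MonObj P] (x y : X ⟶ Red.bc f P) :
    toBase f (x * y) = toBase f x * toBase f y := by
  have key : toBase f (lift x y ≫ Functor.LaxMonoidal.μ (Over.pullback f) P P) =
      lift (toBase f x) (toBase f y) := by
    apply CartesianMonoidalCategory.hom_ext <;>
      simp [toBase, ← Adjunction.homEquiv_naturality_right_symm]
  rw [Hom.mul_def, Hom.mul_def, Functor.obj.μ_def, ← Category.assoc, ← key]
  simp only [toBase]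
  rw [Adjunction.homEquiv_naturality_right_symm]

theorem homPt_conv' {A : Type u} [CommRing A] [Bialgebra ZU.{u} A]
    {Z : Over (Spec (CommRingCat.of ZU.{u}))} [Algebra ZU.{u} Γ(Z.left, ⊤)]
    (φ ψ : A →ₐ[ZU.{u}] Γ(Z.left, ⊤)) :
    homPt A (WithConv.toConv φ * WithConv.toConv ψ).ofConv = homPt A φ * homPt A ψ := by
  have := map_mul (Spec.mapMulEquiv (R := ZU.{u}) (S := A) (T := Γ(Z.left, ⊤)))
    (WithConv.toConv φ) (WithConv.toConv ψ)
  unfold homPt
  rw [← MonObj.comp_mul]
  exact congrArg (toAff Z ≫ ·) this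

theorem ptHom_mul' {A : Type u} [CommRing A] [Bialgebra ZU.{u} A]
    {Z : Over (Spec (CommRingCat.of ZU.{u}))} [Algebra ZU.{u} Γ(Z.left, ⊤)]
    (p q : Z ⟶ (Spec (CommRingCat.of A)).asOver (Spec (CommRingCat.of ZU.{u}))) :
    ptHom A (p * q) = (WithConv.toConv (ptHom A p) * WithConv.toConv (ptHom A q)).ofConv := by
  conv_lhs => rw [← homPt_ptHom A p, ← homPt_ptHom A q, ← homPt_conv', ptHom_homPt]

/-- The function attached to a character and a point of a diagonalizable monoid scheme. -/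
noncomputable def aFn (t : X ⟶ Magnet.AMonS S M) (m : M) : Γ(X.left, ⊤) :=
  ptHom (B M) (toBase f₀ t) (MonoidAlgebra.single (Multiplicative.ofAdd m) 1)

theorem aFn_zero (t : X ⟶ Magnet.AMonS S M) : aFn t 0 = 1 := by
  rw [aFn, ofAdd_zero, ← MonoidAlgebra.one_def, map_one]

theorem aFn_add (t : X ⟶ Magnet.AMonS S M) (m m' : M) : aFn t (m + m') = aFn t m * aFn t m' := by
  rw [aFn, aFn, aFn, ← map_mul, MonoidAlgebra.single_mul_single, ofAdd_add, _root_.one_mul]

theorem aFn_nsmul (t : X ⟶ Magnet.AMonS S M) (m : M) (n : ℕ) : aFn t (n • m) = aFn t m ^ n := by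
  induction n with
  | zero => rw [zero_smul, pow_zero, aFn_zero]
  | succ k ih => rw [succ_nsmul, aFn_add, ih, pow_succ]

theorem aFn_ext {t t' : X ⟶ Magnet.AMonS S M} (h : ∀ m, aFn t m = aFn t' m) : t = t' := by
  apply toBase_injective f₀
  apply ptHom_injective
  refine MonoidAlgebra.algHom_ext (fun m => h (Multiplicative.toAdd m)) ?_
  exact Subsingleton.elim _ _

theorem aFn_surjective (c : Multiplicative M →* Γ(X.left, ⊤)) :
    ∃ t : X ⟶ Magnet.AMonS S M, ∀ m, aFn t m = c (Multiplicative.ofAdd m) := by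
  refine ⟨ofBase f₀ (homPt (B M) (MonoidAlgebra.lift ZU Γ(X.left, ⊤) (Multiplicative M) c)), ?_⟩
  intro m
  rw [aFn, toBase_ofBase, ptHom_homPt, MonoidAlgebra.lift_single]
  exact one_smul ZU _

theorem aFn_mul (t t' : X ⟶ Magnet.AMonS S M) (m : M) : aFn (t * t') m = aFn t m * aFn t' m := by
  rw [aFn, aFn, aFn, toBase_mul', ptHom_mul']
  show (WithConv.toConv (ptHom (B M) (toBase f₀ t)) *
    WithConv.toConv (ptHom (B M) (toBase f₀ t'))) _ = _
  rw [AlgHom.convMul_apply]
  simp

theorem aFn_one (m : M) : aFn (1 : X ⟶ Magnet.AMonS S M) m = 1 := by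
  obtain ⟨t, ht⟩ := aFn_surjective (S := S) (X := X) (M := M) 1
  have h := aFn_mul 1 t m
  rw [_root_.one_mul] at h
  rw [ht m, MonoidHom.one_apply, _root_.mul_one] at h
  exact h.symm

theorem aFn_pow (t : X ⟶ Magnet.AMonS S M) (m : M) (n : ℕ) : aFn (t ^ n) m = aFn t m ^ n := by
  induction n with
  | zero => rw [pow_zero, pow_zero, aFn_one]
  | succ k ih => rw [pow_succ, aFn_mul, ih, pow_succ]

theorem aFn_map (φ : M →+ N) (t : X ⟶ Magnet.AMonS S N) (m : M) :
    aFn (t ≫ Magnet.AMonS.map S φ) m = aFn t (φ m) := by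
  rw [aFn, aFn, Magnet.AMonS.map, toBase_comp_map]
  refine (ptHom_comp_map (MonoidAlgebra.mapDomainAlgHom ZU ZU (AddMonoidHom.toMultiplicative φ))
    (toBase f₀ t) _).trans ?_
  simp

theorem aFn_comp (g : Y ⟶ X) (t : X ⟶ Magnet.AMonS S M) (m : M) :
    aFn (g ≫ t) m = g.left.appTop (aFn t m) := by
  rw [aFn, aFn, toBase_comp]
  simp only [ptHom_apply, Over.comp_left, Over.map_map_left, Scheme.Hom.comp_appTop]
  rfl

end Groth.Agent.Mag88
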