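import Groth.Agent.Mag88.Field
import Mathlib.RingTheory.TensorProduct.Free

/-! Affine schemes over a field as algebras, and extension of actions along a dense open monoid immersion. -/

universe u

set_option backward.isDefEq.respectTransparency false
set_option backward.isDefEq.respectTransparency.types false
set_option linter.style.haveILetI false

open CategoryTheory CategoryTheory.Limits MonoidalCategory CartesianMonoidalCategory MonObj AlgebraicGeometry
open Opposite Magnet Magnet.MonAct
open scoped TensorProduct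

namespace Groth.Agent.Mag88.SpAlg

variable {k : Type u} [Field k]

local notation "S₀" => Spec (CommRingCat.of k)

/-- The spectrum of an algebra. -/
noncomputable abbrev Sp (B : Type u) [CommRing B] [Algebra k B] : Over S₀ :=
  Over.mk (Spec.map (CommRingCat.ofHom (algebraMap k B)))

variable {A B C R R' : Type u} [CommRing A] [CommRing B] [CommRing C] [CommRing R] [CommRing R']
  [Algebra k A] [Algebra k B] [Algebra k C] [Algebra k R] [Algebra k R']

/-- The map of spectra. -/
noncomputable def spMap (f : B →ₐ[k] C) : Sp (k := k) C ⟶ Sp (k := k) B :=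
  Over.homMk (Spec.map (CommRingCat.ofHom f.toRingHom)) (by
    change Spec.map _ ≫ Spec.map _ = Spec.map _
    rw [← Spec.map_comp, ← CommRingCat.ofHom_comp]
    exact congrArg (fun q => Spec.map (CommRingCat.ofHom q)) f.comp_algebraMap)

theorem spMap_comp (f : A →ₐ[k] B) (g : B →ₐ[k] C) : spMap (g.comp f) = spMap g ≫ spMap f := by
  apply Over.OverMorphism.ext
  change Spec.map _ = Spec.map _ ≫ Spec.map _
  rw [← Spec.map_comp]
  rfl

theorem spMap_injective {f g : B →ₐ[k] C} (h : spMap f = spMap g) : f = g :=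
  AlgHom.ext fun b => congr($(Spec.map_injective (congrArg Over.Hom.left h)) b)

theorem spMap_surjective (t : Sp (k := k) C ⟶ Sp (k := k) B) : ∃ f : B →ₐ[k] C, spMap f = t := by
  obtain ⟨φ, hφ⟩ : ∃ φ, Spec.map φ = t.left := ⟨_, Spec.map_preimage _⟩
  have e : Spec.map (CommRingCat.ofHom (algebraMap k B) ≫ φ) = Spec.map (CommRingCat.ofHom (algebraMap k C)) := by
    rw [Spec.map_comp, hφ]; exact Over.w t
  exact ⟨{ φ.hom with commutes' := fun r => congr($(Spec.map_injective e) r) }, Over.OverMorphism.ext hφ⟩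

theorem exists_sp (W : Over S₀) [IsAffine W.left] :
    ∃ (B : Type u) (_ : CommRing B) (_ : Algebra k B), Nonempty (Sp (k := k) B ≅ W) := by
  obtain ⟨c, hc⟩ : ∃ c, Spec.map c = W.left.isoSpec.inv ≫ W.hom := ⟨_, Spec.map_preimage _⟩
  letI := c.hom.toAlgebra
  exact ⟨Γ(W.left, ⊤), inferInstance, c.hom.toAlgebra, ⟨Over.isoMk W.left.isoSpec.symm hc.symm⟩⟩

/-- The product of two spectra. -/
noncomputable def pr (B R : Type u) [CommRing B] [Algebra k B] [CommRing R] [Algebra k R] :
    Sp (k := k) (B ⊗[k] R) ⟶ Sp (k := k) B ⊗ Sp (k := k) R :=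
  lift (spMap Algebra.TensorProduct.includeLeft) (spMap Algebra.TensorProduct.includeRight)

instance isIso_pr : IsIso (pr (k := k) B R) := by
  have e : (pr (k := k) B R).left = (pullbackSpecIso k B R).inv := by
    apply pullback.hom_ext
    · refine Eq.trans ?_ (pullbackSpecIso_inv_fst k B R).symm
      exact (congrArg Over.Hom.left (lift_fst (spMap (k := k) (B := B) (C := B ⊗[k] R) Algebra.TensorProduct.includeLeft) _))
    · refine Eq.trans ?_ (pullbackSpecIso_inv_snd k B R).symm
      exact (congrArg Over.Hom.left (lift_snd _ (spMap (k := k) (B := R) (C := B ⊗[k] R) Algebra.TensorProduct.includeRight)))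
  haveI : IsIso ((Over.forget S₀).map (pr (k := k) B R)) := by
    change IsIso (pr (k := k) B R).left
    rw [e]; infer_instance
  exact isIso_of_reflects_iso _ (Over.forget S₀)

theorem pr_natural (f : B →ₐ[k] C) (g : R →ₐ[k] R') :
    spMap (Algebra.TensorProduct.map f g) ≫ pr B R = pr C R' ≫ (spMap f ⊗ₘ spMap g) := by
  apply CartesianMonoidalCategory.hom_ext
  · simp only [pr, Category.assoc, lift_fst, tensorHom_fst, lift_fst_assoc, ← spMap_comp]
    congr 1
    ext b
    simp
  · simp only [pr, Category.assoc, lift_snd, tensorHom_snd, lift_snd_assoc, ← spMap_comp]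
    congr 1
    ext b
    simp

section Alg

variable (inc : B →ₐ[k] C) {J : Type u} (bC : Module.Basis J k C) (r : C →ₗ[k] B)

/-- A complement of the image, in coordinates. -/
noncomputable def ev (R : Type u) [CommRing R] [Algebra k R] (j : J) : C ⊗[k] R →ₗ[k] R :=
  (TensorProduct.lid k R).toLinearMap ∘ₗ LinearMap.rTensor R ((bC.coord j) ∘ₗ (LinearMap.id - inc.toLinearMap ∘ₗ r))

theorem ev_map (q : R →ₐ[k] R') (j : J) (z : C ⊗[k] R) :
    ev inc bC r R' j (Algebra.TensorProduct.map (AlgHom.id k C) q z) = q (ev inc bC r R j z) := by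
  induction z using TensorProduct.induction_on with
  | zero => simp
  | tmul c x => simp [ev]
  | add x y hx hy => simp only [map_add, hx, hy]

variable {r}

theorem map_injective (hr : ∀ b, r (inc b) = b) :
    Function.Injective (Algebra.TensorProduct.map inc (AlgHom.id k R)) := by
  refine Function.LeftInverse.injective (g := LinearMap.rTensor R r) fun z => ?_
  induction z using TensorProduct.induction_on with
  | zero => simp
  | tmul c x => simp [hr]
  | add x y hx hy => simp only [map_add, hx, hy]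

theorem mem_range_iff [DecidableEq J] (hr : ∀ b, r (inc b) = b) (z : C ⊗[k] R) :
    (∃ y, Algebra.TensorProduct.map inc (AlgHom.id k R) y = z) ↔ ∀ j, ev inc bC r R j z = 0 := by
  constructor
  · rintro ⟨y, rfl⟩ j
    induction y using TensorProduct.induction_on with
    | zero => simp
    | tmul c x => simp [ev, hr]
    | add x y hx hy => simp only [map_add, hx, hy, add_zero]
  · intro h
    let π : C →ₗ[k] C := LinearMap.id - inc.toLinearMap ∘ₗ r
    have h0 : LinearMap.rTensor R π z = 0 := by
      apply (TensorProduct.equivFinsuppOfBasisLeft bC).injective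
      rw [map_zero]
      refine Finsupp.ext fun j => Eq.trans ?_ (h j)
      clear h
      induction z using TensorProduct.induction_on with
      | zero => simp
      | tmul c x => simp [ev, π, sub_smul]
      | add x y hx hy => simp only [map_add, Finsupp.add_apply, hx, hy]
    refine ⟨LinearMap.rTensor R r z, ?_⟩
    have key : Algebra.TensorProduct.map inc (AlgHom.id k R) (LinearMap.rTensor R r z) + LinearMap.rTensor R π z = z := by
      clear h h0
      induction z using TensorProduct.induction_on with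
      | zero => simp
      | tmul c x => simp [π]
      | add x y hx hy =>
        simp only [map_add]
        rw [add_add_add_comm, hx, hy]
    rw [h0, add_zero] at key
    exact key

end Alg

variable {M G X : Over (Spec (CommRingCat.of k))} [MonObj M] [GrpObj G] (i : G ⟶ M) [IsMonHom i]

/-- The orbit map of the point extends to the monoid. -/
def Ext (a : MonAct G X) {T : Over S₀} (x : T ⟶ X) : Prop :=
  ∃ φ : M ⊗ T ⟶ X, (i ▷ T) ≫ φ = (G ◁ x) ≫ a.act

omit [MonObj M] [IsMonHom i] in
theorem ext_comp (a : MonAct G X) {T T' : Over S₀} (t : T' ⟶ T) {x : T ⟶ X} (h : Ext i a x) : Ext i a (t ≫ x) := by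
  obtain ⟨φ, hφ⟩ := h
  exact ⟨(M ◁ t) ≫ φ, by rw [← whisker_exchange_assoc, hφ, MonoidalCategory.whiskerLeft_comp, Category.assoc]⟩

theorem exists_obj_of_ext [IsSeparated X.hom] [QuasiCompact i.left] [IsSchemeTheoreticallyDominant i.left]
    (a : MonAct G X) {T : Over S₀} {x : T ⟶ X} (h : Ext i a x) :
    ∃ φ : (eqvHom ((regular M).restrict i) a).obj (op T),
      (eqvHom.evalAt ((regular M).restrict i) a η[M]).app (op T) φ = x := by
  obtain ⟨φ, hφ⟩ := h
  have hpt : ∀ {T' : Over S₀} (g : T' ⟶ G) (t : T' ⟶ T),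
      lift (g ≫ i) t ≫ φ = lift g (t ≫ x) ≫ a.act := fun g t => by
    rw [← lift_whiskerRight_assoc, hφ, lift_whiskerLeft_assoc]
  let e' : M ⊗ (G ⊗ T) ⟶ G ⊗ (M ⊗ T) := lift (snd _ _ ≫ fst _ _) (lift (fst _ _) (snd _ _ ≫ snd _ _))
  have hmem : IsEquivariant (((regular M).restrict i).prod (MonAct.trivial G T)) a φ := by
    haveI := isSTD_whiskerRight i (G ⊗ T)
    have H : e' ≫ (((regular M).restrict i).prod (MonAct.trivial G T)).act ≫ φ = e' ≫ (G ◁ φ) ≫ a.act := by
      refine eq_of_isSTD (i ▷ (G ⊗ T)) _ _ ?_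
      apply hom_ext_lift₂
      intro T' b p
      obtain ⟨g, t, rfl⟩ : ∃ (g : T' ⟶ G) (t : T' ⟶ T), lift g t = p :=
        ⟨p ≫ fst _ _, p ≫ snd _ _, by rw [← comp_lift, lift_fst_snd, Category.comp_id]⟩
      simp only [lift_whiskerRight_assoc, e', comp_lift_assoc, lift_snd_assoc, lift_fst, comp_lift, lift_snd]
      rw [lift_prod_act_assoc, lift_trivial_act, lift_restrict_act, lift_regular_act, lift_whiskerLeft_assoc, hpt,
        ← MonObj.mul_comp, hpt, lift_mul_act]
    change _ ≫ _ = _ ≫ _
    apply hom_ext_lift₂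
    intro T' g p
    obtain ⟨b, t, rfl⟩ : ∃ (b : T' ⟶ M) (t : T' ⟶ T), lift b t = p :=
      ⟨p ≫ fst _ _, p ≫ snd _ _, by rw [← comp_lift, lift_fst_snd, Category.comp_id]⟩
    have he : lift g (lift b t) = lift b (lift g t) ≫ e' := by simp [e']
    rw [he, Category.assoc, Category.assoc, H]
  refine ⟨⟨φ, hmem⟩, ?_⟩
  change lift (toUnit T ≫ η[M]) (𝟙 T) ≫ φ = x
  rw [← IsMonHom.one_hom i, ← Category.assoc, hpt, Category.id_comp, ← Hom.one_def, lift_one_act]

omit [MonObj M] [IsMonHom i] in
theorem exists_ideal [IsAffine M.left] [IsAffine G.left] [IsSchemeTheoreticallyDominant i.left]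
    (a : MonAct G X) (eX : Sp (k := k) A ≅ X) :
    ∃ I : Ideal A, ∀ (R : Type u) [CommRing R] [Algebra k R] (q : A →ₐ[k] R),
      Ext i a (spMap q ≫ eX.hom) ↔ I ≤ RingHom.ker q := by
  obtain ⟨B, _, _, ⟨eM⟩⟩ := exists_sp M
  obtain ⟨C, _, _, ⟨eG⟩⟩ := exists_sp G
  obtain ⟨inc, hinc⟩ := spMap_surjective (eG.hom ≫ i ≫ eM.inv)
  have hinc' : spMap inc ≫ eM.hom = eG.hom ≫ i := by rw [hinc, Category.assoc, Category.assoc, Iso.inv_hom_id, Category.comp_id]
  have hinj : Function.Injective inc := by
    haveI : IsSchemeTheoreticallyDominant (spMap inc).left := by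
      have : (spMap inc).left = eG.hom.left ≫ i.left ≫ eM.inv.left := by rw [hinc]; rfl
      rw [this]
      haveI : IsIso eG.hom.left := inferInstanceAs (IsIso ((Over.forget S₀).map eG.hom))
      haveI : IsIso eM.inv.left := inferInstanceAs (IsIso ((Over.forget S₀).map eM.inv))
      infer_instance
    let σ : Spec (CommRingCat.of C) ⟶ Spec (CommRingCat.of B) := Spec.map (CommRingCat.ofHom inc.toRingHom)
    haveI : IsSchemeTheoreticallyDominant σ := ‹IsSchemeTheoreticallyDominant (spMap inc).left›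
    have h := Scheme.ker_of_isAffine σ
    rw [Scheme.Hom.ker_eq_bot] at h
    have h0 : RingHom.ker σ.appTop.hom = ⊥ := by
      have := congrArg (fun I => I.ideal ⟨⊤, isAffineOpen_top _⟩) h.symm
      simpa using this
    intro x y hxy
    have e := Scheme.ΓSpecIso_inv_naturality (CommRingCat.ofHom inc.toRingHom)
    have e2 : σ.appTop ((Scheme.ΓSpecIso (CommRingCat.of B)).inv x) = σ.appTop ((Scheme.ΓSpecIso (CommRingCat.of B)).inv y) :=
      (congr($e x)).symm.trans ((congrArg (fun z : C => (Scheme.ΓSpecIso (CommRingCat.of C)).inv z) hxy).trans (congr($e y)))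
    exact (Scheme.ΓSpecIso _).commRingCatIsoToRingEquiv.symm.injective
      ((RingHom.injective_iff_ker_eq_bot _).2 h0 e2)
  obtain ⟨r, hr⟩ := inc.toLinearMap.exists_leftInverse_of_injective (LinearMap.ker_eq_bot.2 hinj)
  have hr' : ∀ b, r (inc b) = b := fun b => LinearMap.congr_fun hr b
  let bC := Module.Basis.ofVectorSpace k C
  obtain ⟨δ, hδ⟩ := spMap_surjective (pr C A ≫ (eG.hom ⊗ₘ eX.hom) ≫ a.act ≫ eX.inv)
  refine ⟨Ideal.span (Set.range fun p : A × _ => ev inc bC r A p.2 (δ p.1)), fun R _ _ q => ?_⟩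
  haveI : IsIso (eM.hom ▷ Sp (k := k) R) := inferInstance
  let δq := (Algebra.TensorProduct.map (AlgHom.id k C) q).comp δ
  have hδq : spMap δq ≫ eX.hom = pr C R ≫ (eG.hom ▷ _) ≫ (G ◁ (spMap q ≫ eX.hom)) ≫ a.act := by
    have hid : spMap (k := k) (AlgHom.id k C) = 𝟙 _ := Over.OverMorphism.ext (Spec.map_id _)
    rw [spMap_comp, hδ, ← Category.assoc (spMap _) (pr C A), pr_natural, hid]
    simp [MonoidalCategory.tensorHom_def]
    rw [whisker_exchange_assoc]
  have hsq : spMap (Algebra.TensorProduct.map inc (AlgHom.id k R)) ≫ pr B R ≫ (eM.hom ▷ _) =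
      pr C R ≫ (eG.hom ▷ _) ≫ (i ▷ _) := by
    have hid : spMap (k := k) (AlgHom.id k R) = 𝟙 _ := Over.OverMorphism.ext (Spec.map_id _)
    rw [← Category.assoc, pr_natural, hid, tensorHom_id, Category.assoc, ← comp_whiskerRight, hinc', comp_whiskerRight]
  have key : Ext i a (spMap q ≫ eX.hom) ↔ ∀ b, ∃ y, Algebra.TensorProduct.map inc (AlgHom.id k R) y = δq b := by
    constructor
    · rintro ⟨φ, hφ⟩ b
      obtain ⟨φ₀, hφ₀⟩ := spMap_surjective (pr B R ≫ (eM.hom ▷ _) ≫ φ ≫ eX.inv)
      refine ⟨φ₀ b, ?_⟩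
      have e : (Algebra.TensorProduct.map inc (AlgHom.id k R)).comp φ₀ = δq := by
        apply spMap_injective
        rw [← cancel_mono eX.hom, hδq, spMap_comp, hφ₀]
        simp only [Category.assoc, Iso.inv_hom_id, Category.comp_id]
        rw [← hφ]
        exact (reassoc_of% hsq) φ
      exact AlgHom.congr_fun e b
    · intro h
      choose g hg using h
      have hi := map_injective (R := R) inc hr'
      let φ₀ : A →ₐ[k] B ⊗[k] R :=
        { toFun := g
          map_one' := hi (by rw [hg, map_one, map_one])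
          map_mul' := fun a b => hi (by rw [map_mul, hg, hg, hg, map_mul])
          map_zero' := hi (by rw [hg, map_zero, map_zero])
          map_add' := fun a b => hi (by rw [map_add, hg, hg, hg, map_add])
          commutes' := fun c => hi (by rw [hg, AlgHom.commutes, AlgHom.commutes]) }
      refine ⟨inv (eM.hom ▷ _) ≫ inv (pr B R) ≫ spMap φ₀ ≫ eX.hom, ?_⟩
      rw [← cancel_epi (pr C R ≫ (eG.hom ▷ _))]
      simp only [Category.assoc]
      rw [← hδq, ← reassoc_of% hsq]
      simp only [IsIso.hom_inv_id_assoc]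
      rw [← Category.assoc, ← spMap_comp]
      exact congrArg (fun f => spMap f ≫ eX.hom) (AlgHom.ext hg)
  rw [key, Ideal.span_le]
  classical
  simp only [mem_range_iff inc bC hr']
  constructor
  · rintro h _ ⟨⟨b, j⟩, rfl⟩
    exact (ev_map inc bC r q j (δ b)).symm.trans (h b j)
  · intro h b j
    exact (ev_map inc bC r q j (δ b)).trans (h ⟨(b, j), rfl⟩)

theorem exists_representableBy [IsAffine M.left] [IsAffine G.left] [IsAffine X.left] [QuasiCompact i.left]
    [IsSchemeTheoreticallyDominant i.left] (a : MonAct G X) :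
    ∃ (Z : Over S₀) (j : Z ⟶ X) (e : (eqvHom ((regular M).restrict i) a).RepresentableBy Z),
      IsClosedImmersion j.left ∧ ∀ (T : Over S₀) (z : T ⟶ Z),
        (eqvHom.evalAt ((regular M).restrict i) a η[M]).app (op T) (e.homEquiv z) = z ≫ j := by
  haveI : IsAffineHom X.hom := inferInstance
  obtain ⟨A, _, _, ⟨eX⟩⟩ := exists_sp X
  obtain ⟨I, hI⟩ := exists_ideal i a eX
  let j : Sp (k := k) (A ⧸ I) ⟶ X := spMap (Ideal.Quotient.mkₐ k I) ≫ eX.hom
  haveI hj : IsClosedImmersion j.left := by
    haveI : IsIso eX.hom.left := inferInstanceAs (IsIso ((Over.forget S₀).map eX.hom))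
    haveI : IsClosedImmersion (spMap (Ideal.Quotient.mkₐ k I)).left :=
      IsClosedImmersion.spec_of_surjective _ Ideal.Quotient.mk_surjective
    rw [Over.comp_left]; infer_instance
  haveI := mono_of_closedImm j
  have hjExt : Ext i a j := (hI _ (Ideal.Quotient.mkₐ k I)).2 (fun x hx => Ideal.Quotient.eq_zero_iff_mem.2 hx)
  obtain ⟨Φ, hΦ⟩ := exists_obj_of_ext i a hjExt
  let E := eqvHom.evalAt ((regular M).restrict i) a η[M]
  have hnat : ∀ (T : Over S₀) (z : T ⟶ Sp (k := k) (A ⧸ I)),
      E.app (op T) ((eqvHom ((regular M).restrict i) a).map z.op Φ) = z ≫ j := fun T z => by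
    rw [← hΦ]
    exact congr($(E.naturality z.op) Φ)
  have hfac : ∀ (T : Over S₀) (x : T ⟶ X), Ext i a x → ∃ z, z ≫ j = x := fun T x hx => by
    have hloc : ∀ t : T.left, ∃ (U : Over S₀) (u : U ⟶ T) (z : U ⟶ Sp (k := k) (A ⧸ I)),
        IsOpenImmersion u.left ∧ t ∈ Set.range u.left ∧ z ≫ j = u ≫ x := fun t => by
      obtain ⟨W, hW, htW, -⟩ := exists_isAffineOpen_mem_and_subset (U := ⊤) (show t ∈ (⊤ : T.left.Opens) from trivial)
      let u : Over.mk (hW.fromSpec ≫ T.hom) ⟶ T := Over.homMk hW.fromSpec rfl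
      haveI : IsAffine (Over.mk (hW.fromSpec ≫ T.hom)).left := inferInstanceAs (IsAffine (Spec Γ(T.left, W)))
      obtain ⟨R, _, _, ⟨e⟩⟩ := exists_sp (Over.mk (hW.fromSpec ≫ T.hom))
      obtain ⟨q, hq⟩ := spMap_surjective (e.hom ≫ u ≫ x ≫ eX.inv)
      have hxq : spMap q ≫ eX.hom = e.hom ≫ u ≫ x := by rw [hq]; simp
      have hker := (hI R q).1 (hxq ▸ ext_comp i a _ (ext_comp i a u hx))
      refine ⟨_, u, e.inv ≫ spMap (Ideal.Quotient.liftₐ I q hker), inferInstanceAs (IsOpenImmersion hW.fromSpec),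
        hW.range_fromSpec.symm ▸ htW, ?_⟩
      rw [Category.assoc, ← Category.assoc (spMap _) (spMap _), ← spMap_comp,
        show (Ideal.Quotient.liftₐ I q hker).comp (Ideal.Quotient.mkₐ k I) = q from AlgHom.ext fun _ => rfl, hxq,
        Iso.inv_hom_id_assoc]
    choose U u z hu ht hz using hloc
    let 𝒰 : T.left.OpenCover := Scheme.Cover.mkOfCovers T.left (fun t => (U t).left) (fun t => (u t).left)
      (fun t => ⟨t, (ht t).choose, (ht t).choose_spec⟩) (fun t => hu t)
    have hf : ∀ s t : T.left, pullback.fst (u s).left (u t).left ≫ (z s).left =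
        pullback.snd (u s).left (u t).left ≫ (z t).left := fun s t => by
      rw [← cancel_mono j.left, Category.assoc, Category.assoc, ← Over.comp_left, ← Over.comp_left, hz, hz,
        Over.comp_left, Over.comp_left, pullback.condition_assoc]
    have hg : 𝒰.glueMorphisms (fun t => (z t).left) hf ≫ j.left = x.left := by
      refine Scheme.Cover.hom_ext 𝒰 _ _ fun t => ?_
      rw [← Category.assoc, 𝒰.ι_glueMorphisms _ hf t]
      exact congrArg Over.Hom.left (hz t)
    exact ⟨Over.homMk (𝒰.glueMorphisms (fun t => (z t).left) hf) (by rw [← Over.w j, ← Category.assoc, hg, Over.w]),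
      Over.OverMorphism.ext hg⟩
  have hb : ∀ T : Over S₀, Function.Bijective fun z : T ⟶ Sp (k := k) (A ⧸ I) =>
      (eqvHom ((regular M).restrict i) a).map z.op Φ := fun T => by
    refine ⟨fun z z' h => (cancel_mono j).1 ?_, fun φ => ?_⟩
    · rw [← hnat, ← hnat]
      exact congrArg _ h
    · haveI := isSTD_whiskerRight i T
      obtain ⟨z, hz⟩ := hfac T (E.app (op T) φ) ⟨φ.1, whiskerRight_comp_eqvHom i a φ⟩
      exact ⟨z, evalAt_injective i a T ((hnat T z).trans hz)⟩
  refine ⟨_, j, { homEquiv := fun {T} => Equiv.ofBijective _ (hb T), homEquiv_comp := fun f g => ?_ }, hj, hnat⟩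
  exact congr($((eqvHom ((regular M).restrict i) a).map_comp g.op f.op) Φ)

end Groth.Agent.Mag88.SpAlg
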