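import Groth.Agent.Mag88.Dom

/-! Formally unramified morphisms and infinitesimal uniqueness for attractors. -/

universe u

set_option backward.isDefEq.respectTransparency false
set_option backward.isDefEq.respectTransparency.types false

open CategoryTheory CategoryTheory.Limits MonoidalCategory CartesianMonoidalCategory MonObj AlgebraicGeometry
open Opposite

namespace Groth.Agent.Mag88

theorem eq_of_formallyUnramified_ringHom {A B C C₀ : Type u} [CommRing A] [CommRing B] [CommRing C] [CommRing C₀]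
    {φ : A →+* B} (hφ : φ.FormallyUnramified) (q : C →+* C₀) (hq : ∀ x y, q x = 0 → q y = 0 → x * y = 0)
    (g₁ g₂ : B →+* C) (hA : g₁.comp φ = g₂.comp φ) (hc : ∀ b, q (g₁ b) = q (g₂ b)) : g₁ = g₂ := by
  letI := φ.toAlgebra
  letI : Algebra A C := (g₁.comp φ).toAlgebra
  haveI : Algebra.FormallyUnramified A B := hφ
  let G₁ : B →ₐ[A] C := { g₁ with commutes' := fun a => rfl }
  let G₂ : B →ₐ[A] C := { g₂ with commutes' := fun a => (RingHom.congr_fun hA a).symm }
  have hI : IsNilpotent (RingHom.ker q) := ⟨2, by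
    rw [pow_two, Ideal.zero_eq_bot, eq_bot_iff, Ideal.mul_le]
    intro x hx y hy
    rw [Ideal.mem_bot]
    exact hq x y hx hy⟩
  have : G₁ = G₂ := Algebra.FormallyUnramified.ext (RingHom.ker q) hI fun b =>
    Ideal.Quotient.mk_eq_mk_iff_sub_mem _ _ |>.2 (by
      rw [RingHom.mem_ker, map_sub, sub_eq_zero]
      exact hc b)
  exact RingHom.ext fun b => AlgHom.congr_fun this b

/-- Maps out of an affine scheme into a formally unramified scheme agreeing on a square-zero thickening. -/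
theorem eq_of_unramified {X Y : Scheme.{u}} (f : X ⟶ Y) [FormallyUnramified f] {B B₀ : CommRingCat.{u}}
    (q : B ⟶ B₀) (hqs : Function.Surjective q) (hq : ∀ x y, q x = 0 → q y = 0 → x * y = 0) (g₁ g₂ : Spec B ⟶ X)
    (hc : Spec.map q ≫ g₁ = Spec.map q ≫ g₂) (hf : g₁ ≫ f = g₂ ≫ f) : g₁ = g₂ := by
  have hsurj : ∀ p : Spec B, ∃ p₀ : Spec B₀, (Spec.map q) p₀ = p := fun p => by
    have : p ∈ Set.range (PrimeSpectrum.comap q.hom) := by
      rw [range_comap_of_surjective _ _ hqs]
      intro x hx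
      have hx' : x * x = 0 := hq x x hx hx
      exact (p.isPrime.mem_or_mem (show x * x ∈ p.asIdeal by rw [hx']; exact p.asIdeal.zero_mem)).elim id id
    exact this
  have hpt : ∀ p : Spec B, g₁ p = g₂ p := fun p => by
    obtain ⟨p₀, rfl⟩ := hsurj p
    change (Spec.map q ≫ g₁) p₀ = (Spec.map q ≫ g₂) p₀
    rw [hc]
  have hloc : ∀ p : Spec B, ∃ h : B, p ∈ PrimeSpectrum.basicOpen h ∧
      Spec.map (CommRingCat.ofHom (algebraMap B (Localization.Away h))) ≫ g₁ =
        Spec.map (CommRingCat.ofHom (algebraMap B (Localization.Away h))) ≫ g₂ := fun p => by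
    obtain ⟨U, hU, hpU, -⟩ := exists_isAffineOpen_mem_and_subset (U := ⊤) (show f (g₁ p) ∈ (⊤ : Y.Opens) from trivial)
    obtain ⟨V, hV, hpV, hVU⟩ := exists_isAffineOpen_mem_and_subset (U := f ⁻¹ᵁ U) (show g₁ p ∈ f ⁻¹ᵁ U from hpU)
    obtain ⟨-, ⟨h, rfl⟩, hph, hhV⟩ :=
      PrimeSpectrum.isTopologicalBasis_basic_opens.exists_subset_of_mem_open (show p ∈ g₁ ⁻¹ᵁ V from hpV) (g₁ ⁻¹ᵁ V).isOpen
    refine ⟨h, hph, ?_⟩
    let ℓ : Spec (CommRingCat.of (Localization.Away h)) ⟶ Spec B :=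
      Spec.map (CommRingCat.ofHom (algebraMap B (Localization.Away h)))
    have hℓ : Set.range ℓ = (PrimeSpectrum.basicOpen h : Set (PrimeSpectrum B)) :=
      PrimeSpectrum.localization_away_comap_range (Localization.Away h) h
    have hr₁ : Set.range (ℓ ≫ g₁) ⊆ Set.range hV.fromSpec := by
      rintro _ ⟨s, rfl⟩
      rw [hV.range_fromSpec]
      exact hhV (hℓ ▸ ⟨s, rfl⟩ : ℓ s ∈ (PrimeSpectrum.basicOpen h : Set (PrimeSpectrum B)))
    have hr₂ : Set.range (ℓ ≫ g₂) ⊆ Set.range hV.fromSpec := by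
      rintro _ ⟨s, rfl⟩
      rw [hV.range_fromSpec]
      have : g₁ (ℓ s) ∈ V := hhV (hℓ ▸ ⟨s, rfl⟩ : ℓ s ∈ (PrimeSpectrum.basicOpen h : Set (PrimeSpectrum B)))
      rwa [hpt] at this
    obtain ⟨φ₁, hφ₁⟩ : ∃ φ, Spec.map φ ≫ hV.fromSpec = ℓ ≫ g₁ :=
      ⟨Spec.preimage (IsOpenImmersion.lift _ _ hr₁), by rw [Spec.map_preimage, IsOpenImmersion.lift_fac]⟩
    obtain ⟨φ₂, hφ₂⟩ : ∃ φ, Spec.map φ ≫ hV.fromSpec = ℓ ≫ g₂ :=
      ⟨Spec.preimage (IsOpenImmersion.lift _ _ hr₂), by rw [Spec.map_preimage, IsOpenImmersion.lift_fac]⟩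
    let qh : Localization.Away h →+* Localization.Away (q.hom h) := IsLocalization.Away.map _ _ q.hom h
    have hqh : ∀ b : B, qh (algebraMap B (Localization.Away h) b) = algebraMap B₀ _ (q.hom b) := fun b => by
      simp [qh, IsLocalization.Away.map, IsLocalization.map_eq]
    have hA : f.appLE U V hVU ≫ φ₁ = f.appLE U V hVU ≫ φ₂ := by
      apply Spec.map_injective
      rw [← cancel_mono hU.fromSpec, Spec.map_comp, Spec.map_comp, Category.assoc, Category.assoc,
        hU.SpecMap_appLE_fromSpec f hV hVU, reassoc_of% hφ₁, reassoc_of% hφ₂, hf]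
    have hC : φ₁ ≫ CommRingCat.ofHom qh = φ₂ ≫ CommRingCat.ofHom qh := by
      have e : CommRingCat.ofHom (algebraMap B (Localization.Away h)) ≫ CommRingCat.ofHom qh =
          q ≫ CommRingCat.ofHom (algebraMap B₀ (Localization.Away (q.hom h))) := by
        ext b
        exact hqh b
      apply Spec.map_injective
      rw [← cancel_mono hV.fromSpec, Spec.map_comp, Spec.map_comp, Category.assoc, Category.assoc, hφ₁, hφ₂,
        ← Category.assoc, ← Category.assoc, ← Spec.map_comp, e, Spec.map_comp, Category.assoc, Category.assoc, hc]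
    have hker : ∀ x y, qh x = 0 → qh y = 0 → x * y = 0 := by
      have key : ∀ x, qh x = 0 → ∃ (n : ℕ) (b : B), q b = 0 ∧ x * algebraMap B _ (h ^ n) = algebraMap B _ b := fun x hx => by
        obtain ⟨n, b, hb⟩ := IsLocalization.Away.surj h x
        have hb0 : algebraMap B₀ (Localization.Away (q.hom h)) (q.hom b) = 0 := by
          rw [← hqh, ← hb]
          change qh (x * _) = 0
          rw [map_mul, hx, zero_mul]
        obtain ⟨⟨_, i, rfl⟩, hi⟩ := (IsLocalization.map_eq_zero_iff (Submonoid.powers (q.hom h)) _ _).1 hb0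
        refine ⟨n + i, h ^ i * b, ?_, ?_⟩
        · change q.hom (h ^ i * b) = 0
          rw [map_mul, map_pow]; exact hi
        · rw [pow_add, map_mul, map_mul, ← _root_.mul_assoc, map_pow, hb, map_pow, mul_comm]
      intro x y hx hy
      obtain ⟨n, b, hb, hxb⟩ := key x hx
      obtain ⟨m, c, hcq, hyc⟩ := key y hy
      have : x * y * (algebraMap B (Localization.Away h) (h ^ n * h ^ m)) = 0 := by
        rw [map_mul, _root_.mul_mul_mul_comm, hxb, hyc, ← map_mul, hq b c hb hcq, map_zero]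
      refine (IsUnit.mul_left_eq_zero ?_).1 this
      rw [← pow_add]
      simpa using (IsLocalization.Away.algebraMap_pow_isUnit (S := Localization.Away h) h (n + m))
    have := eq_of_formallyUnramified_ringHom (f.formallyUnramified_appLE hU hV hVU) qh hker φ₁.hom φ₂.hom
      (congrArg CommRingCat.Hom.hom hA) (fun b => congr($hC b))
    change ℓ ≫ g₁ = ℓ ≫ g₂
    rw [← hφ₁, ← hφ₂, CommRingCat.hom_ext this]
  choose h hmem heq using hloc
  let 𝒰 : (Spec B).OpenCover := (Spec B).openCoverOfIsOpenCover (fun p => PrimeSpectrum.basicOpen (h p))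
    (top_le_iff.1 fun p _ => TopologicalSpace.Opens.mem_iSup.2 ⟨p, hmem p⟩)
  refine 𝒰.hom_ext _ _ fun p => ?_
  haveI : IsOpenImmersion (Spec.map (CommRingCat.ofHom (algebraMap B (Localization.Away (h p))))) :=
    IsOpenImmersion.of_isLocalization (h p)
  let D : (Spec B).Opens := PrimeSpectrum.basicOpen (h p)
  change Scheme.Opens.ι D ≫ g₁ = Scheme.Opens.ι D ≫ g₂
  have hrange : Set.range (Scheme.Opens.ι D) ⊆
      Set.range (Spec.map (CommRingCat.ofHom (algebraMap B (Localization.Away (h p))))) := by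
    rw [Scheme.Opens.range_ι]
    exact (PrimeSpectrum.localization_away_comap_range (Localization.Away (h p)) (h p)).ge
  rw [← IsOpenImmersion.lift_fac _ _ hrange, Category.assoc, Category.assoc, heq]

end Groth.Agent.Mag88

namespace Groth.Agent.Mag88

variable {S : Scheme.{u}} {R R₀ : CommRingCat.{u}} (p : Spec R ⟶ S) (q : R ⟶ R₀)
  (N : Type) [AddCommMonoid N]

theorem mapRingHom_surjective (hqs : Function.Surjective q) :
    Function.Surjective (MonoidAlgebra.mapRingHom (Multiplicative N) q.hom) := by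
  intro y
  induction y using MonoidAlgebra.induction_linear with
  | zero => exact ⟨0, map_zero _⟩
  | add x y hx hy =>
    obtain ⟨a, rfl⟩ := hx
    obtain ⟨b, rfl⟩ := hy
    exact ⟨a + b, map_add _ _ _⟩
  | single m r =>
    obtain ⟨a, rfl⟩ := hqs r
    exact ⟨MonoidAlgebra.single m a, MonoidAlgebra.mapRingHom_single _ _ _⟩

theorem mul_eq_zero_of_mapRingHom (hq : ∀ x y, q x = 0 → q y = 0 → x * y = 0)
    (x y : MonoidAlgebra R (Multiplicative N)) (hx : MonoidAlgebra.mapRingHom (Multiplicative N) q.hom x = 0)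
    (hy : MonoidAlgebra.mapRingHom (Multiplicative N) q.hom y = 0) : x * y = 0 := by
  rw [MonoidAlgebra.mul_def]
  have hx' : ∀ m, q.hom (x.coeff m) = 0 := fun m => by
    rw [← MonoidAlgebra.coeff_mapRingHom, hx]; simp
  have hy' : ∀ m, q.hom (y.coeff m) = 0 := fun m => by
    rw [← MonoidAlgebra.coeff_mapRingHom, hy]; simp
  refine Finset.sum_eq_zero fun a _ => Finset.sum_eq_zero fun b _ => ?_
  simp [hq _ _ (hx' a) (hy' b)]

/-- Base change of the monoid spectrum along a ring map. -/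
noncomputable def mQbc : mQ (Spec.map q ≫ p) N ⟶ mQ p N :=
  Over.homMk (Spec.map (CommRingCat.ofHom (MonoidAlgebra.mapRingHom (Multiplicative N) q.hom))) (by
    change Spec.map _ ≫ Spec.map _ ≫ p = Spec.map _ ≫ Spec.map q ≫ p
    rw [← Category.assoc, ← Category.assoc, ← Spec.map_comp, ← Spec.map_comp]
    congr 2
    ext r
    simp)

theorem mQbc_mMap : mQbc p q N ≫ mMap p N =
    mMap (Spec.map q ≫ p) N ≫ (Magnet.AMonS S N ◁ (Over.homMk (Spec.map q) rfl : Over.mk (Spec.map q ≫ p) ⟶ Over.mk p)) := by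
  apply CartesianMonoidalCategory.hom_ext
  · refine aFn_ext fun m => ?_
    rw [Category.assoc, aFn_comp_mMap_fst, Category.assoc, whiskerLeft_fst,
      ← Category.id_comp (mMap (Spec.map q ≫ p) N), Category.assoc, aFn_comp_mMap_fst]
    change gFn (𝟙 (Spec (CommRingCat.of (MonoidAlgebra R₀ (Multiplicative N)))) ≫ Spec.map _) _ = _
    rw [gFn_specMap]
    simp
  · rw [Category.assoc, Category.assoc, mMap, mMap, lift_snd, whiskerLeft_snd, lift_snd_assoc]
    apply Over.OverMorphism.ext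
    change Spec.map _ ≫ Spec.map _ = Spec.map _ ≫ Spec.map q
    rw [← Spec.map_comp, ← Spec.map_comp]
    congr 1
    ext r
    simp

theorem attr_postcomp_unique {M : Type} [AddCommMonoid M] (N : AddSubmonoid M) {X Y : Over S}
    (aX : Magnet.MonAct (Magnet.AMonS S M) X) (aY : Magnet.MonAct (Magnet.AMonS S M) Y) (f : X ⟶ Y)
    (hf : Magnet.MonAct.IsEquivariant aX aY f) [FormallyUnramified f.left] (hqs : Function.Surjective q)
    (hq : ∀ x y, q x = 0 → q y = 0 → x * y = 0) (l₁ l₂ : (Magnet.attr aX N).obj (op (Over.mk p)))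
    (htop : (Magnet.attr aX N).map (Over.homMk (Spec.map q) rfl : Over.mk (Spec.map q ≫ p) ⟶ Over.mk p).op l₁ =
      (Magnet.attr aX N).map (Over.homMk (Spec.map q) rfl : Over.mk (Spec.map q ≫ p) ⟶ Over.mk p).op l₂)
    (hbot : l₁.1 ≫ f = l₂.1 ≫ f) : l₁ = l₂ := by
  apply Subtype.ext
  apply Over.OverMorphism.ext
  rw [← cancel_epi (mMap p ↥N).left]
  refine eq_of_unramified f.left (CommRingCat.ofHom (MonoidAlgebra.mapRingHom (Multiplicative ↥N) q.hom))
    (mapRingHom_surjective q ↥N hqs) (mul_eq_zero_of_mapRingHom q ↥N hq) _ _ ?_ ?_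
  · have e : ∀ φ : Magnet.AMonS S ↥N ⊗ Over.mk p ⟶ X, mQbc p q ↥N ≫ mMap p ↥N ≫ φ =
        mMap (Spec.map q ≫ p) ↥N ≫ (Magnet.AMonS S ↥N ◁ (Over.homMk (Spec.map q) rfl : Over.mk (Spec.map q ≫ p) ⟶ Over.mk p)) ≫ φ := fun φ => by
      rw [← Category.assoc, mQbc_mMap, Category.assoc]
    have h : (mQbc p q ↥N ≫ mMap p ↥N ≫ l₁.1) = (mQbc p q ↥N ≫ mMap p ↥N ≫ l₂.1) := by
      rw [e, e]
      exact congrArg (_ ≫ ·) (congrArg Subtype.val htop)
    exact congrArg Over.Hom.left h
  · have := congrArg (fun z => (mMap p ↥N ≫ z).left) hbot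
    simpa using this

end Groth.Agent.Mag88

namespace Groth.Agent.Mag88

theorem formallyUnramified_of_lifting {X Y : Scheme.{u}} (j : X ⟶ Y)
    (h : ∀ (R : CommRingCat.{u}) (I : Ideal R) (_ : I ^ 2 = ⊥) (g₁ g₂ : Spec R ⟶ X),
      Spec.map (CommRingCat.ofHom (Ideal.Quotient.mk I)) ≫ g₁ = Spec.map (CommRingCat.ofHom (Ideal.Quotient.mk I)) ≫ g₂ →
      g₁ ≫ j = g₂ ≫ j → g₁ = g₂) : FormallyUnramified j := by
  refine ⟨fun {U} hU {V} hV e => ?_⟩
  algebraize [(j.appLE U V e).hom]
  change Algebra.FormallyUnramified _ _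
  rw [Algebra.FormallyUnramified.iff_comp_injective]
  intro C _ _ I hI g₁ g₂ hg
  have key : ∀ g : Γ(X, V) →ₐ[Γ(Y, U)] C, (Spec.map (CommRingCat.ofHom g.toRingHom) ≫ hV.fromSpec) ≫ j =
      Spec.map (CommRingCat.ofHom (algebraMap Γ(Y, U) C)) ≫ hU.fromSpec := fun g => by
    rw [Category.assoc, ← hU.SpecMap_appLE_fromSpec j hV e, ← Category.assoc, ← Spec.map_comp]
    congr 2
    ext a
    exact g.commutes a
  have := h (CommRingCat.of C) I hI (Spec.map (CommRingCat.ofHom g₁.toRingHom) ≫ hV.fromSpec)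
    (Spec.map (CommRingCat.ofHom g₂.toRingHom) ≫ hV.fromSpec) (by
      rw [← Category.assoc, ← Category.assoc, ← Spec.map_comp, ← Spec.map_comp]
      congr 2
      ext a
      exact AlgHom.congr_fun hg a) ((key g₁).trans (key g₂).symm)
  rw [cancel_mono] at this
  exact AlgHom.ext fun a => congr($(Spec.map_injective this) a)

end Groth.Agent.Mag88
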