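import Groth.Agent.Mag88.Atlas
import Groth.Agent.Mag88.Retract
import Groth.Agent.Mag88.FaceSmooth
import Groth.Agent.Mag88.DXGlue
import Groth.Agent.Mag88.GradedSmooth

/-! The face projection to the unit face is locally a vector bundle. -/

universe u

set_option maxHeartbeats 1000000
set_option backward.isDefEq.respectTransparency false
set_option backward.isDefEq.respectTransparency.types false
set_option linter.style.haveILetI false
set_option linter.unusedVariables false
set_option linter.unusedSectionVars false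

open CategoryTheory CategoryTheory.Limits MonoidalCategory CartesianMonoidalCategory MonObj AlgebraicGeometry
open Opposite Magnet Magnet.MonAct

noncomputable section

namespace Groth.Agent.Mag88

theorem unit_eq_one {D : Type*} [Category D] [CartesianMonoidalCategory D] (A : D) [MonObj A] :
    η[A] = (1 : 𝟙_ D ⟶ A) := by
  rw [Hom.one_def, toUnit_unit, Category.id_comp]

variable {S : Scheme.{u}} {M : Type} [AddCommGroup M] [AddGroup.FG M]

theorem unitPt_eq_face {N Q : AddSubmonoid M} (hQ : IsFace N Q) (hu : unitFace N = Q) :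
    (unitPt N : 𝟙_ (Over S) ⟶ _) = η[AMonS S Q] ≫ AMonS.faceMap S hQ := by
  refine aFn_ext fun n => ?_
  rw [← Category.id_comp (unitPt N), aFn_comp_unitPt, aFn_comp_faceMap, hu]
  split_ifs with h
  · rw [unit_eq_one (AMonS S Q), aFn_one]
  · rfl

/-- Equivariant maps into stable opens are detected on the unit face. -/
theorem exists_lift_stable_open {X U : Over S} (a : MonAct (AMonS S M) X) (aU : MonAct (AMonS S M) U) (j : U ⟶ X)
    [IsOpenImmersion j.left] (hj : IsEquivariant aU a j) {N Q : AddSubmonoid M} (hQ : IsFace N Q) (hu : unitFace N = Q)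
    (T : Over S) (φ : (attr a N).obj (op T)) (z : T ⟶ U)
    (hz : (attrToX a Q).app (op T) ((attrFace a hQ).app (op T) φ) = z ≫ j) :
    ∃ φ' : (attr aU N).obj (op T), (eqvHom.postcomp (subAct S M N) j hj).app (op T) φ' = φ := by
  obtain ⟨φ', h, -⟩ := ((Types.isPullback_iff _ _ _ _).1 ((isPullback_evalAt_openImm (subAct S M N) (unitPt N)
    (fun T K _ eT W => stable_open_eq_top N T K eT W) j hj).app (op T))).2.2 φ z (by
      refine Eq.trans ?_ hz
      change lift (toUnit T ≫ unitPt N) (𝟙 T) ≫ φ.1 =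
        lift (toUnit T ≫ η[AMonS S Q]) (𝟙 T) ≫ (AMonS.faceMap S hQ ▷ T) ≫ φ.1
      rw [lift_whiskerRight_assoc, Category.assoc, ← unitPt_eq_face hQ hu])
  exact ⟨φ', h⟩

variable {U : Over S} (aU : MonAct (AMonS S M) U) {N Q : AddSubmonoid M} (hQ : IsFace N Q)

/-- The structure map of an affine scheme over an affine scheme over the base. -/
abbrev strHom {B C : CommRingCat.{u}} (p0 : Spec B ⟶ S) (str : B ⟶ C) : Over.mk (Spec.map str ≫ p0) ⟶ Over.mk p0 :=
  Over.homMk (Spec.map str) rfl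

/-- The fibre of the face projection over an affine scheme. -/
theorem exists_affine_fibre [IsAffineHom U.hom] [Smooth U.hom] {B : CommRingCat.{u}} (p0 : Spec B ⟶ S)
    (y0 : (attr aU Q).obj (op (Over.mk p0))) :
    ∃ (C : CommRingCat.{u}) (str : B ⟶ C) (φu : (attr aU N).obj (op (Over.mk (Spec.map str ≫ p0)))),
      Smooth (Spec.map str) ∧
      (attrFace aU hQ).app (op _) φu =
        (attr aU Q).map (strHom p0 str).op y0 ∧
      ∀ (T : Over S) (t : T ⟶ Over.mk p0) (φ : (attr aU N).obj (op T)),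
        (attrFace aU hQ).app (op T) φ = (attr aU Q).map t.op y0 →
        ∃! z : T ⟶ Over.mk (Spec.map str ≫ p0), z ≫ strHom p0 str = t ∧
          (attr aU N).map z.op φu = φ := by
  obtain ⟨VQ, iQ, eQ, hiQ, -⟩ := exists_representableBy_attr aU Q
  haveI := hiQ
  obtain ⟨VN, iN, eV, s, -, -, hs, hcomp⟩ := exists_affine_attr_map aU hQ (N := N) iQ eQ
  haveI := hs
  have hss := smooth_attrFace aU hQ eV eQ s hcomp
  let w0 : Over.mk p0 ⟶ VQ := eQ.homEquiv.symm y0
  let P := pullback s w0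
  have hl := (IsPullback.of_hasPullback s w0).map (Over.forget S)
  haveI : IsAffineHom (pullback.snd s w0).left :=
    MorphismProperty.of_isPullback (P := @IsAffineHom) hl hs
  haveI hsm : Smooth (pullback.snd s w0).left :=
    MorphismProperty.of_isPullback (P := @Smooth) hl hss
  haveI : IsAffine (Over.mk p0).left := inferInstanceAs (IsAffine (Spec B))
  haveI : IsAffine P.left := isAffine_of_isAffineHom (pullback.snd s w0).left
  let C : CommRingCat.{u} := Γ(P.left, ⊤)
  let str : B ⟶ C := Spec.preimage (P.left.isoSpec.inv ≫ (pullback.snd s w0).left)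
  have hstr : Spec.map str = P.left.isoSpec.inv ≫ (pullback.snd s w0).left := Spec.map_preimage _
  let P' : Over S := Over.mk (Spec.map str ≫ p0)
  let e : P' ≅ P := Over.isoMk P.left.isoSpec.symm (by
    change P.left.isoSpec.inv ≫ P.hom = Spec.map str ≫ p0
    rw [hstr, Category.assoc]
    exact congrArg (_ ≫ ·) (Over.w (pullback.snd s w0)).symm)
  have he : e.hom ≫ pullback.snd s w0 = strHom p0 str := Over.OverMorphism.ext hstr.symm
  refine ⟨C, str, eV.homEquiv (e.hom ≫ pullback.fst s w0), ?_, ?_, fun T t φ hφ => ?_⟩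
  · rw [hstr]; infer_instance
  · rw [← hcomp, Category.assoc, pullback.condition, ← Category.assoc, he, eQ.homEquiv_comp, Equiv.apply_symm_apply]
  · have hw : eV.homEquiv.symm φ ≫ s = t ≫ w0 := eQ.homEquiv.injective (by
      rw [hcomp, Equiv.apply_symm_apply, eQ.homEquiv_comp, Equiv.apply_symm_apply, hφ])
    refine ⟨pullback.lift (eV.homEquiv.symm φ) t hw ≫ e.inv, ⟨?_, ?_⟩, fun z hz => ?_⟩
    · rw [← he, Category.assoc, Iso.inv_hom_id_assoc, pullback.lift_snd]
    · rw [← eV.homEquiv_comp, Category.assoc, Iso.inv_hom_id_assoc, pullback.lift_fst, Equiv.apply_symm_apply]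
    · rw [← cancel_mono e.hom, Category.assoc, Iso.inv_hom_id, Category.comp_id]
      apply pullback.hom_ext
      · rw [pullback.lift_fst, ← hz.2, ← eV.homEquiv_comp, Equiv.symm_apply_apply, Category.assoc]
      · rw [pullback.lift_snd, Category.assoc, he, hz.1]

/-- An equivariant family on an affine scheme comes from a finitely generated magnet containing a given fg face. -/
theorem exists_fg_magnet_lift [LocallyOfFinitePresentation U.hom] (hQfg : Q.FG) (hle : Q ≤ N) (T : Over S) [IsAffine T.left]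
    (φ : (attr aU N).obj (op T)) :
    ∃ (L : AddSubmonoid M) (hQL : Q ≤ L) (hLN : L ≤ N) (ψ : (attr aU L).obj (op T)), L.FG ∧
      (attrMap aU hLN).app (op T) ψ = φ := by
  let J := {P : AddSubmonoid M // P.FG ∧ Q ≤ P ∧ P ≤ N}
  haveI : Nonempty J := ⟨⟨Q, hQfg, le_rfl, hle⟩⟩
  haveI : IsDirected J (· ≤ ·) :=
    ⟨fun a b => ⟨⟨a.1 ⊔ b.1, a.2.1.sup b.2.1, a.2.2.1.trans le_sup_left, sup_le a.2.2.2 b.2.2.2⟩,
      (le_sup_left : a.1 ≤ a.1 ⊔ b.1), (le_sup_right : b.1 ≤ a.1 ⊔ b.1)⟩⟩
  have hN : N = ⨆ j : J, j.1 := le_antisymm (fun m hm => by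
    have h1 : AddSubmonoid.closure {m} ≤ N := (AddSubmonoid.closure_le).2 (by simpa using hm)
    exact le_iSup (fun j : J => j.1) ⟨Q ⊔ AddSubmonoid.closure {m}, hQfg.sup ⟨{m}, by simp⟩, le_sup_left, sup_le hle h1⟩
      (AddSubmonoid.mem_sup_right (AddSubmonoid.subset_closure rfl))) (iSup_le fun j => j.2.2.2)
  suffices key : ∀ N' : AddSubmonoid M, N' = (⨆ j : J, j.1) → ∀ φ' : (attr aU N').obj (op T),
      ∃ (L : AddSubmonoid M) (hQL : Q ≤ L) (hLN : L ≤ N') (ψ : (attr aU L).obj (op T)), L.FG ∧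
        (attrMap aU hLN).app (op T) ψ = φ' from key N hN φ
  rintro _ rfl φ
  obtain ⟨j, ψ, hψ⟩ := exists_attrMap_app_eq (fun j : J => j.1) (fun a b h => h) aU T φ
  exact ⟨j.1, j.2.2.1, le_iSup (fun j : J => j.1) j, ψ, j.2.1, hψ⟩

/-- The morphism given by a point of an affine scheme over an affine scheme. -/
abbrev ptHomB {B C R : CommRingCat.{u}} (p0 : Spec B ⟶ S) (str : B ⟶ C) {g0 : B ⟶ R} (g : C ⟶ R) (h : str ≫ g = g0) :
    Over.mk (Spec.map g0 ≫ p0) ⟶ Over.mk (Spec.map str ≫ p0) :=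
  Over.homMk (Spec.map g) (by rw [← h, Spec.map_comp, Category.assoc]; rfl)

theorem ptHomB_comp {B C R R' : CommRingCat.{u}} (p0 : Spec B ⟶ S) (str : B ⟶ C) {g0 : B ⟶ R} {g0' : B ⟶ R'}
    (g : C ⟶ R) (h : str ≫ g = g0) (k : R ⟶ R') (hk : g0 ≫ k = g0') :
    ptHomB p0 g0 k hk ≫ ptHomB p0 str g h = ptHomB p0 str (g ≫ k) (by rw [← hk, ← h, Category.assoc]) :=
  Over.OverMorphism.ext (Spec.map_comp _ _).symm

theorem ptHomB_str {B C R : CommRingCat.{u}} (p0 : Spec B ⟶ S) (str : B ⟶ C) {g0 : B ⟶ R}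
    (g : C ⟶ R) (h : str ≫ g = g0) : ptHomB p0 str g h ≫ strHom p0 str = strHom p0 g0 :=
  Over.OverMorphism.ext ((Spec.map_comp _ _).symm.trans (congrArg Spec.map h))

theorem attrMap_refl {A : AddSubmonoid M} (T : Over S) (φ : (attr aU A).obj (op T)) :
    (attrMap aU (le_refl A)).app (op T) φ = φ := by
  apply Subtype.ext
  change (AMonS.map S (AddSubmonoid.inclusion (le_refl A)) ▷ T) ≫ φ.1 = φ.1
  have : AMonS.map S (AddSubmonoid.inclusion (le_refl A)) = 𝟙 _ := aFn_ext fun m => by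
    rw [← Category.id_comp (AMonS.map S (AddSubmonoid.inclusion (le_refl A))), aFn_map]; rfl
  rw [this, id_whiskerRight, Category.id_comp]

theorem attrFace_attrMap_self {L : AddSubmonoid M} (hF : IsFace L Q) (hLN : L ≤ N) (T : Over S)
    (φ : (attr aU L).obj (op T)) :
    (attrFace aU hQ).app (op T) ((attrMap aU hLN).app (op T) φ) = (attrFace aU hF).app (op T) φ :=
  (attrFace_attrMap aU hF hQ hLN le_rfl (fun m _ hm => hm) T φ).trans (attrMap_refl aU T _)

/-- The grading of the fibre of the face projection. -/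
theorem exists_grading [IsAffineHom U.hom] [LocallyOfFinitePresentation U.hom] (hQfg : Q.FG)
    {B C : CommRingCat.{u}} (p0 : Spec B ⟶ S) (str : B ⟶ C) (y0 : (attr aU Q).obj (op (Over.mk p0)))
    (φu : (attr aU N).obj (op (Over.mk (Spec.map str ≫ p0))))
    (hface : (attrFace aU hQ).app (op _) φu = (attr aU Q).map (strHom p0 str).op y0)
    (huniv : ∀ (T : Over S) (t : T ⟶ Over.mk p0) (φ : (attr aU N).obj (op T)),
      (attrFace aU hQ).app (op T) φ = (attr aU Q).map t.op y0 →
      ∃! z : T ⟶ Over.mk (Spec.map str ≫ p0), z ≫ strHom p0 str = t ∧ (attr aU N).map z.op φu = φ) :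
    ∃ (ρ : C →+* Polynomial C) (ε : C →+* B), (∀ b, ρ (str b) = Polynomial.C (str b)) ∧ (∀ b, ε (str b) = b) ∧
      (∀ c, (ρ c).eval 1 = c) ∧ (∀ c, (ρ c).eval 0 = str (ε c)) ∧
      ∀ c k, ρ ((ρ c).coeff k) = Polynomial.monomial k ((ρ c).coeff k) := by
  haveI : IsAffine (Over.mk (Spec.map str ≫ p0)).left := inferInstanceAs (IsAffine (Spec C))
  obtain ⟨L, hQL, hLN, ψ, hLfg, hψ⟩ := exists_fg_magnet_lift aU hQfg hQ.le _ φu
  have hF : IsFace L Q := ⟨hQL, fun x hx y hy hxy => hQ.mem_of_add_mem x (hLN hx) y (hLN hy) hxy⟩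
  obtain ⟨δ, hδn, hδ0, hδ1, -, hδr, hδc⟩ := exists_deformation' aU hLfg hF
  have hfaceL : (attrFace aU hF).app (op _) ψ = (attr aU Q).map (strHom p0 str).op y0 :=
    (attrFace_attrMap_self aU hQ hF hLN _ ψ).symm.trans ((congrArg ((attrFace aU hQ).app (op _)) hψ).trans hface)
  have hN : ∀ {R : CommRingCat.{u}} (g0 : B ⟶ R) (g : C ⟶ R) (h : str ≫ g = g0),
      (attr aU N).map (ptHomB p0 str g h).op φu = (attrMap aU hLN).app (op _) ((attr aU L).map (ptHomB p0 str g h).op ψ) :=
    fun g0 g h => (congrArg ((attr aU N).map (ptHomB p0 str g h).op) hψ.symm).trans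
      (nat_app (attrMap aU hLN) (ptHomB p0 str g h) ψ).symm
  have huniq : ∀ {R : CommRingCat.{u}} (g0 : B ⟶ R) (g g' : C ⟶ R) (h : str ≫ g = g0) (h' : str ≫ g' = g0),
      (attr aU L).map (ptHomB p0 str g h).op ψ = (attr aU L).map (ptHomB p0 str g' h').op ψ → g = g' := by
    intro R g0 g g' h h' he
    obtain ⟨z, -, hz⟩ := huniv _ (strHom p0 g0) ((attr aU N).map (ptHomB p0 str g h).op φu) (by
      exact (nat_app (attrFace aU hQ) (ptHomB p0 str g h) φu).trans
        ((congrArg ((attr aU Q).map (ptHomB p0 str g h).op) hface).trans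
          (map_map_op (attr aU Q) _ _ (strHom p0 g0) (ptHomB_str p0 str g h) y0)))
    have h1 := hz _ ⟨ptHomB_str p0 str g h, rfl⟩
    have h2 := hz (ptHomB p0 str g' h') ⟨ptHomB_str p0 str g' h', by rw [hN, hN, he]⟩
    exact Spec.map_injective (congrArg CommaMorphism.left (h1.trans h2.symm))
  let cR : ∀ {R : CommRingCat.{u}} (g0 : B ⟶ R), R → Γ((Over.mk (Spec.map g0 ≫ p0)).left, ⊤) :=
    fun {R} g0 r => (Scheme.ΓSpecIso R).inv r
  let Rel : ∀ {R : CommRingCat.{u}} (g0 : B ⟶ R) (g g' : C ⟶ R) (h : str ≫ g = g0) (h' : str ≫ g' = g0) (c : R),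
      Prop := fun {R} g0 g g' h h' c =>
    (attr aU L).map (ptHomB p0 str g' h').op ψ = δ _ ((attr aU L).map (ptHomB p0 str g h).op ψ) (cR g0 c)
  have hexists : ∀ {R : CommRingCat.{u}} (g0 : B ⟶ R) (g : C ⟶ R) (h : str ≫ g = g0) (c : R),
      ∃ (g' : C ⟶ R) (h' : str ≫ g' = g0), Rel g0 g g' h h' c := by
    intro R g0 g h c
    obtain ⟨z, ⟨hz1, hz2⟩, -⟩ := huniv _ (strHom p0 g0)
      ((attrMap aU hLN).app (op _) (δ _ ((attr aU L).map (ptHomB p0 str g h).op ψ) (cR g0 c))) (by
        exact (attrFace_attrMap_self aU hQ hF hLN _ _).trans ((hδr _ _ _).trans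
          ((nat_app (attrFace aU hF) (ptHomB p0 str g h) ψ).trans
            ((congrArg ((attr aU Q).map (ptHomB p0 str g h).op) hfaceL).trans
              (map_map_op (attr aU Q) _ _ (strHom p0 g0) (ptHomB_str p0 str g h) y0)))))
    obtain ⟨g', hg'⟩ : ∃ g', Spec.map g' = z.left := ⟨_, Spec.map_preimage _⟩
    have h' : str ≫ g' = g0 := Spec.map_injective (by
      rw [Spec.map_comp, hg']; exact congrArg CommaMorphism.left hz1)
    refine ⟨g', h', attrMap_injective U aU hLN _ ?_⟩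
    change (attrMap aU hLN).app (op _) _ = (attrMap aU hLN).app (op _) _
    rw [← hN, show ptHomB p0 str g' h' = z from Over.OverMorphism.ext hg']
    exact hz2
  have hnat : ∀ {R R' : CommRingCat.{u}} (g0 : B ⟶ R) (g0' : B ⟶ R') (g g' : C ⟶ R) (h : str ≫ g = g0)
      (h' : str ≫ g' = g0) (c : R) (k : R ⟶ R') (hk : g0 ≫ k = g0'), Rel g0 g g' h h' c →
      Rel g0' (g ≫ k) (g' ≫ k) (by rw [← hk, ← h, Category.assoc]) (by rw [← hk, ← h', Category.assoc]) (k c) := by
    intro R R' g0 g0' g g' h h' c k hk hr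
    change _ = δ _ _ _
    rw [← map_map_op (attr aU L) _ _ _ (ptHomB_comp p0 str g' h' k hk),
      ← map_map_op (attr aU L) _ _ _ (ptHomB_comp p0 str g h k hk), hr, ← hδn]
    congr 1
    exact (congr($(Scheme.ΓSpecIso_inv_naturality k) c)).symm
  have htrans : ∀ {R : CommRingCat.{u}} (g0 : B ⟶ R) (g g' g'' : C ⟶ R) (h : str ≫ g = g0) (h' : str ≫ g' = g0)
      (h'' : str ≫ g'' = g0) (c d : R), Rel g0 g g' h h' c → Rel g0 g' g'' h' h'' d → Rel g0 g g'' h h'' (c * d) := by
    intro R g0 g g' g'' h h' h'' c d h₁ h₂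
    change _ = δ _ _ _
    rw [h₂, h₁, hδc]
    exact congrArg (δ _ _) (map_mul _ c d).symm
  have hfun : ∀ {R : CommRingCat.{u}} (g0 : B ⟶ R) (g g₁ g₂ : C ⟶ R) (h : str ≫ g = g0) (h₁ : str ≫ g₁ = g0)
      (h₂ : str ≫ g₂ = g0) (c : R), Rel g0 g g₁ h h₁ c → Rel g0 g g₂ h h₂ c → g₁ = g₂ :=
    fun g0 g g₁ g₂ h h₁ h₂ c hr₁ hr₂ => huniq g0 g₁ g₂ h₁ h₂ (hr₁.trans hr₂.symm)
  -- the section
  obtain ⟨z, ⟨hz1, hz2⟩, -⟩ := huniv _ (𝟙 (Over.mk p0)) ((attrMap aU hQ.le).app (op _) y0) (by
    rw [map_id_op (attr aU Q)]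
    exact congr($(NatTrans.congr_app (attrMap_comp_attrFace aU hQ) (op _)) y0))
  obtain ⟨εh, hεh⟩ : ∃ g, Spec.map g = z.left := ⟨_, Spec.map_preimage _⟩
  have hεs : str ≫ εh = 𝟙 B := Spec.map_injective (by
    rw [Spec.map_comp, hεh, Spec.map_id]; exact congrArg CommaMorphism.left hz1)
  have hzero : ∀ {R : CommRingCat.{u}} (g0 : B ⟶ R) (g : C ⟶ R) (h : str ≫ g = g0),
      Rel g0 g (εh ≫ g0) h (by rw [← Category.assoc, hεs, Category.id_comp]) 0 := by
    intro R g0 g h
    change _ = δ _ _ _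
    rw [show cR g0 (0 : R) = 0 from map_zero _, hδ0, nat_app (attrFace aU hF), hfaceL,
      map_map_op (attr aU Q) _ _ (strHom p0 g0) (ptHomB_str p0 str g h)]
    refine attrMap_injective U aU hLN _ ?_
    change (attrMap aU hLN).app (op _) _ = (attrMap aU hLN).app (op _) _
    rw [← hN, attrMap_attrMap, ← map_map_op (attr aU N) (strHom p0 g0) z _ ?_, hz2, nat_app (attrMap aU _)]
    apply Over.OverMorphism.ext
    change Spec.map g0 ≫ z.left = Spec.map (εh ≫ g0)
    rw [← hεh, Spec.map_comp]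
  -- the coaction
  let C1 : CommRingCat.{u} := CommRingCat.of (Polynomial C)
  let C2 : CommRingCat.{u} := CommRingCat.of (Polynomial (Polynomial C))
  let i1 : C ⟶ C1 := CommRingCat.ofHom Polynomial.C
  let i2 : C1 ⟶ C2 := CommRingCat.ofHom Polynomial.C
  obtain ⟨ρ, hρ₀, hρ⟩ := hexists (str ≫ i1) i1 rfl (Polynomial.X : Polynomial C)
  have hev : ∀ r : C, i1 ≫ (CommRingCat.ofHom (Polynomial.evalRingHom r) : C1 ⟶ C) = 𝟙 C := fun r =>
    CommRingCat.hom_ext (RingHom.ext fun x => (Polynomial.eval_C : Polynomial.eval r (Polynomial.C x) = x))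
  refine ⟨ρ.hom, εh.hom, fun b => congr($hρ₀ b), fun b => congr($hεs b), fun c => ?_, fun c => ?_, fun c k => ?_⟩
  · have h1 := hnat _ str i1 ρ rfl hρ₀ Polynomial.X (CommRingCat.ofHom (Polynomial.evalRingHom (1 : C)))
      (by rw [Category.assoc, hev, Category.comp_id]) hρ
    have key : ρ ≫ CommRingCat.ofHom (Polynomial.evalRingHom (1 : C)) = 𝟙 C := by
      refine hfun str (𝟙 C) _ (𝟙 C) (Category.comp_id _) (by rw [← Category.assoc, hρ₀, Category.assoc, hev, Category.comp_id])
        (Category.comp_id _) 1 ?_ ?_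
      · have h2 : Polynomial.eval (1 : C) (Polynomial.X : Polynomial C) = 1 := Polynomial.eval_X
        change Rel str (i1 ≫ _) _ _ _ (Polynomial.eval (1 : C) (Polynomial.X : Polynomial C)) at h1
        simp only [hev, h2] at h1
        exact h1
      · change _ = δ _ _ _
        rw [show cR str (1 : C) = 1 from map_one _, hδ1]
    exact congr($key c)
  · have h1 := hnat _ str i1 ρ rfl hρ₀ Polynomial.X (CommRingCat.ofHom (Polynomial.evalRingHom (0 : C)))
      (by rw [Category.assoc, hev, Category.comp_id]) hρ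
    have key : ρ ≫ CommRingCat.ofHom (Polynomial.evalRingHom (0 : C)) = εh ≫ str := by
      refine hfun str (𝟙 C) _ _ (Category.comp_id _) (by rw [← Category.assoc, hρ₀, Category.assoc, hev, Category.comp_id])
        (by rw [← Category.assoc, hεs, Category.id_comp]) 0 ?_ (hzero str (𝟙 C) (Category.comp_id _))
      have h2 : Polynomial.eval (0 : C) (Polynomial.X : Polynomial C) = 0 := Polynomial.eval_X
      change Rel str (i1 ≫ _) _ _ _ (Polynomial.eval (0 : C) (Polynomial.X : Polynomial C)) at h1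
      simp only [hev, h2] at h1
      exact h1
    exact congr($key c)
  · let kY : C1 ⟶ C2 := CommRingCat.ofHom (Polynomial.mapRingHom ρ.hom)
    let kM : C1 ⟶ C2 := CommRingCat.ofHom
      (Polynomial.eval₂RingHom (Polynomial.C.comp Polynomial.C) (Polynomial.C Polynomial.X * Polynomial.X))
    have hY : i1 ≫ kY = ρ ≫ i2 := CommRingCat.hom_ext (RingHom.ext fun x => Polynomial.map_C _)
    have hM : i1 ≫ kM = i1 ≫ i2 := CommRingCat.hom_ext (RingHom.ext fun x => Polynomial.eval₂_C _ _)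
    let g0 : B ⟶ C2 := str ≫ i1 ≫ i2
    have hXd : str ≫ (i1 ≫ kY) = g0 := by rw [hY, ← Category.assoc, hρ₀, Category.assoc]
    have s1 := hnat _ g0 i1 ρ rfl hρ₀ Polynomial.X i2 (Category.assoc _ _ _) hρ
    have s2 := hnat _ g0 i1 ρ rfl hρ₀ Polynomial.X kY (by rw [Category.assoc]; exact hXd) hρ
    simp only [hY] at s2
    have s3 := htrans g0 _ _ _ _ _ _ _ _ s1 s2
    have s4 := hnat _ g0 i1 ρ rfl hρ₀ Polynomial.X kM (by rw [Category.assoc, hM]) hρ
    simp only [hM] at s4
    have hc : (i2 (Polynomial.X : Polynomial C) : C2) * kY (Polynomial.X : Polynomial C) = kM (Polynomial.X : Polynomial C) := by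
      change (Polynomial.C Polynomial.X : Polynomial (Polynomial C)) * (Polynomial.X : Polynomial C).map ρ.hom =
        Polynomial.eval₂ _ _ (Polynomial.X : Polynomial C)
      rw [Polynomial.map_X, Polynomial.eval₂_X]
    rw [hc] at s3
    have key : ρ ≫ kY = ρ ≫ kM := hfun g0 _ _ _ _ _ _ _ s3 s4
    have h5 : (ρ c : Polynomial C).map ρ.hom =
        Polynomial.eval₂ (Polynomial.C.comp Polynomial.C) (Polynomial.C Polynomial.X * Polynomial.X) (ρ c : Polynomial C) :=
      congr($key c)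
    have h6 := congrArg (fun t => Polynomial.coeff t k) h5
    simp only [Polynomial.coeff_map] at h6
    refine h6.trans ?_
    classical
    rw [Polynomial.eval₂_eq_sum, Polynomial.sum, Polynomial.finsetSum_coeff]
    simp only [RingHom.comp_apply, mul_pow, ← _root_.mul_assoc, ← map_pow, ← map_mul]
    have hterm : ∀ (x : Polynomial C) (j : ℕ),
        (Polynomial.C x * (Polynomial.X : Polynomial (Polynomial C)) ^ j).coeff k = if k = j then x else 0 := fun x j =>
      Polynomial.coeff_C_mul_X_pow x j k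
    rw [Finset.sum_eq_single k (fun j _ hj => (hterm _ j).trans (if_neg (Ne.symm hj))) (fun hk => by
      refine (hterm _ k).trans ?_; rw [if_pos rfl, Polynomial.notMem_support_iff.1 hk, map_zero]; exact zero_mul _)]
    exact ((hterm _ k).trans (if_pos rfl)).trans Polynomial.C_mul_X_pow_eq_monomial

end Groth.Agent.Mag88
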