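import Groth.Agent.Mag88.VBundle

/-! The face projection to the unit face is locally a vector bundle: the local statement. -/

universe u

set_option maxHeartbeats 1000000
set_option backward.isDefEq.respectTransparency false
set_option backward.isDefEq.respectTransparency.types false
set_option linter.style.haveILetI false
set_option linter.unusedVariables false
set_option linter.unusedSectionVars false

open CategoryTheory CategoryTheory.Limits MonoidalCategory CartesianMonoidalCategory MonObj AlgebraicGeometry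
open Opposite Magnet Magnet.MonAct

noncomputable section

namespace Groth.Agent.Mag88

variable {S : Scheme.{u}} {M : Type} [AddCommGroup M] [AddGroup.FG M]

/-- The subgroup of units of a submonoid. -/
def unitSubgroup' (N : AddSubmonoid M) : AddSubgroup M :=
  { __ := unitFace N
    neg_mem' := fun {x} hx => by
      obtain ⟨hxN, y, hy, hxy⟩ := hx
      rw [show -x = y from neg_eq_of_add_eq_zero_right hxy]
      exact ⟨hy, x, hxN, by rw [add_comm]; exact hxy⟩ }

theorem unitFace_fg (N : AddSubmonoid M) : (unitFace N).FG := by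
  haveI : IsNoetherian ℤ M :=
    haveI : Module.Finite ℤ M := Module.Finite.iff_addGroup_fg.2 inferInstance
    isNoetherian_of_isNoetherianRing_of_finite ℤ M
  have hfg : (unitSubgroup' N).FG :=
    (Submodule.fg_iff_addSubgroup_fg _).1 (IsNoetherian.noetherian (unitSubgroup' N).toIntSubmodule)
  exact (AddSubgroup.fg_iff_addSubmonoid_fg _).1 hfg

theorem unitFace_idem (N : AddSubmonoid M) : unitFace (unitFace N) = unitFace N := by
  refine le_antisymm (unitFace_le _) fun x hx => ⟨hx, ?_⟩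
  obtain ⟨hxN, y, hy, hxy⟩ := hx
  exact ⟨y, ⟨hy, x, hxN, by rw [add_comm]; exact hxy⟩, hxy⟩

theorem postcomp_attrFace {X U : Over S} (aX : MonAct (AMonS S M) X) (aU : MonAct (AMonS S M) U) (f : U ⟶ X)
    (hf : IsEquivariant aU aX f) {N Q : AddSubmonoid M} (hQ : IsFace N Q) (T : Over S) (φ : (attr aU N).obj (op T)) :
    (attrFace aX hQ).app (op T) ((eqvHom.postcomp (subAct S M N) f hf).app (op T) φ) =
      (eqvHom.postcomp (subAct S M Q) f hf).app (op T) ((attrFace aU hQ).app (op T) φ) :=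
  Subtype.ext (Category.assoc _ _ _).symm

theorem exists_vectorBundle_chart {X : Over S} [Smooth X.hom] (a : MonAct (AMonS S M) X) (V : X.left.Opens)
    [IsAffineHom (V.ι ≫ X.hom)] (hV : (snd (AMonS S M) X).left ⁻¹ᵁ V ≤ a.act.left ⁻¹ᵁ V)
    {N Q : AddSubmonoid M} (hQ : IsFace N Q) (hu : unitFace N = Q) (huQ : unitFace Q = Q) (hQfg : Q.FG)
    {ZN Z0 : Over S} (eN : (attr a N).RepresentableBy ZN) (e0 : (attr a Q).RepresentableBy Z0) (j : ZN ⟶ Z0)
    (hj : ∀ (T : Over S) (z : T ⟶ ZN), e0.homEquiv (z ≫ j) = (attrFace a hQ).app (op T) (eN.homEquiv z))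
    (W : Z0.left.Opens) (hW : IsAffineOpen W)
    (hWV : ∀ x ∈ W, ((attrToX a Q).app (op Z0) (e0.homEquiv (𝟙 Z0))).left x ∈ V) :
    ∃ (P : Type u) (_ : AddCommGroup P) (_ : Module Γ(Z0.left, W) P),
      Module.Finite Γ(Z0.left, W) P ∧ Module.Projective Γ(Z0.left, W) P ∧
      ∃ e : (↑(j.left ⁻¹ᵁ W) : Scheme.{u}) ≅ Spec (CommRingCat.of (SymmetricAlgebra Γ(Z0.left, W) P)),
        e.hom ≫ Spec.map (CommRingCat.ofHom (algebraMap Γ(Z0.left, W) (SymmetricAlgebra Γ(Z0.left, W) P))) =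
          (j.left ∣_ W) ≫ hW.isoSpec.hom := by
  obtain ⟨aV, hjV⟩ := exists_restrict_open a V hV
  let V' : Over S := Over.mk (V.ι ≫ X.hom)
  let jV : V' ⟶ X := Over.homMk V.ι rfl
  haveI : IsOpenImmersion jV.left := inferInstanceAs (IsOpenImmersion V.ι)
  haveI : IsAffineHom V'.hom := inferInstanceAs (IsAffineHom (V.ι ≫ X.hom))
  haveI : Smooth V'.hom := inferInstanceAs (Smooth (V.ι ≫ X.hom))
  haveI : Mono ((Over.forget S).map jV) := inferInstanceAs (Mono V.ι)
  haveI : Mono jV := (Over.forget S).mono_of_mono_map this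
  have hpinj : ∀ (P : AddSubmonoid M) (T : Over S), Function.Injective ((eqvHom.postcomp (subAct S M P) jV hjV).app (op T)) :=
    fun P T φ φ' h => Subtype.ext ((cancel_mono jV).1 (congrArg Subtype.val h))
  let B : CommRingCat.{u} := Γ(Z0.left, W)
  let p0 : Spec B ⟶ S := hW.fromSpec ≫ Z0.hom
  let w : Over.mk p0 ⟶ Z0 := Over.homMk hW.fromSpec rfl
  let c0 : Z0 ⟶ X := (attrToX a Q).app (op Z0) (e0.homEquiv (𝟙 Z0))
  let y := e0.homEquiv w
  have hy : (attrToX a Q).app (op (Over.mk p0)) y = w ≫ c0 :=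
    (congrArg ((attrToX a Q).app (op (Over.mk p0))) (e0.homEquiv_eq w)).trans
      (nat_app (attrToX a Q) w (e0.homEquiv (𝟙 Z0)))
  have hrange : Set.range (w ≫ c0).left ⊆ Set.range jV.left := by
    rintro _ ⟨x, rfl⟩
    refine (Scheme.Opens.range_ι V).ge (hWV _ ?_)
    exact hW.range_fromSpec.le ⟨x, rfl⟩
  let zV : Over.mk p0 ⟶ V' := Over.homMk (IsOpenImmersion.lift jV.left (w ≫ c0).left hrange) (by
    rw [← Over.w jV, IsOpenImmersion.lift_fac_assoc]
    exact Over.w (w ≫ c0))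
  have hzV : zV ≫ jV = w ≫ c0 := Over.OverMorphism.ext (IsOpenImmersion.lift_fac _ _ hrange)
  have hQQ : IsFace Q Q := ⟨le_rfl, fun x hx y hy _ => ⟨hx, hy⟩⟩
  have hself : ∀ (T : Over S) (φ : (attr a Q).obj (op T)), (attrFace a hQQ).app (op T) φ = φ := fun T φ => by
    have h1 := congr($(NatTrans.congr_app (attrMap_comp_attrFace a hQQ) (op T)) φ)
    change (attrFace a hQQ).app (op T) ((attrMap a hQQ.le).app (op T) φ) = φ at h1
    rwa [show (attrMap a hQQ.le).app (op T) φ = φ from attrMap_refl a T φ] at h1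
  obtain ⟨y', hy'⟩ := exists_lift_stable_open a aV jV hjV hQQ huQ (Over.mk p0) y zV (by rw [hself, hy, hzV])
  obtain ⟨C, str, φu, hsm, hφu, huniv⟩ := exists_affine_fibre aV hQ p0 y'
  obtain ⟨ρ, ε, hρs, hεs, h1, h0, hco⟩ := exists_grading aV hQ hQfg p0 str y' φu hφu huniv
  letI : Algebra B C := str.hom.toAlgebra
  have hsm' : RingHom.Smooth str.hom := (HasRingHomProperty.Spec_iff (P := @Smooth)).1 hsm
  haveI : Algebra.Smooth B C := hsm'
  obtain ⟨P, iP, mP, hPfin, hPproj, ⟨ψ⟩⟩ := exists_symmetricAlgebra_equiv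
    ({ ρ with commutes' := hρs } : C →ₐ[B] Polynomial C) ({ ε with commutes' := hεs } : C →ₐ[B] B) h1 h0 hco
  -- the geometric comparison
  let q : Over.mk (Spec.map str ≫ p0) ⟶ ZN :=
    eN.homEquiv.symm ((eqvHom.postcomp (subAct S M N) jV hjV).app (op _) φu)
  have hqj : q ≫ j = strHom p0 str ≫ w := e0.homEquiv.injective (by
    rw [hj, Equiv.apply_symm_apply, postcomp_attrFace, hφu, nat_app (eqvHom.postcomp (subAct S M Q) jV hjV), hy',
      e0.homEquiv_comp])
  have hpb : IsPullback q (strHom p0 str) j w := by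
    have hex : ∀ s : PullbackCone j w, ∃ z : s.pt ⟶ Over.mk (Spec.map str ≫ p0), z ≫ q = s.fst ∧
        z ≫ strHom p0 str = s.snd := fun s => by
      let φ := eN.homEquiv s.fst
      have hφ : (attrFace a hQ).app (op s.pt) φ = (attr a Q).map s.snd.op y := by
        rw [← hj, s.condition, e0.homEquiv_comp]
      obtain ⟨φ', hφ'⟩ := exists_lift_stable_open a aV jV hjV hQ hu s.pt φ (s.snd ≫ zV) (by
        rw [hφ, nat_app (attrToX a Q), hy, Category.assoc, hzV]
        rfl)
      obtain ⟨z, ⟨hz1, hz2⟩, -⟩ := huniv s.pt s.snd φ' (hpinj Q s.pt (by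
        rw [← postcomp_attrFace, hφ', hφ, nat_app (eqvHom.postcomp (subAct S M Q) jV hjV), hy']))
      refine ⟨z, eN.homEquiv.injective ?_, hz1⟩
      rw [eN.homEquiv_comp, Equiv.apply_symm_apply, ← nat_app (eqvHom.postcomp (subAct S M N) jV hjV), hz2, hφ']
    choose z hzq hzs using hex
    refine ⟨⟨hqj⟩, ⟨PullbackCone.IsLimit.mk _ z hzq hzs fun s m hm1 hm2 => ?_⟩⟩
    obtain ⟨z₀, -, hu₀⟩ := huniv s.pt s.snd ((attr aV N).map m.op φu) (by
      rw [nat_app (attrFace aV hQ), hφu, map_map_op (attr aV Q) m (strHom p0 str) s.snd hm2])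
    refine (hu₀ m ⟨hm2, rfl⟩).trans (hu₀ (z s) ⟨hzs s, hpinj N _ ?_⟩).symm
    rw [nat_app (eqvHom.postcomp (subAct S M N) jV hjV), nat_app (eqvHom.postcomp (subAct S M N) jV hjV)]
    have h : (eN.homEquiv (z s ≫ q)) = eN.homEquiv (m ≫ q) := by rw [hzq, hm1]
    rwa [eN.homEquiv_comp, eN.homEquiv_comp, Equiv.apply_symm_apply] at h
  have sqP : IsPullback q.left (Spec.map str) j.left hW.fromSpec := hpb.map (Over.forget S)
  have sqW : IsPullback (j.left ⁻¹ᵁ W).ι ((j.left ∣_ W) ≫ hW.isoSpec.hom) j.left hW.fromSpec :=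
    (isPullback_morphismRestrict j.left W).flip.of_iso (Iso.refl _) (Iso.refl _) hW.isoSpec (Iso.refl _)
      (by simp) (by simp) (by simp) (by simp [← IsAffineOpen.isoSpec_inv_ι])
  let e1 := sqW.isoIsPullback _ _ sqP
  let e2 : Spec C ≅ Spec (CommRingCat.of (SymmetricAlgebra B P)) :=
    Scheme.Spec.mapIso (RingEquiv.toCommRingCatIso ψ.toRingEquiv).op
  refine ⟨P, iP, mP, hPfin, hPproj, e1 ≪≫ e2, ?_⟩
  rw [← sqW.isoIsPullback_hom_snd _ _ sqP, Iso.trans_hom, Category.assoc]
  congr 1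
  change Spec.map _ ≫ Spec.map _ = _
  rw [← Spec.map_comp]
  congr 1
  exact CommRingCat.hom_ext (RingHom.ext fun b => ψ.commutes b)

end Groth.Agent.Mag88
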